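import Cfsg.Agent.Lib.Perm.AltBounded.AltOn

/-!
# Carmichael's presentation of alternating groups, as an extension statement
-/

set_option autoImplicit false

open Equiv Equiv.Perm

namespace CfsgLib.Perm.AltBounded

section bound

variable {ι G : Type*} [DecidableEq ι] [Group G] {x : ι → G}

theorem coset_step (h3 : ∀ i, x i * x i * x i = 1) (hp : ∀ i j, i ≠ j → x i * x j * (x i * x j) = 1)
    {s : Finset ι} {e : ι} (he : e ∉ s) {H : Subgroup G} (hH : ∀ i ∈ s, x i ∈ H)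
    {t : G} (ht : t = 1 ∨ t = x e ∨ t = (x e)⁻¹ ∨ ∃ i ∈ s, t = (x i)⁻¹ * x e)
    {j : ι} (hj : j ∈ insert e s) :
    ∃ t' h, (t' = 1 ∨ t' = x e ∨ t' = (x e)⁻¹ ∨ ∃ i ∈ s, t' = (x i)⁻¹ * x e) ∧ h ∈ H ∧ x j * t = t' * h := by
  have hi : ∀ i, x i * x i = (x i)⁻¹ := fun i => eq_inv_of_mul_eq_one_left (h3 i)
  have hpp : ∀ i j, i ≠ j → x i * x j = (x j)⁻¹ * (x i)⁻¹ := fun i j hij => by
    rw [← mul_inv_rev, eq_inv_iff_mul_eq_one]; exact hp i j hij
  have hne : ∀ i ∈ s, i ≠ e := fun i hi' h => he (h ▸ hi')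
  rcases Finset.mem_insert.1 hj with hje | hjs
  · subst hje
    rcases ht with rfl | rfl | rfl | ⟨i, his, rfl⟩
    · exact ⟨x j, 1, Or.inr (Or.inl rfl), one_mem _, rfl⟩
    · exact ⟨(x j)⁻¹, 1, Or.inr (Or.inr (Or.inl rfl)), one_mem _, by rw [hi, mul_one]⟩
    · exact ⟨1, 1, Or.inl rfl, one_mem _, by simp⟩
    · refine ⟨(x i)⁻¹ * x j, (x i)⁻¹, Or.inr (Or.inr (Or.inr ⟨i, his, rfl⟩)), inv_mem (hH i his), ?_⟩
      -- `x j x i⁻¹ x j = x i⁻¹ x j x i⁻¹`
      have a1 := hpp i j (hne i his)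
      have a2 := hpp j i (hne i his).symm
      calc x j * ((x i)⁻¹ * x j) = x j * (x i * x i) * x j := by rw [hi, mul_assoc]
        _ = (x j * x i) * (x i * x j) := by group
        _ = (x i)⁻¹ * ((x j)⁻¹ * (x j)⁻¹) * (x i)⁻¹ := by rw [a1, a2]; group
        _ = (x i)⁻¹ * x j * (x i)⁻¹ := by rw [← mul_inv_rev, hi, inv_inv]
  · have hje := hne j hjs
    have a1 := hpp j e hje
    have a2 := hpp e j hje.symm
    rcases ht with rfl | rfl | rfl | ⟨i, his, rfl⟩
    · exact ⟨1, x j, Or.inl rfl, hH j hjs, by simp⟩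
    · exact ⟨(x e)⁻¹, (x j)⁻¹, Or.inr (Or.inr (Or.inl rfl)), inv_mem (hH j hjs), a1⟩
    · refine ⟨(x j)⁻¹ * x e, x j, Or.inr (Or.inr (Or.inr ⟨j, hjs, rfl⟩)), hH j hjs, ?_⟩
      calc x j * (x e)⁻¹ = (x j)⁻¹ * (x j * x j) * (x e)⁻¹ := by group
        _ = (x j)⁻¹ * ((x j)⁻¹ * (x e)⁻¹) := by rw [hi, mul_assoc]
        _ = (x j)⁻¹ * x e * x j := by rw [← a2, mul_assoc]
    · by_cases hij : i = j
      · subst hij
        exact ⟨x e, 1, Or.inr (Or.inl rfl), one_mem _, by group⟩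
      refine ⟨(x i)⁻¹ * x e, x j * (x i)⁻¹, Or.inr (Or.inr (Or.inr ⟨i, his, rfl⟩)),
        mul_mem (hH j hjs) (inv_mem (hH i his)), ?_⟩
      have b1 := hpp i j hij
      have b3 := hpp i e (hne i his)
      calc x j * ((x i)⁻¹ * x e) = (x i)⁻¹ * ((x i * x j) * (x i)⁻¹ * x e) := by group
        _ = (x i)⁻¹ * ((x j)⁻¹ * ((x i)⁻¹ * (x i)⁻¹) * x e) := by rw [b1]; group
        _ = (x i)⁻¹ * ((x j)⁻¹ * (x i * x e)) := by rw [← mul_inv_rev, hi, inv_inv, mul_assoc]
        _ = (x i)⁻¹ * ((x j)⁻¹ * (x e)⁻¹ * (x i)⁻¹) := by rw [b3]; group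
        _ = (x i)⁻¹ * (x e * x j * (x i)⁻¹) := by rw [a2]
        _ = _ := by group

theorem card_bound (h3 : ∀ i, x i * x i * x i = 1) (hp : ∀ i j, i ≠ j → x i * x j * (x i * x j) = 1)
    (s : Finset ι) :
    Finite (Subgroup.closure (x '' (s : Set ι))) ∧
      2 * Nat.card (Subgroup.closure (x '' (s : Set ι))) ≤ Nat.factorial (s.card + 2) := by
  classical
  induction s using Finset.induction with
  | empty =>
    rw [Finset.coe_empty, Set.image_empty, Subgroup.closure_empty]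
    exact ⟨inferInstance, by simp [Subgroup.card_bot]⟩
  | insert e s he ih =>
    obtain ⟨hfin, hcard⟩ := ih
    obtain ⟨H, hH⟩ : ∃ H, H = Subgroup.closure (x '' (s : Set ι)) := ⟨_, rfl⟩
    rw [← hH] at hfin hcard
    obtain ⟨R, hR⟩ : ∃ R : Finset G, R = {1, x e, (x e)⁻¹} ∪ s.image fun i => (x i)⁻¹ * x e := ⟨_, rfl⟩
    have hR' : ∀ t, t ∈ R ↔ (t = 1 ∨ t = x e ∨ t = (x e)⁻¹ ∨ ∃ i ∈ s, t = (x i)⁻¹ * x e) := fun t => by
      simp only [hR, Finset.mem_union, Finset.mem_insert, Finset.mem_singleton, Finset.mem_image, or_assoc,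
        eq_comm (a := t)]
    have hHm : ∀ i ∈ s, x i ∈ H := fun i hi => hH ▸ Subgroup.subset_closure ⟨i, hi, rfl⟩
    have hmul : ∀ j ∈ insert e s, ∀ g, (∃ t ∈ R, ∃ h ∈ H, g = t * h) → ∃ t ∈ R, ∃ h ∈ H, x j * g = t * h := by
      rintro j hj _ ⟨t, ht, h, hh, rfl⟩
      obtain ⟨t', h', ht', hh', e'⟩ := coset_step h3 hp he hHm ((hR' t).1 ht) hj
      exact ⟨t', (hR' t').2 ht', h' * h, mul_mem hh' hh, by rw [← mul_assoc, e', mul_assoc]⟩
    have hcover : ∀ g ∈ Subgroup.closure (x '' ((insert e s : Finset ι) : Set ι)), ∃ t ∈ R, ∃ h ∈ H, g = t * h := by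
      intro g hg
      induction hg using Subgroup.closure_induction_left with
      | one => exact ⟨1, (hR' 1).2 (Or.inl rfl), 1, one_mem _, by simp⟩
      | mul_left a ha b _ hb =>
        obtain ⟨j, hj, rfl⟩ := ha
        exact hmul j hj b hb
      | inv_mul_cancel a ha b _ hb =>
        obtain ⟨j, hj, rfl⟩ := ha
        rw [← eq_inv_of_mul_eq_one_left (h3 j), mul_assoc]
        exact hmul j hj _ (hmul j hj b hb)
    have hsub : (Subgroup.closure (x '' ((insert e s : Finset ι) : Set ι)) : Set G) ⊆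
        (fun q : R × H => (q.1 : G) * q.2) '' Set.univ := by
      intro g hg
      obtain ⟨t, ht, h, hh, rfl⟩ := hcover g hg
      exact ⟨(⟨t, ht⟩, ⟨h, hh⟩), trivial, rfl⟩
    have hfs := (Set.finite_univ (α := R × H)).image fun q => (q.1 : G) * q.2
    refine ⟨(hfs.subset hsub).to_subtype, ?_⟩
    have h1 : Nat.card (Subgroup.closure (x '' ((insert e s : Finset ι) : Set ι))) ≤ Nat.card (R × H) := by
      rw [← SetLike.coe_sort_coe, Nat.card_coe_set_eq]
      exact (Set.ncard_le_ncard hsub hfs).trans ((Set.ncard_image_le Set.finite_univ).trans (Set.ncard_univ _).le)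
    rw [Nat.card_prod, Nat.card_eq_fintype_card (α := R), Fintype.card_coe] at h1
    have h2 : R.card ≤ s.card + 3 := by
      rw [hR]
      refine (Finset.card_union_le _ _).trans ?_
      have := Finset.card_image_le (s := s) (f := fun i => (x i)⁻¹ * x e)
      have := Finset.card_le_three (a := (1 : G)) (b := x e) (c := (x e)⁻¹)
      omega
    rw [Finset.card_insert_of_notMem he]
    calc _ ≤ 2 * (R.card * Nat.card H) := Nat.mul_le_mul_left 2 h1
      _ = R.card * (2 * Nat.card H) := by ring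
      _ ≤ (s.card + 3) * Nat.factorial (s.card + 2) := Nat.mul_le_mul h2 hcard
      _ = _ := (Nat.factorial_succ _).symm

end bound

variable {α : Type*} [Fintype α] [DecidableEq α] {G : Type*} [Group G]

/-- Carmichael: elements with his relations give a map multiplicative on `altOn S` -/
theorem exists_homOn (S : Finset α) {A B : α} (hA : A ∈ S) (hB : B ∈ S) (hAB : A ≠ B) (y : α → G)
    (h3 : ∀ i ∈ S, i ≠ A → i ≠ B → y i * y i * y i = 1)
    (hp : ∀ i ∈ S, ∀ j ∈ S, i ≠ A → i ≠ B → j ≠ A → j ≠ B → i ≠ j → y i * y j * (y i * y j) = 1) :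
    ∃ f : Equiv.Perm α → G, IsHomOn (altOn S) f ∧ ∀ i ∈ S, i ≠ A → i ≠ B → f (cyc A B i) = y i := by
  classical
  let J : Finset α := (S.erase A).erase B
  have hJ : ∀ i, i ∈ J ↔ i ∈ S ∧ i ≠ A ∧ i ≠ B := fun i => by
    simp only [J, Finset.mem_erase]; tauto
  have hSle : 2 ≤ S.card := Finset.one_lt_card.2 ⟨A, hA, B, hB, hAB⟩
  have hJc : J.card + 2 = S.card := by
    simp only [J]
    rw [Finset.card_erase_of_mem (Finset.mem_erase.2 ⟨hAB.symm, hB⟩), Finset.card_erase_of_mem hA]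
    omega
  let z : J → Equiv.Perm α × G := fun i => (cyc A B i.1, y i.1)
  have hmem : ∀ i : J, i.1 ∈ S ∧ i.1 ≠ A ∧ i.1 ≠ B := fun i => (hJ i.1).1 i.2
  have z3 : ∀ i, z i * z i * z i = 1 := fun i => by
    obtain ⟨h1, h2, h4⟩ := hmem i
    refine Prod.ext ?_ (h3 _ h1 h2 h4)
    have := (cyc_isThreeCycle hAB h2.symm h4.symm).orderOf
    show cyc A B i.1 * cyc A B i.1 * cyc A B i.1 = 1
    rw [← pow_orderOf_eq_one (cyc A B i.1), this, pow_succ, pow_two]
  have zp : ∀ i j, i ≠ j → z i * z j * (z i * z j) = 1 := fun i j hij => by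
    obtain ⟨h1, h2, h4⟩ := hmem i
    obtain ⟨k1, k2, k4⟩ := hmem j
    have hij' : i.1 ≠ j.1 := fun e => hij (Subtype.ext e)
    refine Prod.ext ?_ (hp _ h1 _ k1 h2 h4 k2 k4 hij')
    show cyc A B i.1 * cyc A B j.1 * (cyc A B i.1 * cyc A B j.1) = 1
    have ev : ∀ v, (cyc A B i.1 * cyc A B j.1) ((cyc A B i.1 * cyc A B j.1) v) = v := fun v => by
      simp only [Perm.mul_apply]
      rcases eq_or_ne v A with rfl | v1
      · rw [cyc_apply_A hAB k2.symm k4.symm, cyc_apply_B h2.symm h4.symm, cyc_apply_of_ne h2 h4 hij',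
          cyc_apply_i]
      rcases eq_or_ne v B with rfl | v2
      · rw [cyc_apply_B k2.symm k4.symm, cyc_apply_of_ne k2 k4 hij'.symm, cyc_apply_i,
          cyc_apply_A hAB h2.symm h4.symm]
      rcases eq_or_ne v j.1 with rfl | v3
      · rw [cyc_apply_i, cyc_apply_A hAB h2.symm h4.symm, cyc_apply_B k2.symm k4.symm,
          cyc_apply_of_ne k2 k4 hij'.symm]
      rcases eq_or_ne v i.1 with rfl | v4
      · rw [cyc_apply_of_ne h2 h4 hij', cyc_apply_i, cyc_apply_A hAB k2.symm k4.symm,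
          cyc_apply_B h2.symm h4.symm]
      rw [cyc_apply_of_ne v1 v2 v3, cyc_apply_of_ne v1 v2 v4, cyc_apply_of_ne v1 v2 v3, cyc_apply_of_ne v1 v2 v4]
    exact Equiv.ext ev
  obtain ⟨hfin, hcard⟩ := card_bound (x := z) z3 zp Finset.univ
  rw [Finset.coe_univ, Set.image_univ, Finset.card_univ, Fintype.card_coe, hJc] at hcard
  rw [Finset.coe_univ, Set.image_univ] at hfin
  obtain ⟨T, hT⟩ : ∃ T, T = Subgroup.closure (Set.range z) := ⟨_, rfl⟩
  rw [← hT] at hcard hfin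
  have hfst : T.map (MonoidHom.fst (Equiv.Perm α) G) = altOn S := by
    rw [hT, MonoidHom.map_closure, ← closure_base S hA hB hAB]
    congr 1
    ext g
    constructor
    · rintro ⟨_, ⟨i, rfl⟩, rfl⟩
      exact ⟨i.1, (hmem i).1, (hmem i).2.1, (hmem i).2.2, rfl⟩
    · rintro ⟨i, h1, h2, h4, rfl⟩
      exact ⟨_, ⟨⟨i, (hJ i).2 ⟨h1, h2, h4⟩⟩, rfl⟩, rfl⟩
  have hS2 : 2 * Nat.card (altOn S) = Nat.factorial S.card := by
    have e : Nat.card (altOn S) = Nat.card (alternatingGroup {v // v ∈ S}) := by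
      refine Nat.card_congr ?_
      refine
        { toFun := fun π => ⟨π.1.subtypePerm (fun v => map_mem_iff π.2 v), ?_⟩
          invFun := fun π => ⟨ofSubtype π.1, by rw [sign_ofSubtype]; exact mem_alternatingGroup.1 π.2,
            fun v hv => ofSubtype_apply_of_not_mem _ hv⟩
          left_inv := fun π => Subtype.ext (ofSubtype_subtypePerm (f := π.1) (fun v => map_mem_iff π.2 v) fun v hv => by
            by_contra h
            exact hv (π.2.2 v h))
          right_inv := fun π => Subtype.ext (subtypePerm_ofSubtype π.1) }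
      rw [mem_alternatingGroup, ← sign_ofSubtype, ofSubtype_subtypePerm (f := π.1) (fun v => map_mem_iff π.2 v) fun v hv => by
        by_contra h
        exact hv (π.2.2 v h)]
      exact π.2.1
    have : Nontrivial {v // v ∈ S} := ⟨⟨⟨A, hA⟩, ⟨B, hB⟩, fun h => hAB (congrArg Subtype.val h)⟩⟩
    rw [e, nat_card_alternatingGroup, Nat.card_eq_fintype_card (α := {v // v ∈ S}), Fintype.card_coe]
    exact Nat.mul_div_cancel' (Nat.dvd_factorial (by omega) hSle)
  let π₁ : T →* altOn S := ((MonoidHom.fst (Equiv.Perm α) G).comp T.subtype).codRestrict (altOn S)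
    fun q => hfst.le (Subgroup.mem_map_of_mem _ q.2)
  have hsurj : Function.Surjective π₁ := fun π => by
    obtain ⟨q, hq, hq'⟩ := Subgroup.mem_map.1 (hfst.ge π.2)
    exact ⟨⟨q, hq⟩, Subtype.ext hq'⟩
  haveI := hfin
  have hbij : Function.Bijective π₁ := (Nat.bijective_iff_surjective_and_card _).2
    ⟨hsurj, le_antisymm (by omega) (Nat.card_le_card_of_surjective _ hsurj)⟩
  let e := (MulEquiv.ofBijective π₁ hbij).symm
  refine ⟨fun π => if h : π ∈ altOn S then (e ⟨π, h⟩).1.2 else 1, fun a ha b hb => ?_, fun i h1 h2 h4 => ?_⟩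
  · simp only [dif_pos ha, dif_pos hb, dif_pos (mul_mem ha hb)]
    rw [show (⟨a * b, mul_mem ha hb⟩ : altOn S) = ⟨a, ha⟩ * ⟨b, hb⟩ from rfl, map_mul]
    rfl
  · dsimp only
    rw [dif_pos (cyc_mem hAB h2.symm h4.symm hA hB h1)]
    have hz : z ⟨i, (hJ i).2 ⟨h1, h2, h4⟩⟩ ∈ T := hT ▸ Subgroup.subset_closure ⟨_, rfl⟩
    rw [show e ⟨cyc A B i, cyc_mem hAB h2.symm h4.symm hA hB h1⟩ = ⟨_, hz⟩ from
      (MulEquiv.ofBijective π₁ hbij).symm_apply_eq.2 (Subtype.ext rfl)]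

end CfsgLib.Perm.AltBounded
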