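import Mathlib

/-!
# A prime in `(n, 2n - 2]`
-/

set_option autoImplicit false

open Nat

namespace CfsgLib.Perm.AltBounded

theorem centralBinom_bound {n : ℕ} (hn : 5 ≤ n)
    (h : ∀ p : ℕ, p.Prime → n < p → 2 * n < p + 2) :
    centralBinom n ≤ (2 * n) ^ sqrt (2 * n) * 4 ^ (2 * n / 3) := by
  let S := {p ∈ Finset.range (2 * n + 1) | Nat.Prime p}
  let f x := x ^ n.centralBinom.factorization x
  have e : ∏ x ∈ S, f x = centralBinom n := by
    rw [← n.prod_pow_factorization_centralBinom]
    refine Finset.prod_filter_of_ne fun p _ hp => ?_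
    contrapose hp
    simp only [f, factorization_eq_zero_of_not_prime n.centralBinom hp, _root_.pow_zero]
  obtain ⟨T, hT⟩ : ∃ T, T = {p ∈ S | p ≤ 2 * n / 3 ∨ p = 2 * n - 1} := ⟨_, rfl⟩
  have e2 : ∏ x ∈ T, f x = centralBinom n := by
    rw [← e, hT]
    refine Finset.prod_filter_of_ne fun p hp hne => ?_
    simp only [S, Finset.mem_filter, Finset.mem_range] at hp
    obtain ⟨hlt, hpr⟩ := hp
    by_contra hcon
    simp only [not_or, not_le] at hcon
    obtain ⟨hb, hne1⟩ := hcon
    refine hne ?_
    have hpn : p ≤ n := by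
      by_contra hpn
      have h2 := h p hpr (by omega)
      have : p = 2 * n := by omega
      rw [this] at hpr
      exact absurd hpr (Nat.not_prime_mul (by norm_num) (by omega))
    simp only [f]
    rw [factorization_centralBinom_of_two_mul_self_lt_three_mul (by omega) hpn
      (by omega), _root_.pow_zero]
  rw [← e2, ← Finset.prod_filter_mul_prod_filter_not T (· ≤ sqrt (2 * n))]
  have hpr : ∀ p ∈ T, p.Prime := fun p hp => by
    simp only [hT, S, Finset.mem_filter] at hp; exact hp.1.2
  have hs1 : 1 ≤ sqrt (2 * n) := Nat.le_sqrt'.2 (by omega)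
  have hA : ∏ x ∈ T with x ≤ sqrt (2 * n), f x ≤ (2 * n) ^ (sqrt (2 * n) - 1) := by
    refine (Finset.prod_le_prod' fun p _ => (?_ : f p ≤ 2 * n)).trans ?_
    · exact pow_factorization_choose_le (by omega)
    rw [Finset.prod_const]
    refine pow_right_mono₀ (by omega) ?_
    refine (Finset.card_le_card (t := Finset.Icc 2 (sqrt (2 * n))) fun x hx => ?_).trans (by rw [card_Icc]; omega)
    obtain ⟨h1, h2⟩ := Finset.mem_filter.1 hx
    exact Finset.mem_Icc.mpr ⟨(hpr x h1).two_le, h2⟩
  have hB : ∏ x ∈ T with ¬ x ≤ sqrt (2 * n), f x ≤ (2 * n) * 4 ^ (2 * n / 3) := by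
    refine (Finset.prod_le_prod' fun p hp => (?_ : f p ≤ p)).trans ?_
    · obtain ⟨h1, h2⟩ := Finset.mem_filter.1 hp
      refine (pow_right_mono₀ (hpr p h1).one_lt.le ?_).trans (pow_one p).le
      exact Nat.factorization_choose_le_one (sqrt_lt'.mp <| not_le.1 h2)
    calc ∏ x ∈ T with ¬ x ≤ sqrt (2 * n), x
        ≤ ∏ x ∈ insert (2 * n - 1) {p ∈ Finset.range (2 * n / 3 + 1) | p.Prime}, x := by
          refine Finset.prod_le_prod_of_subset_of_one_le' ?_ ?_
          · intro x hx
            simp only [hT, S, Finset.mem_filter, Finset.mem_range] at hx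
            obtain ⟨⟨⟨-, hxp⟩, hx'⟩, -⟩ := hx
            rcases hx' with hx' | hx'
            · exact Finset.mem_insert_of_mem (Finset.mem_filter.2 ⟨Finset.mem_range.2 (by omega), hxp⟩)
            · rw [hx']; exact Finset.mem_insert_self _ _
          · intro p hp _
            rcases Finset.mem_insert.1 hp with rfl | hp
            · omega
            · exact (Finset.mem_filter.1 hp).2.one_lt.le
      _ = (2 * n - 1) * primorial (2 * n / 3) := by
          rw [Finset.prod_insert (by simp only [Finset.mem_filter, Finset.mem_range]; omega)]; rfl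
      _ ≤ (2 * n) * 4 ^ (2 * n / 3) := Nat.mul_le_mul (by omega) (primorial_le_four_pow _)
  calc _ ≤ (2 * n) ^ (sqrt (2 * n) - 1) * ((2 * n) * 4 ^ (2 * n / 3)) := Nat.mul_le_mul hA hB
    _ = _ := by rw [← mul_assoc, ← pow_succ, Nat.sub_add_cancel hs1]

theorem prime_succ_step {n q p : ℕ} (hp : p.Prime) (hcov : p + 2 ≤ 2 * q)
    (H : n < q → ∃ p : ℕ, p.Prime ∧ n < p ∧ p + 2 ≤ 2 * n) (hn : n < p) :
    ∃ p : ℕ, p.Prime ∧ n < p ∧ p + 2 ≤ 2 * n := by
  by_cases h : n < q
  · exact H h
  · exact ⟨p, hp, hn, by omega⟩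

/-- a prime `p` with `n < p ≤ 2n - 2` -/
theorem exists_prime_between {n : ℕ} (hn : 4 ≤ n) : ∃ p : ℕ, p.Prime ∧ n < p ∧ p + 2 ≤ 2 * n := by
  rcases lt_or_ge 511 n with h | h
  · by_contra hcon
    simp only [not_exists, not_and, not_le] at hcon
    have h1 : 4 ^ n < n * n.centralBinom := Nat.four_pow_lt_mul_centralBinom n (by omega)
    have h2 := centralBinom_bound (n := n) (by omega) (fun p hp hpn => by have := hcon p hp hpn; omega)
    have h3 := bertrand_main_inequality (show 512 ≤ n by omega)
    rw [mul_assoc] at h3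
    have := Nat.mul_le_mul_left n h2
    omega
  replace h : n < 521 := by omega
  revert h
  refine prime_succ_step (q := 263) (by norm_num) (by norm_num) ?_
  refine prime_succ_step (q := 137) (by norm_num) (by norm_num) ?_
  refine prime_succ_step (q := 73) (by norm_num) (by norm_num) ?_
  refine prime_succ_step (q := 41) (by norm_num) (by norm_num) ?_
  refine prime_succ_step (q := 23) (by norm_num) (by norm_num) ?_
  refine prime_succ_step (q := 13) (by norm_num) (by norm_num) ?_
  refine prime_succ_step (q := 11) (by norm_num) (by norm_num) ?_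
  refine prime_succ_step (q := 7) (by norm_num) (by norm_num) ?_
  refine prime_succ_step (q := 5) (by norm_num) (by norm_num) ?_
  intro h5
  exact ⟨5, by norm_num, h5, by omega⟩

end CfsgLib.Perm.AltBounded
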