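import Mathlib

/-!
# Alternating groups on subsets: generation facts
-/

set_option autoImplicit false

open Equiv Equiv.Perm

namespace CfsgLib.Perm.AltBounded

variable {α : Type*} [Fintype α] [DecidableEq α]

/-- even permutations supported in `S` -/
def altOn (S : Finset α) : Subgroup (Equiv.Perm α) where
  carrier := {π | sign π = 1 ∧ ∀ x, x ∉ S → π x = x}
  one_mem' := ⟨sign_one, fun _ _ => rfl⟩
  mul_mem' := fun {a b} ha hb => ⟨by rw [map_mul, ha.1, hb.1, one_mul],
    fun x hx => by rw [Perm.mul_apply, hb.2 x hx, ha.2 x hx]⟩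
  inv_mem' := fun {a} ha => ⟨by rw [sign_inv, ha.1],
    fun x hx => by rw [Perm.inv_eq_iff_eq, ha.2 x hx]⟩

theorem mem_altOn {S : Finset α} {π : Equiv.Perm α} :
    π ∈ altOn S ↔ sign π = 1 ∧ ∀ x, x ∉ S → π x = x := Iff.rfl

theorem altOn_mono {S T : Finset α} (h : S ⊆ T) : altOn S ≤ altOn T :=
  fun _ hπ => ⟨hπ.1, fun x hx => hπ.2 x fun hxS => hx (h hxS)⟩

theorem altOn_univ : altOn (Finset.univ : Finset α) = alternatingGroup α := by
  ext π
  simp [mem_altOn, mem_alternatingGroup]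

theorem map_mem_iff {S : Finset α} {π : Equiv.Perm α} (hπ : π ∈ altOn S) (x : α) : π x ∈ S ↔ x ∈ S := by
  constructor
  · intro h
    by_contra hx
    rw [hπ.2 x hx] at h
    exact hx h
  · intro hx
    by_contra h
    have := hπ.2 (π x) h
    exact h (by rw [π.injective this]; exact hx)

theorem commute_of_disjoint {S T : Finset α} (hST : Disjoint S T) {x y : Equiv.Perm α} (hx : x ∈ altOn S)
    (hy : y ∈ altOn T) : Commute x y := by
  refine Perm.Disjoint.commute fun i => ?_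
  by_cases hi : i ∈ S
  · exact Or.inr (hy.2 i (Finset.disjoint_left.1 hST hi))
  · exact Or.inl (hx.2 i hi)

/-- the three-cycle `A ↦ B ↦ i ↦ A` -/
def cyc (A B i : α) : Equiv.Perm α := swap A B * swap B i

section cyc

variable {A B i : α} (hAB : A ≠ B) (hAi : A ≠ i) (hBi : B ≠ i)
include hAB hAi hBi

theorem cyc_apply_A : cyc A B i A = B := by
  simp [cyc, swap_apply_of_ne_of_ne hAB hAi]

omit hAB in
theorem cyc_apply_B : cyc A B i B = i := by
  simp [cyc, swap_apply_of_ne_of_ne hAi.symm hBi.symm]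

omit hAB hAi hBi in
theorem cyc_apply_i : cyc A B i i = A := by
  simp [cyc]

omit hAB hAi hBi in
theorem cyc_apply_of_ne {x : α} (hA : x ≠ A) (hB : x ≠ B) (hi : x ≠ i) : cyc A B i x = x := by
  simp [cyc, swap_apply_of_ne_of_ne hB hi, swap_apply_of_ne_of_ne hA hB]

theorem cyc_isThreeCycle : (cyc A B i).IsThreeCycle := by
  rw [cyc, swap_comm A B]
  exact isThreeCycle_swap_mul_swap_same hAB.symm hBi hAi

theorem cyc_mem {S : Finset α} (hA : A ∈ S) (hB : B ∈ S) (hi : i ∈ S) : cyc A B i ∈ altOn S :=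
  ⟨(cyc_isThreeCycle hAB hAi hBi).sign, fun x hx => cyc_apply_of_ne (fun e => hx (e ▸ hA))
    (fun e => hx (e ▸ hB)) (fun e => hx (e ▸ hi))⟩

theorem cyc_rot : cyc A B i = cyc B i A := by
  ext x
  rcases eq_or_ne x A with rfl | h1
  · rw [cyc_apply_A hAB hAi hBi, cyc_apply_i]
  rcases eq_or_ne x B with rfl | h2
  · rw [cyc_apply_B hAi hBi, cyc_apply_A hBi hAB.symm hAi.symm]
  rcases eq_or_ne x i with rfl | h3
  · rw [cyc_apply_i, cyc_apply_B hAB.symm hAi.symm]
  rw [cyc_apply_of_ne h1 h2 h3, cyc_apply_of_ne h2 h3 h1]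

theorem cyc_inv : (cyc A B i)⁻¹ = cyc B A i := by
  ext x
  rw [Perm.inv_eq_iff_eq]
  rcases eq_or_ne x A with rfl | h1
  · rw [cyc_apply_B hBi hAi, cyc_apply_i]
  rcases eq_or_ne x B with rfl | h2
  · rw [cyc_apply_A hAB.symm hBi hAi, cyc_apply_A hAB hAi hBi]
  rcases eq_or_ne x i with rfl | h3
  · rw [cyc_apply_i, cyc_apply_B hAi hBi]
  rw [cyc_apply_of_ne h2 h1 h3, cyc_apply_of_ne h1 h2 h3]

end cyc

theorem cyc_conj (g : Equiv.Perm α) (A B i : α) : g * cyc A B i * g⁻¹ = cyc (g A) (g B) (g i) := by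
  simp only [cyc]
  rw [show g * (swap A B * swap B i) * g⁻¹ = (g * swap A B * g⁻¹) * (g * swap B i * g⁻¹) by group,
    swap_apply_apply g A B, swap_apply_apply g B i]

/-- the three-cycles through two fixed points generate -/
theorem altOn_le_of_base {H : Subgroup (Equiv.Perm α)} {S : Finset α} {A B : α} (hA : A ∈ S) (hB : B ∈ S)
    (hAB : A ≠ B) (hH : ∀ i ∈ S, i ≠ A → i ≠ B → cyc A B i ∈ H) : altOn S ≤ H := by
  have hx : ∀ i ∈ S, i ≠ A → i ≠ B → cyc B A i ∈ H := fun i hi h1 h2 => by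
    rw [← cyc_inv hAB h1.symm h2.symm]; exact inv_mem (hH i hi h1 h2)
  -- cycles through `A`
  have h1 : ∀ i ∈ S, ∀ j ∈ S, A ≠ i → A ≠ j → i ≠ j → cyc A i j ∈ H := by
    intro i hi j hj hAi hAj hij
    by_cases hiB : i = B
    · subst hiB; exact hH j hj hAj.symm hij.symm
    by_cases hjB : j = B
    · subst hjB
      rw [cyc_rot hAi hAB hij, cyc_rot hij hAi.symm hAB.symm]
      exact hx i hi hAi.symm hiB
    -- conjugate
    have e := cyc_conj (cyc A B i) A B j
    rw [cyc_apply_A hAB hAi.symm.symm (Ne.symm hiB), cyc_apply_B hAi (Ne.symm hiB),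
      cyc_apply_of_ne hAj.symm hjB hij.symm] at e
    have hBij : cyc B i j ∈ H :=
      e ▸ mul_mem (mul_mem (hH i hi hAi.symm hiB) (hH j hj hAj.symm hjB)) (inv_mem (hH i hi hAi.symm hiB))
    have e2 := cyc_conj (cyc B A i) A i j
    rw [cyc_apply_B (Ne.symm hiB) hAi, cyc_apply_i, cyc_apply_of_ne hjB hAj.symm hij.symm] at e2
    -- `e2 : g * cyc A i j * g⁻¹ = cyc i B j`
    have hiBj : cyc i B j ∈ H := by rw [← cyc_inv (Ne.symm hiB) (Ne.symm hjB) hij]; exact inv_mem hBij
    have hg := hx i hi hAi.symm hiB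
    have := mul_mem (mul_mem (inv_mem hg) hiBj) hg
    rwa [← e2, show (cyc B A i)⁻¹ * (cyc B A i * cyc A i j * (cyc B A i)⁻¹) * cyc B A i = cyc A i j by group] at this
  have h2 : ∀ i ∈ S, ∀ j ∈ S, ∀ k ∈ S, i ≠ j → i ≠ k → j ≠ k → cyc i j k ∈ H := by
    intro i hi j hj k hk hij hik hjk
    by_cases hiA : i = A
    · subst hiA; exact h1 j hj k hk hij hik hjk
    by_cases hjA : j = A
    · subst hjA; rw [cyc_rot hij hik hjk]; exact h1 k hk i hi hjk hij.symm hik.symm
    by_cases hkA : k = A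
    · subst hkA
      rw [cyc_rot hij hik hjk, cyc_rot hjk hij.symm hik.symm]
      exact h1 i hi j hj hik.symm hjk.symm hij
    have e := cyc_conj (cyc A i j) A i k
    rw [cyc_apply_A (Ne.symm hiA) (Ne.symm hjA) hij, cyc_apply_B (Ne.symm hjA) hij,
      cyc_apply_of_ne hkA hik.symm hjk.symm] at e
    exact e ▸ mul_mem (mul_mem (h1 i hi j hj (Ne.symm hiA) (Ne.symm hjA) hij)
      (h1 i hi k hk (Ne.symm hiA) (Ne.symm hkA) hik))
      (inv_mem (h1 i hi j hj (Ne.symm hiA) (Ne.symm hjA) hij))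
  -- all three-cycles generate
  have key : ∀ π : Equiv.Perm {x // x ∈ S}, π ∈ alternatingGroup {x // x ∈ S} → ofSubtype π ∈ H := by
    intro π hπ
    rw [← closure_three_cycles_eq_alternating] at hπ
    induction hπ using Subgroup.closure_induction with
    | mem c hc =>
      obtain ⟨x, y, z, hxy, hxz, hyz, rfl⟩ : ∃ x y z : {x // x ∈ S}, x ≠ y ∧ x ≠ z ∧ y ≠ z ∧ c = cyc x y z := by
        have hne : c ≠ 1 := hc.ne_one
        obtain ⟨x, hx⟩ : ∃ x, c x ≠ x := by
          by_contra h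
          simp only [not_exists, not_not] at h
          exact hne (Equiv.ext h)
        have h3 : c ^ 3 = 1 := by rw [← hc.orderOf, pow_orderOf_eq_one]
        have hsupp := hc.card_support
        have hxy : x ≠ c x := Ne.symm hx
        have hyz : c x ≠ c (c x) := fun e => hxy (c.injective e)
        have hzx : c (c (c x)) = x := by
          have := DFunLike.congr_fun h3 x
          simpa [pow_succ] using this
        have hxz : x ≠ c (c x) := fun e => hyz (by rw [← e]; exact (congrArg c e).trans hzx)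
        refine ⟨x, c x, c (c x), hxy, hxz, hyz, Equiv.ext fun w => ?_⟩
        rcases eq_or_ne w x with rfl | h1
        · rw [cyc_apply_A hxy hxz hyz]
        rcases eq_or_ne w (c x) with rfl | h2
        · rw [cyc_apply_B hxz hyz]
        rcases eq_or_ne w (c (c x)) with rfl | h3'
        · rw [cyc_apply_i, hzx]
        rw [cyc_apply_of_ne h1 h2 h3']
        have hs : ({x, c x, c (c x)} : Finset {x // x ∈ S}) = c.support := by
          refine Finset.eq_of_subset_of_card_le ?_ ?_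
          · intro v hv
            simp only [Finset.mem_insert, Finset.mem_singleton] at hv
            rw [Perm.mem_support]
            rcases hv with rfl | rfl | rfl
            exacts [hx, hyz.symm, by rw [hzx]; exact hxz]
          · rw [hsupp, Finset.card_insert_of_notMem (by simp [hxy, hxz]),
              Finset.card_insert_of_notMem (by simp [hyz]), Finset.card_singleton]
        by_contra hw
        have : w ∈ c.support := Perm.mem_support.2 hw
        rw [← hs] at this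
        simp [h1, h2, h3'] at this
      have : ofSubtype (cyc x y z) = cyc (x : α) y z := by
        simp [cyc, map_mul, ofSubtype_swap_eq]
      rw [this]
      exact h2 _ x.2 _ y.2 _ z.2 (fun e => hxy (Subtype.ext e)) (fun e => hxz (Subtype.ext e))
        (fun e => hyz (Subtype.ext e))
    | one => rw [map_one]; exact one_mem H
    | mul u v _ _ hu hv => rw [map_mul]; exact mul_mem hu hv
    | inv u _ hu => rw [map_inv]; exact inv_mem hu
  intro π hπ
  have e : ofSubtype (π.subtypePerm (p := fun x => x ∈ S) (fun x => map_mem_iff hπ x)) = π :=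
    ofSubtype_subtypePerm _ fun x hx => by
      by_contra h
      exact hx (hπ.2 x h)
  rw [← e]
  refine key _ ?_
  rw [mem_alternatingGroup, ← sign_ofSubtype, e, hπ.1]

/-- the subgroup generated by the three-cycles through two fixed points -/
theorem closure_base (S : Finset α) {A B : α} (hA : A ∈ S) (hB : B ∈ S) (hAB : A ≠ B) :
    Subgroup.closure {g | ∃ i ∈ S, i ≠ A ∧ i ≠ B ∧ g = cyc A B i} = altOn S := by
  refine le_antisymm ((Subgroup.closure_le _).2 ?_) (altOn_le_of_base hA hB hAB fun i hi h1 h2 =>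
    Subgroup.subset_closure ⟨i, hi, h1, h2, rfl⟩)
  rintro _ ⟨i, hi, h1, h2, rfl⟩
  exact cyc_mem hAB h1.symm h2.symm hA hB hi

/-- an element moving a point of `R` along an orbit spreads `altOn R` over the orbit -/
theorem altOn_le_of_orbit {H : Subgroup (Equiv.Perm α)} {R S : Finset α} (hR : altOn R ≤ H) {e : Equiv.Perm α}
    (he : ∀ x ∈ H, e * x * e⁻¹ ∈ H) {γ f f' : α} (hγ : γ ∈ R) (hf : f ∈ R) (hf' : f' ∈ R) (hff : f ≠ f')
    (hγf : γ ≠ f) (hγf' : γ ≠ f') (hef : e f = f) (hef' : e f' = f')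
    (hS : ∀ i ∈ S, i ∈ R ∨ ∃ j : ℕ, (e ^ j) γ = i) : altOn S ≤ H := by
  refine le_trans (altOn_mono (T := S ∪ {f, f'}) Finset.subset_union_left)
    (altOn_le_of_base (A := f) (B := f') (by simp) (by simp) hff fun i hi h1 h2 => ?_)
  simp only [Finset.mem_union, Finset.mem_insert, Finset.mem_singleton] at hi
  rcases hi with hi | rfl | rfl
  · rcases hS i hi with hiR | ⟨j, hj⟩
    · exact hR (cyc_mem hff h1.symm h2.symm hf hf' hiR)
    · subst hj
      have hfix : ∀ j : ℕ, (e ^ j) f = f ∧ (e ^ j) f' = f' := fun j => by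
        induction j with
        | zero => exact ⟨rfl, rfl⟩
        | succ j ih => rw [pow_succ, Perm.mul_apply, Perm.mul_apply, hef, hef']; exact ih
      have hpow : ∀ (j : ℕ), ∀ x ∈ H, e ^ j * x * (e ^ j)⁻¹ ∈ H := fun j => by
        induction j with
        | zero => simp
        | succ j ih =>
          intro x hx
          rw [show e ^ (j + 1) * x * (e ^ (j + 1))⁻¹ = e * (e ^ j * x * (e ^ j)⁻¹) * e⁻¹ by
            rw [pow_succ']; group]
          exact he _ (ih x hx)
      have := hpow j _ (hR (cyc_mem hff hγf.symm hγf'.symm hf hf' hγ))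
      rwa [cyc_conj, (hfix j).1, (hfix j).2] at this
  · exact absurd rfl h1
  · exact absurd rfl h2

/-- the conjugates of `e` under `altOn R` generate `altOn S` -/
theorem altOn_le_conjugates {R S : Finset α} {e : Equiv.Perm α} {γ f f' : α} (hγ : γ ∈ R) (hf : f ∈ R)
    (hf' : f' ∈ R) (hff : f ≠ f') (hγf : γ ≠ f) (hγf' : γ ≠ f') (hef : e f = f) (hef' : e f' = f')
    (heγ : e γ ≠ γ) (hS : ∀ i ∈ S, i ∈ R ∨ ∃ j : ℕ, (e ^ j) γ = i) (hRS : R ⊆ S) (hsupp : ∀ x, x ∉ S → e x = x)
    (h5 : 5 ≤ S.card) :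
    altOn S ≤ Subgroup.closure {g | ∃ π ∈ altOn R, g = π * e * π⁻¹} := by
  obtain ⟨H, hH⟩ : ∃ H, H = Subgroup.closure {g | ∃ π ∈ altOn R, g = π * e * π⁻¹} := ⟨_, rfl⟩
  rw [← hH]
  have heH : e ∈ H := hH ▸ Subgroup.subset_closure ⟨1, one_mem _, by simp⟩
  -- the normaliser of `H`
  let N : Subgroup (Equiv.Perm α) := Subgroup.normalizer (H : Set (Equiv.Perm α))
  have hRN : altOn R ≤ N := by
    intro π hπ
    have key : ∀ π ∈ altOn R, ∀ x ∈ H, π * x * π⁻¹ ∈ H := by
      intro π hπ x hx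
      conv at hx => rw [hH]
      induction hx using Subgroup.closure_induction with
      | mem g hg =>
        obtain ⟨ρ, hρ, rfl⟩ := hg
        exact hH ▸ Subgroup.subset_closure ⟨π * ρ, mul_mem hπ hρ, by group⟩
      | one => simp
      | mul u v _ _ hu hv => rw [show π * (u * v) * π⁻¹ = π * u * π⁻¹ * (π * v * π⁻¹) by group]; exact mul_mem hu hv
      | inv u _ hu => rw [show π * u⁻¹ * π⁻¹ = (π * u * π⁻¹)⁻¹ by group]; exact inv_mem hu
    exact Subgroup.mem_normalizer_iff.2 fun x => ⟨key π hπ x, fun hx => by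
      have := key _ (inv_mem hπ) _ hx
      rwa [show π⁻¹ * (π * x * π⁻¹) * π⁻¹⁻¹ = x by group] at this⟩
  have heN : e ∈ N := Subgroup.le_normalizer heH
  have hSN : altOn S ≤ N := altOn_le_of_orbit (H := N) hRN
    (fun x hx => mul_mem (mul_mem heN hx) (inv_mem heN)) hγ hf hf' hff hγf hγf' hef hef' hS
  -- a three-cycle
  have h1 : e γ ≠ f := fun h => hγf (e.injective (h.trans hef.symm))
  have h2 : e γ ≠ f' := fun h => hγf' (e.injective (h.trans hef'.symm))
  have hcyc : cyc γ f f' * e⁻¹ * (cyc γ f f')⁻¹ ∈ H := by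
    have : (cyc γ f f' * e * (cyc γ f f')⁻¹)⁻¹ ∈ H :=
      inv_mem (hH ▸ Subgroup.subset_closure ⟨_, cyc_mem hγf hγf' hff hγ hf hf', rfl⟩)
    rwa [show (cyc γ f f' * e * (cyc γ f f')⁻¹)⁻¹ = cyc γ f f' * e⁻¹ * (cyc γ f f')⁻¹ by group] at this
  have h3 : e * cyc γ f f' * e⁻¹ * (cyc γ f f')⁻¹ ∈ H := by
    have := mul_mem heH hcyc
    rwa [← mul_assoc, ← mul_assoc] at this
  rw [cyc_conj, hef, hef', cyc_inv hγf hγf' hff] at h3
  have e3 : cyc (e γ) f f' * cyc f γ f' = cyc γ (e γ) f := by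
    ext x
    rw [Perm.mul_apply]
    rcases eq_or_ne x γ with rfl | x1
    · rw [cyc_apply_B hff hγf', cyc_apply_i, cyc_apply_A (Ne.symm heγ) hγf h1]
    rcases eq_or_ne x f with rfl | x2
    · rw [cyc_apply_A hγf.symm hff hγf', cyc_apply_of_ne (Ne.symm heγ) hγf hγf', cyc_apply_i]
    rcases eq_or_ne x f' with rfl | x3
    · rw [cyc_apply_i, cyc_apply_B h2 hff, cyc_apply_of_ne x1 h2.symm x2]
    rcases eq_or_ne x (e γ) with rfl | x4
    · rw [cyc_apply_of_ne x2 x1 x3, cyc_apply_A h1 h2 hff, cyc_apply_B hγf h1]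
    rw [cyc_apply_of_ne x2 x1 x3, cyc_apply_of_ne x4 x2 x3, cyc_apply_of_ne x1 x4 x2]
  rw [e3] at h3
  -- normal closure
  have hγS : γ ∈ S := hRS hγ
  have heγS : e γ ∈ S := by
    by_contra h
    exact heγ (e.injective (hsupp _ h))
  let ψ : Equiv.Perm {x // x ∈ S} →* Equiv.Perm α := ofSubtype
  let K : Subgroup (alternatingGroup {x // x ∈ S}) :=
    H.comap (ψ.comp (alternatingGroup {x // x ∈ S}).subtype)
  have hψ : ∀ π : alternatingGroup {x // x ∈ S}, ψ π ∈ altOn S := fun π =>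
    ⟨by rw [sign_ofSubtype]; exact mem_alternatingGroup.1 π.2, fun x hx => ofSubtype_apply_of_not_mem _ hx⟩
  have hKn : K.Normal := ⟨fun k hk g => by
    show ψ (g * k * g⁻¹ : alternatingGroup {x // x ∈ S}) ∈ H
    rw [Subgroup.coe_mul, Subgroup.coe_mul, Subgroup.coe_inv, map_mul, map_mul, map_inv]
    exact (Subgroup.mem_normalizer_iff.1 (hSN (hψ g)) (ψ k)).1 hk⟩
  let c : Equiv.Perm {x // x ∈ S} := cyc ⟨γ, hγS⟩ ⟨e γ, heγS⟩ ⟨f, hRS hf⟩
  have hc3 : c.IsThreeCycle := cyc_isThreeCycle (fun h => heγ (congrArg Subtype.val h).symm)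
    (fun h => hγf (congrArg Subtype.val h)) (fun h => h1 (congrArg Subtype.val h))
  have hcK : (⟨c, hc3.mem_alternatingGroup⟩ : alternatingGroup {x // x ∈ S}) ∈ K := by
    show ψ c ∈ H
    simpa [ψ, c, cyc, map_mul, ofSubtype_swap_eq] using h3
  have htop := hc3.alternating_normalClosure (by simpa using h5)
  have hle : (⊤ : Subgroup (alternatingGroup {x // x ∈ S})) ≤ K := by
    rw [← htop]; exact Subgroup.normalClosure_le_normal (by simpa using hcK)
  intro π hπ
  have e' : ψ (π.subtypePerm (p := fun x => x ∈ S) (fun x => map_mem_iff hπ x)) = π :=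
    ofSubtype_subtypePerm _ fun x hx => by
      by_contra h
      exact hx (hπ.2 x h)
  rw [← e']
  exact hle (x := ⟨_, mem_alternatingGroup.2 (by rw [← sign_ofSubtype]; exact e'.symm ▸ hπ.1)⟩) trivial

/-! ### maps multiplicative on a subgroup -/

/-- `f` is multiplicative on `K` -/
def IsHomOn {G : Type*} [Group G] (K : Subgroup (Equiv.Perm α)) (f : Equiv.Perm α → G) : Prop :=
  ∀ x ∈ K, ∀ y ∈ K, f (x * y) = f x * f y

namespace IsHomOn

variable {G : Type*} [Group G] {K : Subgroup (Equiv.Perm α)} {f : Equiv.Perm α → G}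

theorem one (hf : IsHomOn K f) : f 1 = 1 := by
  have := hf 1 K.one_mem 1 K.one_mem
  rw [mul_one] at this
  exact left_eq_mul.1 this

theorem inv (hf : IsHomOn K f) {x : Equiv.Perm α} (hx : x ∈ K) : f x⁻¹ = (f x)⁻¹ :=
  eq_inv_of_mul_eq_one_left (by rw [← hf _ (inv_mem hx) _ hx, inv_mul_cancel, hf.one])

theorem conj (hf : IsHomOn K f) {x y : Equiv.Perm α} (hx : x ∈ K) (hy : y ∈ K) :
    f (x * y * x⁻¹) = f x * f y * (f x)⁻¹ := by
  rw [hf _ (mul_mem hx hy) _ (inv_mem hx), hf _ hx _ hy, hf.inv hx]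

theorem pow (hf : IsHomOn K f) {x : Equiv.Perm α} (hx : x ∈ K) : ∀ n : ℕ, f (x ^ n) = f x ^ n
  | 0 => by simp [hf.one]
  | n + 1 => by rw [pow_succ, pow_succ, hf _ (pow_mem hx n) _ hx, hf.pow hx n]

theorem map_commute (hf : IsHomOn K f) {x y : Equiv.Perm α} (hx : x ∈ K) (hy : y ∈ K) (h : Commute x y) :
    Commute (f x) (f y) := by
  rw [commute_iff_eq, ← hf _ hx _ hy, h.eq, hf _ hy _ hx]

theorem mono (hf : IsHomOn K f) {L : Subgroup (Equiv.Perm α)} (h : L ≤ K) : IsHomOn L f :=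
  fun x hx y hy => hf x (h hx) y (h hy)

theorem commute_closure (hf : IsHomOn K f) {S : Set (Equiv.Perm α)} (hS : S ⊆ K) {g : G}
    (h : ∀ x ∈ S, Commute g (f x)) : ∀ x ∈ Subgroup.closure S, Commute g (f x) := by
  have hK : Subgroup.closure S ≤ K := (Subgroup.closure_le _).2 hS
  intro x hx
  induction hx using Subgroup.closure_induction with
  | mem x hx => exact h x hx
  | one => rw [hf.one]; exact Commute.one_right g
  | mul u v hu hv hu' hv' => rw [hf _ (hK hu) _ (hK hv)]; exact hu'.mul_right hv'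
  | inv u hu hu' => rw [hf.inv (hK hu)]; exact hu'.inv_right

theorem eq_closure {f' : Equiv.Perm α → G} (hf : IsHomOn K f) (hf' : IsHomOn K f') {S : Set (Equiv.Perm α)}
    (hS : S ⊆ K) (h : ∀ x ∈ S, f x = f' x) : ∀ x ∈ Subgroup.closure S, f x = f' x := by
  have hK : Subgroup.closure S ≤ K := (Subgroup.closure_le _).2 hS
  intro x hx
  induction hx using Subgroup.closure_induction with
  | mem x hx => exact h x hx
  | one => rw [hf.one, hf'.one]
  | mul u v hu hv hu' hv' => rw [hf _ (hK hu) _ (hK hv), hf' _ (hK hu) _ (hK hv), hu', hv']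
  | inv u hu hu' => rw [hf.inv (hK hu), hf'.inv (hK hu), hu']

end IsHomOn

end CfsgLib.Perm.AltBounded
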