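import Mathlib

/-!
# Changing the generators of a finite presentation
-/

set_option autoImplicit false

namespace CfsgLib.Perm.AltBounded.Tietze

variable {α : Type*} {H : Type*} [Group H]

/-- a presentation is recognised by a homomorphism back, onto the generators -/
theorem iso_of_back (rels : Set (FreeGroup α)) (g : α → H) (hv : ∀ w ∈ rels, FreeGroup.lift g w = 1)
    (Φ : H →* PresentedGroup rels) (hθΦ : ∀ h, PresentedGroup.toGroup hv (Φ h) = h)
    (hgen : ∀ i, PresentedGroup.of i ∈ Φ.range) :
    ∃ e : PresentedGroup rels ≃* H, ∀ i, e (PresentedGroup.of i) = g i := by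
  have hsurj : Function.Surjective Φ := by
    rw [← MonoidHom.range_eq_top, eq_top_iff, ← PresentedGroup.closure_range_of rels, Subgroup.closure_le]
    rintro _ ⟨i, rfl⟩
    exact hgen i
  have hinv : ∀ x, Φ (PresentedGroup.toGroup hv x) = x := fun x => by
    obtain ⟨h, rfl⟩ := hsurj x
    rw [hθΦ]
  exact ⟨{ toFun := PresentedGroup.toGroup hv, invFun := Φ, left_inv := hinv, right_inv := hθΦ,
           map_mul' := map_mul _ }, fun i => PresentedGroup.toGroup.of hv⟩

/-- pushing a free group map through a homomorphism -/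
theorem lift_comp {γ : Type*} {K : Type*} [Group K] (f : H →* K) (g : γ → H) :
    f.comp (FreeGroup.lift g) = FreeGroup.lift (fun i => f (g i)) :=
  FreeGroup.ext_hom _ _ fun i => by simp

/-- changing to a given generating pair costs two relations -/
theorem to_pair [Fintype α] (rels : Finset (FreeGroup α))
    (e : PresentedGroup (↑rels : Set (FreeGroup α)) ≃* H) {a b : H}
    (hab : Subgroup.closure ({a, b} : Set H) = ⊤) :
    ∃ rels' : Finset (FreeGroup (Fin 2)), rels'.card ≤ rels.card + 2 ∧
      ∃ e' : PresentedGroup (↑rels' : Set (FreeGroup (Fin 2))) ≃* H,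
        e' (PresentedGroup.of 0) = a ∧ e' (PresentedGroup.of 1) = b := by
  classical
  have hr : (FreeGroup.lift ![a, b]).range = ⊤ := by
    rw [FreeGroup.range_lift_eq_closure, ← hab]
    simp [Matrix.range_cons, Matrix.range_empty, Set.pair_comm]
  choose u hu using fun i : α => MonoidHom.range_eq_top.1 hr (e (PresentedGroup.of i))
  have hE : Function.Surjective (e.toMonoidHom.comp (PresentedGroup.mk (↑rels : Set (FreeGroup α)))) :=
    e.surjective.comp (fun x => QuotientGroup.induction_on x fun w => ⟨w, rfl⟩)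
  choose v hv using fun j : Fin 2 => hE (![a, b] j)
  have hcomp : (FreeGroup.lift ![a, b]).comp (FreeGroup.lift u) =
      e.toMonoidHom.comp (PresentedGroup.mk (↑rels : Set (FreeGroup α))) := FreeGroup.ext_hom _ _ fun i => by
    rw [MonoidHom.comp_apply, FreeGroup.lift_apply_of, hu]
    rfl
  let R : Finset (FreeGroup (Fin 2)) := rels.image (FreeGroup.lift u) ∪
    Finset.univ.image (fun j : Fin 2 => FreeGroup.of j * (FreeGroup.lift u (v j))⁻¹)
  have hR : ∀ w ∈ (↑R : Set (FreeGroup (Fin 2))), FreeGroup.lift ![a, b] w = 1 := by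
    intro w hw
    rcases Finset.mem_union.1 (Finset.mem_coe.1 hw) with h | h
    · obtain ⟨r, hr, rfl⟩ := Finset.mem_image.1 h
      rw [← MonoidHom.comp_apply, hcomp, MonoidHom.comp_apply, PresentedGroup.one_of_mem (Finset.mem_coe.2 hr),
        map_one]
    · obtain ⟨j, -, rfl⟩ := Finset.mem_image.1 h
      rw [map_mul, map_inv, FreeGroup.lift_apply_of, ← MonoidHom.comp_apply, hcomp, hv, mul_inv_cancel]
  have hψ : ∀ w ∈ (↑rels : Set (FreeGroup α)),
      FreeGroup.lift (fun i => PresentedGroup.mk (↑R : Set (FreeGroup (Fin 2))) (u i)) w = 1 := by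
    intro w hw
    rw [← lift_comp, MonoidHom.comp_apply]
    exact PresentedGroup.one_of_mem (Finset.mem_coe.2 (Finset.mem_union_left _ (Finset.mem_image_of_mem _ hw)))
  let Φ : H →* PresentedGroup (↑R : Set (FreeGroup (Fin 2))) := (PresentedGroup.toGroup hψ).comp e.symm.toMonoidHom
  have hΦ : ∀ w, Φ (e (PresentedGroup.mk _ w)) = PresentedGroup.mk _ (FreeGroup.lift u w) := fun w => by
    show PresentedGroup.toGroup hψ (e.symm (e (PresentedGroup.mk _ w))) = _
    rw [MulEquiv.symm_apply_apply, ← MonoidHom.comp_apply (PresentedGroup.mk _) (FreeGroup.lift u), lift_comp]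
    rfl
  obtain ⟨e', he'⟩ := iso_of_back _ ![a, b] hR Φ (fun h => by
    obtain ⟨w, rfl⟩ := hE h
    show PresentedGroup.toGroup hR (Φ (e (PresentedGroup.mk _ w))) = e (PresentedGroup.mk _ w)
    rw [hΦ]
    exact DFunLike.congr_fun hcomp w) (fun j => ⟨![a, b] j, by
    conv_lhs => rw [← hv j]
    refine (hΦ (v j)).trans ?_
    refine eq_comm.1 (mul_inv_eq_one.1 ?_)
    have h := PresentedGroup.one_of_mem (rels := (↑R : Set (FreeGroup (Fin 2))))
      (Finset.mem_coe.2 (Finset.mem_union_right _ (Finset.mem_image_of_mem _ (Finset.mem_univ j))))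
    rwa [map_mul, map_inv] at h⟩)
  refine ⟨R, ?_, e', he' 0, he' 1⟩
  refine (Finset.card_union_le _ _).trans (add_le_add Finset.card_image_le ?_)
  exact Finset.card_image_le.trans (by simp)

/-- one redundant generator costs one relation -/
theorem add_gen (rels : Finset (FreeGroup (Fin 2)))
    (e : PresentedGroup (↑rels : Set (FreeGroup (Fin 2))) ≃* H) :
    ∃ rels' : Finset (FreeGroup (Fin 3)), rels'.card ≤ rels.card + 1 ∧
      Nonempty (PresentedGroup (↑rels' : Set (FreeGroup (Fin 3))) ≃* H) := by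
  classical
  let u : Fin 2 → FreeGroup (Fin 3) := fun i => FreeGroup.of i.castSucc
  let g : Fin 3 → H := ![e (PresentedGroup.of 0), e (PresentedGroup.of 1), 1]
  let R : Finset (FreeGroup (Fin 3)) := insert (FreeGroup.of 2) (rels.image (FreeGroup.lift u))
  have hcomp : (FreeGroup.lift g).comp (FreeGroup.lift u) =
      e.toMonoidHom.comp (PresentedGroup.mk (↑rels : Set (FreeGroup (Fin 2)))) := FreeGroup.ext_hom _ _ fun i => by
    fin_cases i <;> simp [u, g, PresentedGroup.of]
  have hR : ∀ w ∈ (↑R : Set (FreeGroup (Fin 3))), FreeGroup.lift g w = 1 := by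
    intro w hw
    rcases Finset.mem_insert.1 (Finset.mem_coe.1 hw) with h | h
    · subst h; simp [g]
    · obtain ⟨r, hr, rfl⟩ := Finset.mem_image.1 h
      rw [← MonoidHom.comp_apply, hcomp, MonoidHom.comp_apply, PresentedGroup.one_of_mem (Finset.mem_coe.2 hr),
        map_one]
  have hψ : ∀ w ∈ (↑rels : Set (FreeGroup (Fin 2))),
      FreeGroup.lift (fun i => PresentedGroup.mk (↑R : Set (FreeGroup (Fin 3))) (u i)) w = 1 := by
    intro w hw
    rw [← lift_comp, MonoidHom.comp_apply]
    exact PresentedGroup.one_of_mem (Finset.mem_coe.2 (Finset.mem_insert_of_mem (Finset.mem_image_of_mem _ hw)))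
  let Φ : H →* PresentedGroup (↑R : Set (FreeGroup (Fin 3))) := (PresentedGroup.toGroup hψ).comp e.symm.toMonoidHom
  have hΦ : ∀ w, Φ (e (PresentedGroup.mk _ w)) = PresentedGroup.mk _ (FreeGroup.lift u w) := fun w => by
    show PresentedGroup.toGroup hψ (e.symm (e (PresentedGroup.mk _ w))) = _
    rw [MulEquiv.symm_apply_apply, ← MonoidHom.comp_apply (PresentedGroup.mk _) (FreeGroup.lift u), lift_comp]
    rfl
  obtain ⟨e', -⟩ := iso_of_back _ g hR Φ (fun h => by
    obtain ⟨x, rfl⟩ := e.surjective h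
    induction x using QuotientGroup.induction_on with
    | H w =>
      show PresentedGroup.toGroup hR (Φ (e (PresentedGroup.mk _ w))) = e (PresentedGroup.mk _ w)
      rw [hΦ]
      exact DFunLike.congr_fun hcomp w) (fun j => by
    fin_cases j
    · exact ⟨e (PresentedGroup.of 0), (hΦ (FreeGroup.of 0)).trans (by simp [u, PresentedGroup.of])⟩
    · exact ⟨e (PresentedGroup.of 1), (hΦ (FreeGroup.of 1)).trans (by simp [u, PresentedGroup.of])⟩
    · exact ⟨1, (map_one Φ).trans (PresentedGroup.one_of_mem (Finset.mem_coe.2 (Finset.mem_insert_self _ _))).symm⟩)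
  exact ⟨R, (Finset.card_insert_le _ _).trans (Nat.succ_le_succ Finset.card_image_le), ⟨e'⟩⟩

/-- presentations of trivial groups -/
theorem trivial_pres [Subsingleton H] :
    ∃ rels : Finset (FreeGroup (Fin 2)), rels.card ≤ 2 ∧
      Nonempty (PresentedGroup (↑rels : Set (FreeGroup (Fin 2))) ≃* H) := by
  classical
  let R : Finset (FreeGroup (Fin 2)) := {FreeGroup.of 0, FreeGroup.of 1}
  obtain ⟨e, -⟩ := iso_of_back (↑R : Set (FreeGroup (Fin 2))) (fun _ => (1 : H)) (fun w _ => Subsingleton.elim _ _) 1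
    (fun h => Subsingleton.elim _ _) (fun j => ⟨1, by
      refine (map_one _).trans (PresentedGroup.one_of_mem (Finset.mem_coe.2 ?_)).symm
      fin_cases j <;> simp [R]⟩)
  exact ⟨R, Finset.card_le_two, ⟨e⟩⟩

end CfsgLib.Perm.AltBounded.Tietze
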