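import Cfsg.Agent.Lib.Perm.AltBounded.Carmichael
import Cfsg.Agent.Lib.Perm.AltBounded.Tietze

/-!
# The alternating groups of degree 3, 4 and 6
-/

set_option autoImplicit false

open Equiv Equiv.Perm

namespace CfsgLib.Perm.AltBounded.AltSmall

theorem flip_sq {G : Type*} [Group G] {a b : G} (e : a * b * (a * b) = 1) : b * a * (b * a) = 1 := by
  calc b * a * (b * a) = a⁻¹ * (a * b * (a * b)) * a := by group
    _ = 1 := by rw [e, mul_one, inv_mul_cancel]

theorem inv_sq {G : Type*} [Group G] {a b : G} (e : a⁻¹ * b⁻¹ * (a⁻¹ * b⁻¹) = 1) : b * a * (b * a) = 1 := by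
  calc b * a * (b * a) = (a⁻¹ * b⁻¹ * (a⁻¹ * b⁻¹))⁻¹ := by group
    _ = 1 := by rw [e, inv_one]

/-- recognition through the three-cycles on a base pair -/
theorem exists_iso {n : ℕ} {A B : Fin n} (hAB : A ≠ B) (rels : Set (FreeGroup (Fin 2)))
    (g : Fin 2 → alternatingGroup (Fin n)) (hv : ∀ w ∈ rels, FreeGroup.lift g w = 1)
    (yw : Fin n → FreeGroup (Fin 2))
    (hy : ∀ i, i ≠ A → i ≠ B → ((FreeGroup.lift g (yw i) : alternatingGroup (Fin n)) : Equiv.Perm (Fin n)) = cyc A B i)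
    (h3 : ∀ i, i ≠ A → i ≠ B →
      PresentedGroup.mk rels (yw i) * PresentedGroup.mk rels (yw i) * PresentedGroup.mk rels (yw i) = 1)
    (hp : ∀ i j, i ≠ A → i ≠ B → j ≠ A → j ≠ B → i ≠ j →
      PresentedGroup.mk rels (yw i) * PresentedGroup.mk rels (yw j) *
        (PresentedGroup.mk rels (yw i) * PresentedGroup.mk rels (yw j)) = 1)
    (hgen : ∀ k, PresentedGroup.of k ∈
      Subgroup.closure (Set.range fun i : {i : Fin n // i ≠ A ∧ i ≠ B} => PresentedGroup.mk rels (yw i))) :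
    Nonempty (PresentedGroup rels ≃* alternatingGroup (Fin n)) := by
  obtain ⟨φ, hφ, hφy⟩ := exists_homOn (Finset.univ : Finset (Fin n)) (Finset.mem_univ A) (Finset.mem_univ B) hAB
    (fun i => PresentedGroup.mk rels (yw i)) (fun i _ => h3 i)
    (fun i _ j _ h1 h2 k1 k2 hij => hp i j h1 h2 k1 k2 hij)
  have hmem : ∀ π : alternatingGroup (Fin n), (π : Equiv.Perm (Fin n)) ∈ altOn (Finset.univ : Finset (Fin n)) :=
    fun π => by rw [altOn_univ]; exact π.2
  let Φ : alternatingGroup (Fin n) →* PresentedGroup rels :=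
    MonoidHom.mk' (fun π => φ π) fun a b => by rw [Subgroup.coe_mul]; exact hφ _ (hmem a) _ (hmem b)
  have homθ : IsHomOn (altOn (Finset.univ : Finset (Fin n)))
      (fun π => ((PresentedGroup.toGroup hv (φ π) : alternatingGroup (Fin n)) : Equiv.Perm (Fin n))) := by
    intro x hx y hy'
    dsimp only
    rw [hφ x hx y hy', map_mul, Subgroup.coe_mul]
  have hid : IsHomOn (altOn (Finset.univ : Finset (Fin n))) (fun π : Equiv.Perm (Fin n) => π) :=
    fun _ _ _ _ => rfl
  have hθΦ : ∀ π, PresentedGroup.toGroup hv (Φ π) = π := fun π => Subtype.ext (by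
    refine homθ.eq_closure hid
      (S := {x : Equiv.Perm (Fin n) | ∃ i ∈ (Finset.univ : Finset (Fin n)), i ≠ A ∧ i ≠ B ∧ x = cyc A B i}) ?_ ?_
      π.val ((closure_base (Finset.univ : Finset (Fin n)) (Finset.mem_univ A) (Finset.mem_univ B) hAB).symm ▸ hmem π)
    · rintro _ ⟨i, hi, h1, h2, rfl⟩
      exact cyc_mem hAB h1.symm h2.symm (Finset.mem_univ _) (Finset.mem_univ _) hi
    · rintro _ ⟨i, hi, h1, h2, rfl⟩
      show ((PresentedGroup.toGroup hv (φ (cyc A B i)) : alternatingGroup (Fin n)) : Equiv.Perm (Fin n)) = _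
      rw [hφy i hi h1 h2]
      exact hy i h1 h2)
  obtain ⟨e, -⟩ := Tietze.iso_of_back rels g hv Φ hθΦ fun k => by
    refine (Subgroup.closure_le _).2 ?_ (hgen k)
    rintro _ ⟨⟨i, h1, h2⟩, rfl⟩
    exact ⟨⟨cyc A B i, mem_alternatingGroup.2 (cyc_isThreeCycle hAB h1.symm h2.symm).sign⟩,
      hφy i (Finset.mem_univ i) h1 h2⟩
  exact ⟨e⟩

/-- a word in the three-cycles for an even permutation -/
theorem exists_word {n : ℕ} {A B : Fin n} (hAB : A ≠ B) {π : Equiv.Perm (Fin n)} (hπ : sign π = 1) :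
    ∃ w : FreeGroup {i : Fin n // i ≠ A ∧ i ≠ B}, FreeGroup.lift (fun i => cyc A B i.val) w = π := by
  have h : π ∈ Subgroup.closure (Set.range fun i : {i : Fin n // i ≠ A ∧ i ≠ B} => cyc A B i.val) :=
    altOn_le_of_base (S := (Finset.univ : Finset (Fin n))) (Finset.mem_univ A) (Finset.mem_univ B) hAB
      (H := Subgroup.closure (Set.range fun i : {i : Fin n // i ≠ A ∧ i ≠ B} => cyc A B i.val))
      (fun i _ h1 h2 => Subgroup.subset_closure ⟨⟨i, h1, h2⟩, rfl⟩)
      ⟨hπ, fun v hv => absurd (Finset.mem_univ v) hv⟩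
  rw [← FreeGroup.range_lift_eq_closure] at h
  exact h

/-- the relation expressing the second generator -/
theorem word_valid {n : ℕ} {A B : Fin n} {g : Fin 2 → alternatingGroup (Fin n)} {yw : Fin n → FreeGroup (Fin 2)}
    (hy : ∀ i, i ≠ A → i ≠ B → ((FreeGroup.lift g (yw i) : alternatingGroup (Fin n)) : Equiv.Perm (Fin n)) = cyc A B i)
    {w : FreeGroup {i : Fin n // i ≠ A ∧ i ≠ B}} {k : Fin 2}
    (hw : FreeGroup.lift (fun i => cyc A B i.val) w = (g k : Equiv.Perm (Fin n))) :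
    FreeGroup.lift g (FreeGroup.of k * (FreeGroup.lift (fun i => yw i.val) w)⁻¹) = 1 := by
  rw [map_mul, map_inv, FreeGroup.lift_apply_of, mul_inv_eq_one, ← Subtype.coe_inj, ← hw,
    ← MonoidHom.comp_apply, Tietze.lift_comp,
    ← Subgroup.coe_subtype (alternatingGroup (Fin n)), ← MonoidHom.comp_apply, Tietze.lift_comp]
  congr 2
  exact funext fun i => (hy i.val i.2.1 i.2.2).symm

theorem word_gen {n : ℕ} {A B : Fin n} (rels : Set (FreeGroup (Fin 2))) {yw : Fin n → FreeGroup (Fin 2)}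
    {w : FreeGroup {i : Fin n // i ≠ A ∧ i ≠ B}} {k : Fin 2}
    (h : FreeGroup.of k * (FreeGroup.lift (fun i => yw i.val) w)⁻¹ ∈ rels) :
    PresentedGroup.of k ∈
      Subgroup.closure (Set.range fun i : {i : Fin n // i ≠ A ∧ i ≠ B} => PresentedGroup.mk rels (yw i)) := by
  have h' := PresentedGroup.one_of_mem h
  rw [map_mul, map_inv, mul_inv_eq_one, ← MonoidHom.comp_apply, Tietze.lift_comp] at h'
  rw [← FreeGroup.range_lift_eq_closure]
  exact ⟨w, h'.symm⟩

/-- degree three -/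
theorem alt_three : ∃ rels : Finset (FreeGroup (Fin 2)), rels.card ≤ 2 ∧
    Nonempty (PresentedGroup (↑rels : Set (FreeGroup (Fin 2))) ≃* alternatingGroup (Fin 3)) := by
  let z : alternatingGroup (Fin 3) := ⟨cyc 0 1 2, mem_alternatingGroup.2 (by simp [cyc, Equiv.Perm.sign_swap])⟩
  let R : Finset (FreeGroup (Fin 2)) := {FreeGroup.of 0 ^ 3, FreeGroup.of 1}
  let g : Fin 2 → alternatingGroup (Fin 3) := ![z, 1]
  have hv : ∀ w ∈ (↑R : Set (FreeGroup (Fin 2))), FreeGroup.lift g w = 1 := by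
    intro w hw
    simp only [R, Finset.coe_insert, Finset.coe_singleton, Set.mem_insert_iff, Set.mem_singleton_iff] at hw
    rcases hw with rfl | rfl
    · rw [map_pow, FreeGroup.lift_apply_of]
      exact Subtype.ext (by decide)
    · rw [FreeGroup.lift_apply_of]; rfl
  have hmem : ∀ x ∈ R, PresentedGroup.mk (↑R : Set (FreeGroup (Fin 2))) x = 1 := fun x hx =>
    PresentedGroup.one_of_mem (Finset.mem_coe.2 hx)
  refine ⟨R, Finset.card_le_two, exists_iso (A := (0 : Fin 3)) (B := 1) (by decide) _ g hv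
    (fun _ => FreeGroup.of 0) ?_ ?_ ?_ ?_⟩
  · intro i h1 h2
    rw [FreeGroup.lift_apply_of]
    fin_cases i <;> first | exact absurd rfl h1 | exact absurd rfl h2 | rfl
  · intro i _ _
    have h := hmem (FreeGroup.of 0 ^ 3) (by simp [R])
    rw [map_pow, pow_succ, pow_two] at h
    exact h
  · intro i j h1 h2 k1 k2 hij
    exfalso
    fin_cases i <;> fin_cases j <;> simp_all
  · intro k
    fin_cases k
    · exact Subgroup.subset_closure ⟨⟨2, by decide, by decide⟩, rfl⟩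
    · have h := hmem (FreeGroup.of 1) (by simp [R])
      show PresentedGroup.of (rels := (↑R : Set (FreeGroup (Fin 2)))) 1 ∈ _
      rw [PresentedGroup.of, h]
      exact one_mem _

/-- degree four -/
theorem alt_four : ∃ rels : Finset (FreeGroup (Fin 2)), rels.card ≤ 4 ∧
    Nonempty (PresentedGroup (↑rels : Set (FreeGroup (Fin 2))) ≃* alternatingGroup (Fin 4)) := by
  let z : alternatingGroup (Fin 4) := ⟨cyc 0 1 2, mem_alternatingGroup.2 (by simp [cyc, Equiv.Perm.sign_swap])⟩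
  let k : alternatingGroup (Fin 4) := ⟨Equiv.swap 0 1 * Equiv.swap 2 3, mem_alternatingGroup.2 (by simp [Equiv.Perm.sign_swap])⟩
  obtain ⟨w, hw⟩ := exists_word (A := (0 : Fin 4)) (B := 1) (by decide) (π := k.val) (mem_alternatingGroup.1 k.2)
  let yw : Fin 4 → FreeGroup (Fin 2) :=
    ![1, 1, FreeGroup.of 0, FreeGroup.of 1 * (FreeGroup.of 0)⁻¹ * (FreeGroup.of 1)⁻¹]
  let P : FreeGroup (Fin 2) := FreeGroup.of 0 * (FreeGroup.of 1 * (FreeGroup.of 0)⁻¹ * (FreeGroup.of 1)⁻¹)
  let R : Finset (FreeGroup (Fin 2)) :=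
    {FreeGroup.of 0 ^ 3, FreeGroup.of 1 ^ 2, P * P, FreeGroup.of 1 * (FreeGroup.lift (fun i => yw i.val) w)⁻¹}
  let g : Fin 2 → alternatingGroup (Fin 4) := ![z, k]
  have hy : ∀ i, i ≠ (0 : Fin 4) → i ≠ 1 →
      ((FreeGroup.lift g (yw i) : alternatingGroup (Fin 4)) : Equiv.Perm (Fin 4)) = cyc 0 1 i := by
    intro i h1 h2
    fin_cases i
    · exact absurd rfl h1
    · exact absurd rfl h2
    · simp [yw, g, z]
    · simp only [yw, g, z, k]
      simp
      decide
  have hv : ∀ x ∈ (↑R : Set (FreeGroup (Fin 2))), FreeGroup.lift g x = 1 := by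
    intro x hx
    simp only [R, Finset.coe_insert, Finset.coe_singleton, Set.mem_insert_iff, Set.mem_singleton_iff] at hx
    rcases hx with rfl | rfl | rfl | rfl
    · rw [map_pow, FreeGroup.lift_apply_of]; exact Subtype.ext (by decide)
    · rw [map_pow, FreeGroup.lift_apply_of]; exact Subtype.ext (by decide)
    · simp only [P, map_mul, map_inv, FreeGroup.lift_apply_of]; exact Subtype.ext (by decide)
    · exact word_valid hy hw
  have hmem : ∀ x ∈ R, PresentedGroup.mk (↑R : Set (FreeGroup (Fin 2))) x = 1 := fun x hx =>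
    PresentedGroup.one_of_mem (Finset.mem_coe.2 hx)
  obtain ⟨Z, hZ⟩ : ∃ Z, Z = PresentedGroup.mk (↑R : Set (FreeGroup (Fin 2))) (FreeGroup.of 0) := ⟨_, rfl⟩
  obtain ⟨K, hK⟩ : ∃ K, K = PresentedGroup.mk (↑R : Set (FreeGroup (Fin 2))) (FreeGroup.of 1) := ⟨_, rfl⟩
  have z3 : Z * Z * Z = 1 := by
    have h := hmem (FreeGroup.of 0 ^ 3) (by simp [R])
    rw [map_pow, pow_succ, pow_two, ← hZ] at h
    exact h
  have hP : Z * (K * Z⁻¹ * K⁻¹) * (Z * (K * Z⁻¹ * K⁻¹)) = 1 := by
    have h := hmem (P * P) (by simp [R])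
    simp only [P, map_mul, map_inv, ← hZ, ← hK] at h
    exact h
  refine ⟨R, Finset.card_le_four, exists_iso (A := (0 : Fin 4)) (B := 1) (by decide) _ g hv yw hy ?_ ?_ ?_⟩
  · intro i h1 h2
    fin_cases i
    · exact absurd rfl h1
    · exact absurd rfl h2
    · simp only [yw]; simp [← hZ, z3]
    · simp only [yw]
      simp only [Fin.reduceFinMk, Matrix.cons_val, map_mul, map_inv, ← hZ, ← hK]
      calc K * Z⁻¹ * K⁻¹ * (K * Z⁻¹ * K⁻¹) * (K * Z⁻¹ * K⁻¹) = K * (Z * Z * Z)⁻¹ * K⁻¹ := by group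
        _ = 1 := by rw [z3, inv_one, mul_one, mul_inv_cancel]
  · intro i j h1 h2 k1 k2 hij
    fin_cases i <;> fin_cases j <;>
      first
      | exact absurd rfl h1
      | exact absurd rfl h2
      | exact absurd rfl k1
      | exact absurd rfl k2
      | exact absurd rfl hij
      | skip
    · simp only [yw, Fin.reduceFinMk, Matrix.cons_val, map_mul, map_inv, ← hZ, ← hK]; exact hP
    · simp only [yw, Fin.reduceFinMk, Matrix.cons_val, map_mul, map_inv, ← hZ, ← hK]; exact flip_sq hP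
  · intro j
    fin_cases j
    · exact Subgroup.subset_closure ⟨⟨2, by decide, by decide⟩, rfl⟩
    · exact word_gen _ (w := w) (by simp [R])

set_option maxRecDepth 20000 in
/-- degree six -/
theorem alt_six : ∃ rels : Finset (FreeGroup (Fin 2)), rels.card ≤ 5 ∧
    Nonempty (PresentedGroup (↑rels : Set (FreeGroup (Fin 2))) ≃* alternatingGroup (Fin 6)) := by
  let z : alternatingGroup (Fin 6) := ⟨cyc 0 1 2, mem_alternatingGroup.2 (by simp [cyc, Equiv.Perm.sign_swap])⟩
  let k : alternatingGroup (Fin 6) :=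
    ⟨Equiv.swap 0 1 * (Equiv.swap 2 3 * Equiv.swap 3 4 * Equiv.swap 4 5),
      mem_alternatingGroup.2 (by simp [Equiv.Perm.sign_swap])⟩
  obtain ⟨w, hw⟩ := exists_word (A := (0 : Fin 6)) (B := 1) (by decide) (π := k.val) (mem_alternatingGroup.1 k.2)
  let a : FreeGroup (Fin 2) := FreeGroup.of 0
  let b : FreeGroup (Fin 2) := FreeGroup.of 1
  let yw : Fin 6 → FreeGroup (Fin 2) :=
    ![1, 1, a, b * a⁻¹ * b⁻¹, b * b * a * (b * b)⁻¹, b * b * b * a⁻¹ * (b * b * b)⁻¹]
  let R : Finset (FreeGroup (Fin 2)) :=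
    {a * a * a, b * b * b * b, a * (b * a⁻¹ * b⁻¹) * (a * (b * a⁻¹ * b⁻¹)),
      a * (b * b * a * (b * b)⁻¹) * (a * (b * b * a * (b * b)⁻¹)),
      FreeGroup.of 1 * (FreeGroup.lift (fun i => yw i.val) w)⁻¹}
  let g : Fin 2 → alternatingGroup (Fin 6) := ![z, k]
  have ga : FreeGroup.lift g a = z := by simp [a, g]
  have gb : FreeGroup.lift g b = k := by simp [b, g]
  have hy : ∀ i, i ≠ (0 : Fin 6) → i ≠ 1 →
      ((FreeGroup.lift g (yw i) : alternatingGroup (Fin 6)) : Equiv.Perm (Fin 6)) = cyc 0 1 i := by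
    intro i h1 h2
    fin_cases i
    · exact absurd rfl h1
    · exact absurd rfl h2
    · simp only [yw, Fin.reduceFinMk, Matrix.cons_val, ga]; rfl
    · simp only [yw, Fin.reduceFinMk, Matrix.cons_val, map_mul, map_inv, ga, gb]; decide
    · simp only [yw, Fin.reduceFinMk, Matrix.cons_val, map_mul, map_inv, ga, gb]; decide
    · simp only [yw, Fin.reduceFinMk, Matrix.cons_val, map_mul, map_inv, ga, gb]; decide
  have hv : ∀ x ∈ (↑R : Set (FreeGroup (Fin 2))), FreeGroup.lift g x = 1 := by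
    intro x hx
    simp only [R, Finset.coe_insert, Finset.coe_singleton, Set.mem_insert_iff, Set.mem_singleton_iff] at hx
    rcases hx with rfl | rfl | rfl | rfl | rfl
    · simp only [map_mul, ga]; exact Subtype.ext (by decide)
    · simp only [map_mul, gb]; exact Subtype.ext (by decide)
    · simp only [map_mul, map_inv, ga, gb]; exact Subtype.ext (by decide)
    · simp only [map_mul, map_inv, ga, gb]; exact Subtype.ext (by decide)
    · exact word_valid hy hw
  have hmem : ∀ x ∈ R, PresentedGroup.mk (↑R : Set (FreeGroup (Fin 2))) x = 1 := fun x hx =>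
    PresentedGroup.one_of_mem (Finset.mem_coe.2 hx)
  obtain ⟨Z, hZ⟩ : ∃ Z, Z = PresentedGroup.mk (↑R : Set (FreeGroup (Fin 2))) a := ⟨_, rfl⟩
  obtain ⟨K, hK⟩ : ∃ K, K = PresentedGroup.mk (↑R : Set (FreeGroup (Fin 2))) b := ⟨_, rfl⟩
  have z3 : Z * Z * Z = 1 := by
    have h := hmem (a * a * a) (by simp [R])
    simp only [map_mul, ← hZ] at h
    exact h
  have k4 : K * K * K * K = 1 := by
    have h := hmem (b * b * b * b) (by simp [R])
    simp only [map_mul, ← hK] at h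
    exact h
  have hP : Z * (K * Z⁻¹ * K⁻¹) * (Z * (K * Z⁻¹ * K⁻¹)) = 1 := by
    have h := hmem (a * (b * a⁻¹ * b⁻¹) * (a * (b * a⁻¹ * b⁻¹))) (by simp [R])
    simp only [map_mul, map_inv, ← hK, ← hZ] at h
    exact h
  have hQ : Z * (K * K * Z * (K * K)⁻¹) * (Z * (K * K * Z * (K * K)⁻¹)) = 1 := by
    have h := hmem (a * (b * b * a * (b * b)⁻¹) * (a * (b * b * a * (b * b)⁻¹))) (by simp [R])
    simp only [map_mul, map_inv, ← hK, ← hZ] at h
    exact h
  obtain ⟨x3, hx3⟩ : ∃ x, x = K * Z⁻¹ * K⁻¹ := ⟨_, rfl⟩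
  obtain ⟨x4, hx4⟩ : ∃ x, x = K * K * Z * (K * K)⁻¹ := ⟨_, rfl⟩
  obtain ⟨x5, hx5⟩ : ∃ x, x = K * K * K * Z⁻¹ * (K * K * K)⁻¹ := ⟨_, rfl⟩
  have c3 : x3 * x3 * x3 = 1 := by
    calc x3 * x3 * x3 = K * (Z * Z * Z)⁻¹ * K⁻¹ := by rw [hx3]; group
      _ = 1 := by rw [z3, inv_one, mul_one, mul_inv_cancel]
  have c4 : x4 * x4 * x4 = 1 := by
    calc x4 * x4 * x4 = K * K * (Z * Z * Z) * (K * K)⁻¹ := by rw [hx4]; group
      _ = 1 := by rw [z3, mul_one, mul_inv_cancel]
  have c5 : x5 * x5 * x5 = 1 := by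
    calc x5 * x5 * x5 = K * K * K * (Z * Z * Z)⁻¹ * (K * K * K)⁻¹ := by rw [hx5]; group
      _ = 1 := by rw [z3, inv_one, mul_one, mul_inv_cancel]
  have p23 : Z * x3 * (Z * x3) = 1 := hx3 ▸ hP
  have p24 : Z * x4 * (Z * x4) = 1 := hx4 ▸ hQ
  have conj : ∀ (c u v : PresentedGroup (↑R : Set (FreeGroup (Fin 2)))), u * v * (u * v) = 1 → c * u * c⁻¹ * (c * v * c⁻¹) * (c * u * c⁻¹ * (c * v * c⁻¹)) = 1 :=
    fun (c u v : PresentedGroup (↑R : Set (FreeGroup (Fin 2)))) e => by
      calc c * u * c⁻¹ * (c * v * c⁻¹) * (c * u * c⁻¹ * (c * v * c⁻¹)) = c * (u * v * (u * v)) * c⁻¹ := by group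
        _ = 1 := by rw [e, mul_one, mul_inv_cancel]
  have p34 : x4 * x3 * (x4 * x3) = 1 := by
    refine inv_sq ?_
    have h := conj K _ _ p23
    rw [show K * Z * K⁻¹ = x3⁻¹ by rw [hx3]; simp only [mul_inv_rev, inv_inv, mul_assoc], show K * x3 * K⁻¹ = x4⁻¹ by rw [hx3, hx4]; simp only [mul_inv_rev, inv_inv, mul_assoc]] at h
    exact h
  have p35 : x5 * x3 * (x5 * x3) = 1 := by
    refine inv_sq ?_
    have h := conj K _ _ p24
    rw [show K * Z * K⁻¹ = x3⁻¹ by rw [hx3]; simp only [mul_inv_rev, inv_inv, mul_assoc], show K * x4 * K⁻¹ = x5⁻¹ by rw [hx4, hx5]; simp only [mul_inv_rev, inv_inv, mul_assoc]] at h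
    exact h
  have p45 : x4 * x5 * (x4 * x5) = 1 := by
    have h := conj (K * K) _ _ p23
    rwa [show K * K * Z * (K * K)⁻¹ = x4 from hx4.symm,
      show K * K * x3 * (K * K)⁻¹ = x5 by rw [hx3, hx5]; simp only [mul_inv_rev, inv_inv, mul_assoc]] at h
  have p25 : Z * x5 * (Z * x5) = 1 := by
    refine inv_sq ?_
    have h := conj (K * K * K) _ _ p23
    rw [show K * K * K * Z * (K * K * K)⁻¹ = x5⁻¹ by rw [hx5]; simp only [mul_inv_rev, inv_inv, mul_assoc],
      show K * K * K * x3 * (K * K * K)⁻¹ = (K * K * K * K) * Z⁻¹ * (K * K * K * K)⁻¹ by rw [hx3]; simp only [mul_inv_rev, inv_inv, mul_assoc],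
      k4, one_mul, inv_one, mul_one] at h
    exact h
  refine ⟨R, Finset.card_le_five, exists_iso (A := (0 : Fin 6)) (B := 1) (by decide) _ g hv yw hy ?_ ?_ ?_⟩
  · intro i h1 h2
    fin_cases i <;> first
      | exact absurd rfl h1
      | exact absurd rfl h2
      | (simp only [yw, Fin.reduceFinMk, Matrix.cons_val, map_mul, map_inv, ← hZ, ← hK, ← hx3, ← hx4, ← hx5]
         first | exact z3 | exact c3 | exact c4 | exact c5)
  · intro i j h1 h2 k1 k2 hij
    fin_cases i <;> fin_cases j <;> first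
      | exact absurd rfl h1
      | exact absurd rfl h2
      | exact absurd rfl k1
      | exact absurd rfl k2
      | exact absurd rfl hij
      | (simp only [yw, Fin.reduceFinMk, Matrix.cons_val, map_mul, map_inv, ← hZ, ← hK, ← hx3, ← hx4, ← hx5]
         first
           | exact p23 | exact flip_sq p23 | exact p24 | exact flip_sq p24 | exact p25 | exact flip_sq p25
           | exact p34 | exact flip_sq p34 | exact p35 | exact flip_sq p35 | exact p45 | exact flip_sq p45)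
  · intro j
    fin_cases j
    · exact Subgroup.subset_closure ⟨⟨2, by decide, by decide⟩, rfl⟩
    · exact word_gen _ (w := w) (by simp [R])

end CfsgLib.Perm.AltBounded.AltSmall
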