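import Cfsg.Agent.S2530
import Cfsg.Agent.Lib.Perm.AltBounded.Tietze

/-!
# The symmetric group on a transposition and a cycle
-/

set_option autoImplicit false

namespace CfsgLib.Perm.AltBounded.SymCyc

theorem coxA_apply {n : ℕ} (i j : Fin n) : CoxeterMatrix.A n i j =
    if i = j then 1 else if j.val + 1 = i.val ∨ i.val + 1 = j.val then 3 else 2 := rfl

theorem flip_sq {G : Type*} [Group G] {a b : G} (e : (a * b) ^ 2 = 1) : (b * a) ^ 2 = 1 := by
  calc (b * a) ^ 2 = a⁻¹ * (a * b) ^ 2 * a := by rw [pow_two, pow_two]; group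
    _ = 1 := by rw [e, mul_one, inv_mul_cancel]

theorem flip_cube {G : Type*} [Group G] {a b : G} (e : (a * b) ^ 3 = 1) : (b * a) ^ 3 = 1 := by
  calc (b * a) ^ 3 = a⁻¹ * (a * b) ^ 3 * a := by simp only [pow_succ, pow_zero]; group
    _ = 1 := by rw [e, mul_one, inv_mul_cancel]

/-- the symmetric group of degree `k + 2` with about `k / 2 + 4` relations -/
theorem exists_pres (k : ℕ) : ∃ rels : Finset (FreeGroup (Fin 2)), rels.card ≤ 4 + k / 2 ∧
    Nonempty (PresentedGroup (↑rels : Set (FreeGroup (Fin 2))) ≃* Equiv.Perm (Fin (k + 2))) := by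
  classical
  obtain ⟨cs, hcs⟩ := Cfsg.Agent.S2530.result (k + 1)
  let f : Fin (k + 1) → Equiv.Perm (Fin (k + 2)) := fun i => Equiv.swap i.castSucc i.succ
  have hfr : (FreeGroup.lift f).range = ⊤ := by
    rw [FreeGroup.range_lift_eq_closure, ← cs.subgroup_closure_range_simple]
    congr 1
    exact congrArg Set.range (funext fun i => (hcs i).symm)
  obtain ⟨w, hw⟩ := MonoidHom.range_eq_top.1 hfr (finRotate (k + 2))
  let u : Fin (k + 1) → FreeGroup (Fin 2) := fun i =>
    FreeGroup.of 1 ^ i.val * FreeGroup.of 0 * (FreeGroup.of 1 ^ i.val)⁻¹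
  let R : Finset (FreeGroup (Fin 2)) :=
    ({FreeGroup.of 0 ^ 2, FreeGroup.of 1 ^ (k + 2),
      (FreeGroup.of 0 * (FreeGroup.of 1 * FreeGroup.of 0 * (FreeGroup.of 1)⁻¹)) ^ 3,
      FreeGroup.of 1 * (FreeGroup.lift u w)⁻¹} : Finset (FreeGroup (Fin 2))) ∪
    (Finset.range (k / 2)).image fun d =>
      (FreeGroup.of 0 * (FreeGroup.of 1 ^ (d + 2) * FreeGroup.of 0 * (FreeGroup.of 1 ^ (d + 2))⁻¹)) ^ 2
  let g : Fin 2 → Equiv.Perm (Fin (k + 2)) := ![Equiv.swap 0 1, finRotate (k + 2)]
  have hgu : ∀ i : Fin (k + 1), FreeGroup.lift g (u i) = f i := by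
    intro i
    have key : ∀ (j : ℕ), j ≤ k → ∀ v : Fin (k + 2), v.val ≤ 1 → ((finRotate (k + 2) ^ j) v).val = v.val + j := by
      intro j
      induction j with
      | zero => intro _ v _; rfl
      | succ j ih =>
        intro hj v hv
        rw [pow_succ', Equiv.Perm.mul_apply, finRotate_succ_apply, Fin.val_add_one, ih (by omega) v hv]
        rw [if_neg]
        · omega
        · intro h
          have := congrArg Fin.val h
          rw [ih (by omega) v hv, Fin.val_last] at this
          omega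
    have hi := i.2
    simp only [u, map_mul, map_inv, map_pow, FreeGroup.lift_apply_of, g, Matrix.cons_val_zero, Matrix.cons_val_one]
    rw [← Equiv.swap_apply_apply]
    simp only [f]
    congr 1 <;> apply Fin.ext
    · rw [key _ (by omega) _ (by simp)]; simp
    · rw [key _ (by omega) _ (by simp)]; simp; omega
  have hgr : FreeGroup.lift g (FreeGroup.lift u w) = finRotate (k + 2) := by
    rw [← MonoidHom.comp_apply, Tietze.lift_comp]
    simp only [hgu]
    exact hw
  have hv : ∀ x ∈ (↑R : Set (FreeGroup (Fin 2))), FreeGroup.lift g x = 1 := by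
    intro x hx
    simp only [R, Finset.coe_union, Finset.coe_insert, Finset.coe_singleton, Finset.coe_image, Set.mem_union,
      Set.mem_insert_iff, Set.mem_singleton_iff, Set.mem_image] at hx
    have hsimple : ∀ i, f i = cs.simple i := fun i => (hcs i).symm
    rcases hx with (rfl | rfl | rfl | rfl) | ⟨d, hd, rfl⟩
    · simp [g, pow_two]
    · rw [map_pow, FreeGroup.lift_apply_of]
      show finRotate (k + 2) ^ (k + 2) = 1
      have h := (isCycle_finRotate (n := k)).orderOf
      rw [support_finRotate, Finset.card_univ, Fintype.card_fin] at h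
      exact orderOf_dvd_iff_pow_eq_one.1 h.dvd
    · rw [map_pow, map_mul]
      rcases Nat.eq_zero_or_pos k with rfl | hk
      · decide
      · have e0 : FreeGroup.of (0 : Fin 2) = u 0 := by simp [u]
        have e1 : FreeGroup.of 1 * FreeGroup.of 0 * (FreeGroup.of (1 : Fin 2))⁻¹ = u ⟨1, by omega⟩ := by simp [u]
        rw [e1, e0, hgu, hgu, hsimple, hsimple]
        have h := cs.simple_mul_simple_pow 0 ⟨1, by omega⟩
        rw [coxA_apply, if_neg (by simp [Fin.ext_iff]), if_pos (Or.inr (by simp))] at h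
        exact h
    · rw [map_mul, map_inv, hgr, FreeGroup.lift_apply_of]
      exact mul_inv_cancel _
    · rw [Finset.coe_range, Set.mem_Iio] at hd
      rw [map_pow, map_mul]
      have e0 : FreeGroup.of (0 : Fin 2) = u 0 := by simp [u]
      have e1 : FreeGroup.of 1 ^ (d + 2) * FreeGroup.of 0 * (FreeGroup.of (1 : Fin 2) ^ (d + 2))⁻¹ =
          u ⟨d + 2, by omega⟩ := rfl
      rw [e1, e0, hgu, hgu, hsimple, hsimple]
      have h := cs.simple_mul_simple_pow 0 ⟨d + 2, by omega⟩
      rw [coxA_apply, if_neg (by simp [Fin.ext_iff]), if_neg (by simp)] at h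
      exact h
  obtain ⟨s, hs⟩ : ∃ s, s = PresentedGroup.of (rels := (↑R : Set (FreeGroup (Fin 2)))) 0 := ⟨_, rfl⟩
  obtain ⟨r, hr⟩ : ∃ r, r = PresentedGroup.of (rels := (↑R : Set (FreeGroup (Fin 2)))) 1 := ⟨_, rfl⟩
  have hmem : ∀ x ∈ R, PresentedGroup.mk (↑R : Set (FreeGroup (Fin 2))) x = 1 := fun x hx =>
    PresentedGroup.one_of_mem (Finset.mem_coe.2 hx)
  have q0 : s ^ 2 = 1 := by
    have h := hmem (FreeGroup.of 0 ^ 2) (by simp [R])
    rw [map_pow] at h; rw [hs]; exact h
  have q1 : r ^ (k + 2) = 1 := by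
    have h := hmem (FreeGroup.of 1 ^ (k + 2)) (by simp [R])
    rw [map_pow] at h; rw [hr]; exact h
  have q2 : (s * (r * s * r⁻¹)) ^ 3 = 1 := by
    have h := hmem ((FreeGroup.of 0 * (FreeGroup.of 1 * FreeGroup.of 0 * (FreeGroup.of 1)⁻¹)) ^ 3) (by simp [R])
    simp only [map_pow, map_mul, map_inv] at h; rw [hr, hs]; exact h
  have q3 : ∀ d, d < k / 2 → (s * (r ^ (d + 2) * s * (r ^ (d + 2))⁻¹)) ^ 2 = 1 := fun d hd => by
    have h := hmem _ (Finset.mem_union_right _ (Finset.mem_image_of_mem _ (Finset.mem_range.2 hd)))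
    simp only [map_pow, map_mul, map_inv] at h; rw [hr, hs]; exact h
  have far : ∀ d, 2 ≤ d → d ≤ k → (s * (r ^ d * s * (r ^ d)⁻¹)) ^ 2 = 1 := by
    intro d h1 h2
    rcases Nat.lt_or_ge (d - 2) (k / 2) with h | h
    · have := q3 (d - 2) h
      rwa [show d - 2 + 2 = d by omega] at this
    · obtain ⟨d', hd'⟩ : ∃ d', d + d' = k + 2 := ⟨k + 2 - d, by omega⟩
      have h3 : (s * (r ^ d' * s * (r ^ d')⁻¹)) ^ 2 = 1 := by
        have := q3 (d' - 2) (by omega)
        rwa [show d' - 2 + 2 = d' by omega] at this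
      have e : r ^ d = (r ^ d')⁻¹ := eq_inv_of_mul_eq_one_left (by rw [← pow_add, hd', q1])
      rw [e]
      apply flip_sq
      calc ((r ^ d')⁻¹ * s * (r ^ d')⁻¹⁻¹ * s) ^ 2
          = (r ^ d')⁻¹ * ((s * (r ^ d' * s * (r ^ d')⁻¹)) ^ 2) * r ^ d' := by
            simp only [pow_two]; group
        _ = 1 := by rw [h3, mul_one, inv_mul_cancel]
  let S : Fin (k + 1) → PresentedGroup (↑R : Set (FreeGroup (Fin 2))) := fun i => r ^ i.val * s * (r ^ i.val)⁻¹
  have shift : ∀ i j : Fin (k + 1), i.val ≤ j.val →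
      S i * S j = r ^ i.val * (s * (r ^ (j.val - i.val) * s * (r ^ (j.val - i.val))⁻¹)) * (r ^ i.val)⁻¹ := by
    intro i j h
    obtain ⟨d, hd⟩ : ∃ d, j.val = i.val + d := ⟨j.val - i.val, by omega⟩
    simp only [S, hd, Nat.add_sub_cancel_left, pow_add]
    group
  have hle : ∀ i j : Fin (k + 1), i.val ≤ j.val → (S i * S j) ^ (CoxeterMatrix.A (k + 1) i j) = 1 := by
    intro i j h
    rw [shift i j h, conj_pow, coxA_apply]
    have := j.2
    split_ifs with h1 h2
    · subst h1
      rw [pow_one, Nat.sub_self, pow_zero, one_mul, inv_one, mul_one, ← pow_two, q0, mul_one, mul_inv_cancel]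
    · rw [show j.val - i.val = 1 by omega, pow_one, q2, mul_one, mul_inv_cancel]
    · have hne : i.val ≠ j.val := fun e => h1 (Fin.ext e)
      rw [far _ (by omega) (by omega), mul_one, mul_inv_cancel]
  have hlift : (CoxeterMatrix.A (k + 1)).IsLiftable S := by
    intro i j
    rcases le_total i.val j.val with h | h
    · exact hle i j h
    · have h' := hle j i h
      rw [CoxeterMatrix.symmetric] at h'
      have h'' := congrArg (fun x => (S j)⁻¹ * x * S j) h'
      simp only [mul_one, inv_mul_cancel] at h''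
      rw [← h'']
      generalize CoxeterMatrix.A (k + 1) i j = M
      rw [show S i * S j = (S j)⁻¹ * (S j * S i) * S j by group]
      conv_lhs => rw [show (S j)⁻¹ * (S j * S i) * S j = (S j)⁻¹ * (S j * S i) * (S j)⁻¹⁻¹ by group]
      rw [conj_pow, inv_inv]
  let Φ := cs.lift ⟨S, hlift⟩
  have hΦ : ∀ i, Φ (f i) = S i := fun i => by
    rw [show f i = cs.simple i from (hcs i).symm]; exact cs.lift_apply_simple hlift i
  have hSu : ∀ i, PresentedGroup.mk (↑R : Set (FreeGroup (Fin 2))) (u i) = S i := fun i => by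
    simp only [u, S, hs, hr, map_mul, map_inv, map_pow]; rfl
  have hid : (PresentedGroup.toGroup hv).comp Φ = MonoidHom.id _ := cs.ext_simple fun i => by
    rw [MonoidHom.comp_apply, ← show f i = cs.simple i from (hcs i).symm, hΦ, ← hSu]
    exact hgu i
  obtain ⟨e, -⟩ := Tietze.iso_of_back _ g hv Φ (fun h => DFunLike.congr_fun hid h) (fun j => by
    fin_cases j
    · exact ⟨f 0, by rw [hΦ]; simp [S, hs]⟩
    · refine ⟨finRotate (k + 2), ?_⟩
      have h := hmem (FreeGroup.of 1 * (FreeGroup.lift u w)⁻¹) (by simp [R])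
      rw [map_mul, map_inv, mul_inv_eq_one, ← MonoidHom.comp_apply, Tietze.lift_comp] at h
      refine Eq.trans ?_ h.symm
      rw [← hw, ← MonoidHom.comp_apply, Tietze.lift_comp]
      simp only [hΦ, hSu])
  refine ⟨R, ?_, ⟨e⟩⟩
  exact (Finset.card_union_le _ _).trans (add_le_add Finset.card_le_four (Finset.card_image_le.trans (by simp)))

end CfsgLib.Perm.AltBounded.SymCyc
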