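import Cfsg.Agent.Lib.Perm.AltBounded.Main
import Cfsg.Agent.Lib.Perm.AltBounded.PrimeGap
import Cfsg.Agent.Lib.Perm.AltBounded.SymCyc
import Cfsg.Agent.Lib.Perm.AltBounded.AltSmall

/-!
# Six relations for every symmetric and alternating group of degree at least five
-/

set_option autoImplicit false

namespace CfsgLib.Perm.AltBounded

theorem exists_split {n : ℕ} (hn : 5 ≤ n) (h6 : n ≠ 6) : ∃ p m : ℕ, p.Prime ∧ m + 3 ≤ p ∧ n = p + 2 + m := by
  rcases Nat.lt_or_ge n 7 with h | h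
  · exact ⟨3, 0, Nat.prime_three, le_rfl, by omega⟩
  obtain ⟨N, hN⟩ : ∃ N, N = n / 2 := ⟨_, rfl⟩
  rcases Nat.even_or_odd' n with ⟨K, rfl | rfl⟩
  · obtain ⟨p, hp, h1, h2⟩ := exists_prime_between (n := K) (by omega)
    exact ⟨p, 2 * K - p - 2, hp, by omega, by omega⟩
  · obtain ⟨p, hp, h1, h2⟩ := Nat.exists_prime_lt_and_le_two_mul K (by omega)
    have := hp.eq_two_or_odd
    exact ⟨p, 2 * K + 1 - p - 2, hp, by omega, by omega⟩

theorem sym_six_rels {n : ℕ} (hn : 5 ≤ n) : ∃ rels : Finset (FreeGroup (Fin 2)), rels.card ≤ 6 ∧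
    Nonempty (PresentedGroup (↑rels : Set (FreeGroup (Fin 2))) ≃* Equiv.Perm (Fin n)) := by
  by_cases h6 : n = 6
  · subst h6
    obtain ⟨R, h1, h2⟩ := SymCyc.exists_pres 4
    exact ⟨R, h1.trans (by norm_num), h2⟩
  obtain ⟨p, m, hp, hm, rfl⟩ := exists_split hn h6
  let P : Par := ⟨p, m, if m % 2 = 1 then 0 else 1, hp, hm⟩
  refine ⟨P.rels, P.card_rels, P.sym_presentation ?_⟩
  show ¬ ((if m % 2 = 1 then 0 else 1) = 1 ↔ m % 2 = 1)
  split_ifs with h <;> simp [h]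

theorem alt_six_rels {n : ℕ} (hn : 5 ≤ n) : ∃ rels : Finset (FreeGroup (Fin 2)), rels.card ≤ 6 ∧
    Nonempty (PresentedGroup (↑rels : Set (FreeGroup (Fin 2))) ≃* alternatingGroup (Fin n)) := by
  by_cases h6 : n = 6
  · subst h6
    obtain ⟨R, h1, h2⟩ := AltSmall.alt_six
    exact ⟨R, h1.trans (by norm_num), h2⟩
  obtain ⟨p, m, hp, hm, rfl⟩ := exists_split hn h6
  let P : Par := ⟨p, m, if m % 2 = 1 then 1 else 0, hp, hm⟩
  refine ⟨P.rels, P.card_rels, P.alt_presentation ?_⟩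
  show ((if m % 2 = 1 then 1 else 0) = 1 ↔ m % 2 = 1)
  split_ifs with h <;> simp [h]

theorem sym_alt_two_gen (n : ℕ) :
    (∃ rels : Finset (FreeGroup (Fin 2)), rels.card ≤ 6 ∧
      Nonempty (PresentedGroup (↑rels : Set (FreeGroup (Fin 2))) ≃* Equiv.Perm (Fin n))) ∧
    (∃ rels : Finset (FreeGroup (Fin 2)), rels.card ≤ 6 ∧
      Nonempty (PresentedGroup (↑rels : Set (FreeGroup (Fin 2))) ≃* alternatingGroup (Fin n))) := by
  rcases Nat.lt_or_ge n 5 with hn | hn
  · refine ⟨?_, ?_⟩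
    · rcases Nat.lt_or_ge n 2 with h | h
      · haveI : Subsingleton (Fin n) := Fin.subsingleton_iff_le_one.2 (by omega)
        haveI : Subsingleton (Equiv.Perm (Fin n)) := ⟨fun a b => Equiv.ext fun i => Subsingleton.elim _ _⟩
        obtain ⟨R, h1, h2⟩ := Tietze.trivial_pres (H := Equiv.Perm (Fin n))
        exact ⟨R, h1.trans (by norm_num), h2⟩
      · obtain ⟨k, rfl⟩ : ∃ k, n = k + 2 := ⟨n - 2, by omega⟩
        obtain ⟨R, h1, h2⟩ := SymCyc.exists_pres k
        exact ⟨R, h1.trans (by omega), h2⟩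
    · rcases Nat.lt_or_ge n 3 with h | h
      · haveI : Subsingleton (alternatingGroup (Fin n)) := by
          interval_cases n <;> exact ⟨by decide⟩
        obtain ⟨R, h1, h2⟩ := Tietze.trivial_pres (H := alternatingGroup (Fin n))
        exact ⟨R, h1.trans (by norm_num), h2⟩
      · interval_cases n
        · obtain ⟨R, h1, h2⟩ := AltSmall.alt_three
          exact ⟨R, h1.trans (by norm_num), h2⟩
        · obtain ⟨R, h1, h2⟩ := AltSmall.alt_four
          exact ⟨R, h1.trans (by norm_num), h2⟩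
  · exact ⟨sym_six_rels hn, alt_six_rels hn⟩

end CfsgLib.Perm.AltBounded
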