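import Cfsg.Agent.Lib.Perm.AltBounded.AltOn

/-!
# Explicit permutations of `Fin n` for the bounded presentations
-/

set_option autoImplicit false

open Equiv Equiv.Perm

namespace CfsgLib.Perm.AltBounded

/-- `viaFintypeEmbedding` as a homomorphism -/
def viaHom {T α : Type*} [Fintype T] [DecidableEq α] (f : T ↪ α) : Equiv.Perm T →* Equiv.Perm α :=
  Equiv.Perm.extendDomainHom f.toEquivRange

theorem viaHom_apply {T α : Type*} [Fintype T] [DecidableEq α] (f : T ↪ α) (e : Equiv.Perm T) (a : T) :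
    viaHom f e (f a) = f (e a) := viaFintypeEmbedding_apply_image e f a

theorem viaHom_fix {T α : Type*} [Fintype T] [DecidableEq α] (f : T ↪ α) (e : Equiv.Perm T) {b : α}
    (hb : ∀ a, f a ≠ b) : viaHom f e b = b :=
  viaFintypeEmbedding_apply_notMem_range e f fun ⟨a, ha⟩ => hb a ha

theorem viaHom_sign {T α : Type*} [Fintype T] [DecidableEq T] [DecidableEq α] [Fintype α] (f : T ↪ α)
    (e : Equiv.Perm T) : sign (viaHom f e) = sign e := viaFintypeEmbedding_sign e f

theorem viaHom_ext {T α : Type*} [Fintype T] [DecidableEq α] (f : T ↪ α) {g : Equiv.Perm α} {e : Equiv.Perm T}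
    (h1 : ∀ a, g (f a) = f (e a)) (h2 : ∀ b, (∀ a, f a ≠ b) → g b = b) : g = viaHom f e := by
  refine Equiv.ext fun b => ?_
  by_cases h : ∃ a, f a = b
  · obtain ⟨a, rfl⟩ := h
    rw [h1, viaHom_apply]
  · simp only [not_exists] at h
    rw [h2 b h, viaHom_fix f e h]

section rot

variable {α : Type*} [Fintype α] [DecidableEq α] {L : ℕ} [NeZero L] (f : Fin L ↪ α)

/-- the cycle along an injective listing -/
def rot : Equiv.Perm α := viaHom f (finRotate L)

theorem rot_apply (i : Fin L) : rot f (f i) = f (i + 1) := by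
  rw [rot, viaHom_apply]
  congr 1
  obtain ⟨k, rfl⟩ := Nat.exists_eq_succ_of_ne_zero (NeZero.ne L)
  exact finRotate_succ_apply i

theorem rot_fix {b : α} (hb : ∀ i, f i ≠ b) : rot f b = b := viaHom_fix f _ hb

theorem rot_pow_apply (j : ℕ) (i : Fin L) : (rot f ^ j) (f i) = f ⟨(i.val + j) % L, Nat.mod_lt _ (NeZero.pos L)⟩ := by
  induction j with
  | zero => simp [Nat.mod_eq_of_lt i.2]
  | succ j ih =>
    rw [pow_succ', Perm.mul_apply, ih, rot_apply]
    congr 1
    refine Fin.ext ?_
    rw [Fin.val_add]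
    show ((i.val + j) % L + ((1 : Fin L) : ℕ)) % L = _
    rw [Fin.val_one', Nat.add_mod_mod, Nat.mod_add_mod, add_assoc]

theorem rot_pow_card : rot f ^ L = 1 := by
  refine Equiv.ext fun b => ?_
  by_cases h : ∃ i, f i = b
  · obtain ⟨i, rfl⟩ := h
    rw [rot_pow_apply, Perm.one_apply]
    congr 1
    exact Fin.ext (by simp [Nat.mod_eq_of_lt i.2])
  · simp only [not_exists] at h
    exact pow_apply_eq_self_of_apply_eq_self (rot_fix f h) L

theorem rot_sign (hL : Odd L) : sign (rot f) = 1 := by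
  rw [rot, viaHom_sign]
  obtain ⟨l, rfl⟩ := hL
  rw [sign_finRotate]
  exact Even.neg_one_pow ⟨l, by omega⟩

end rot

section sw

variable {n : ℕ}

theorem swap_val (a b v : Fin n) : (Equiv.swap a b v).val =
    if v.val = a.val then b.val else if v.val = b.val then a.val else v.val := by
  rw [Equiv.swap_apply_def]
  split_ifs <;> simp_all [Fin.ext_iff]

/-- the number `v` as an element of `Fin n` -/
def V [NeZero n] (v : ℕ) : Fin n := Fin.ofNat n v

theorem V_val [NeZero n] {v : ℕ} (h : v < n) : (V v : Fin n).val = v := Nat.mod_eq_of_lt h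

theorem eq_V [NeZero n] {x : Fin n} {v : ℕ} (h : x.val = v) : x = V v :=
  Fin.ext (by rw [V_val (h ▸ x.2), h])

theorem V_ne [NeZero n] {v w : ℕ} (hv : v < n) (hw : w < n) (h : v ≠ w) : (V v : Fin n) ≠ V w :=
  fun e => h (by rw [← V_val hv, e, V_val hw])

/-- `k` transpositions `(c+i, q+i)` -/
def swp [NeZero n] (c q : ℕ) : ℕ → Equiv.Perm (Fin n)
  | 0 => 1
  | k + 1 => swp c q k * Equiv.swap (V (c + k)) (V (q + k))

theorem swp_val [NeZero n] {c q : ℕ} : ∀ {k : ℕ}, c + k ≤ q → q + k ≤ n → ∀ v : Fin n,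
    (swp c q k v).val = if c ≤ v.val ∧ v.val < c + k then v.val + (q - c)
      else if q ≤ v.val ∧ v.val < q + k then v.val - (q - c) else v.val
  | 0, _, _, v => by simp only [swp, Perm.one_apply]; rw [if_neg (by omega), if_neg (by omega)]
  | k + 1, h1, h2, v => by
    rw [swp, Perm.mul_apply, swp_val (k := k) (by omega) (by omega), swap_val, V_val (by omega), V_val (by omega)]
    split_ifs <;> omega

theorem swp_sign [NeZero n] {c q : ℕ} : ∀ {k : ℕ}, c + k ≤ q → q + k ≤ n →
    sign (swp c q k : Equiv.Perm (Fin n)) = (-1) ^ k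
  | 0, _, _ => by simp [swp]
  | k + 1, h1, h2 => by
    rw [swp, map_mul, swp_sign (k := k) (by omega) (by omega), sign_swap (V_ne (by omega) (by omega) (by omega)),
      pow_succ]

end sw

end CfsgLib.Perm.AltBounded
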