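import Cfsg.Agent.Lib.Perm.AltBounded.Carmichael
import Cfsg.Agent.Lib.Perm.AltBounded.Labels

/-!
# Four relations giving the alternating group of degree `p + 2`
-/

set_option autoImplicit false

open Equiv Equiv.Perm

namespace CfsgLib.Perm.AltBounded

variable {p : ℕ}

/-- the translation -/
def shiftT (p : ℕ) : Equiv.Perm (ZMod p ⊕ Bool) := Equiv.sumCongr (Equiv.addRight (1 : ZMod p)) (Equiv.refl Bool)

/-- multiplication by `r` -/
def mulT (r : (ZMod p)ˣ) (β : Equiv.Perm Bool) : Equiv.Perm (ZMod p ⊕ Bool) :=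
  Equiv.sumCongr (Units.mulLeft r) β

theorem shiftT_pow (k : ℕ) : shiftT p ^ k = Equiv.sumCongr (Equiv.addRight (k : ZMod p)) (Equiv.refl Bool) := by
  induction k with
  | zero =>
    refine Equiv.ext fun v => ?_
    rcases v with v | v <;> simp
  | succ k ih =>
    rw [pow_succ, ih]
    refine Equiv.ext fun v => ?_
    rcases v with v | v <;> simp [shiftT, add_assoc, add_comm]

section frame

variable [Fact p.Prime] {n : ℕ} (ι : ZMod p ⊕ Bool ↪ Fin n)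

/-- residue points -/
def pt (i : ZMod p) : Fin n := ι (Sum.inl i)
/-- first extra point -/
def ptA : Fin n := ι (Sum.inr false)
/-- second extra point -/
def ptB : Fin n := ι (Sum.inr true)
/-- all points of the frame -/
def frameSet : Finset (Fin n) := (Finset.univ : Finset (ZMod p ⊕ Bool)).map ι
/-- translation -/
def aPerm : Equiv.Perm (Fin n) := viaHom ι (shiftT p)
/-- multiplication -/
def bPerm (r : (ZMod p)ˣ) (β : Equiv.Perm Bool) : Equiv.Perm (Fin n) := viaHom ι (mulT r β)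

theorem ptA_ne_ptB : ptA ι ≠ ptB ι := fun e => by simpa [ptA, ptB] using e
theorem pt_ne_ptA (i : ZMod p) : pt ι i ≠ ptA ι := fun e => by simpa [pt, ptA] using e
theorem pt_ne_ptB (i : ZMod p) : pt ι i ≠ ptB ι := fun e => by simpa [pt, ptB] using e
theorem pt_inj {i j : ZMod p} (h : pt ι i = pt ι j) : i = j := by simpa [pt] using h

theorem mem_frameSet {v : Fin n} :
    v ∈ frameSet ι ↔ v = ptA ι ∨ v = ptB ι ∨ ∃ i, v = pt ι i := by
  simp only [frameSet, Finset.mem_map, Finset.mem_univ, true_and]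
  constructor
  · rintro ⟨x | x, rfl⟩
    · exact Or.inr (Or.inr ⟨x, rfl⟩)
    · cases x
      exacts [Or.inl rfl, Or.inr (Or.inl rfl)]
  · rintro (rfl | rfl | ⟨i, rfl⟩)
    exacts [⟨_, rfl⟩, ⟨_, rfl⟩, ⟨_, rfl⟩]

theorem cyc_mem_frame (i : ZMod p) : cyc (ptA ι) (ptB ι) (pt ι i) ∈ altOn (frameSet ι) :=
  cyc_mem (ptA_ne_ptB ι) (pt_ne_ptA ι i).symm (pt_ne_ptB ι i).symm ((mem_frameSet ι).2 (Or.inl rfl))
    ((mem_frameSet ι).2 (Or.inr (Or.inl rfl))) ((mem_frameSet ι).2 (Or.inr (Or.inr ⟨i, rfl⟩)))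

theorem via_mem {e : Equiv.Perm (ZMod p ⊕ Bool)} (he : sign e = 1) : viaHom ι e ∈ altOn (frameSet ι) :=
  ⟨by rw [viaHom_sign, he], fun v hv => viaHom_fix ι e fun a ha => hv (by
    rw [← ha]; exact Finset.mem_map_of_mem ι (Finset.mem_univ a))⟩

theorem sign_shiftT (hp : p ≠ 2) : sign (shiftT p) = 1 := by
  have h1 : shiftT p ^ p = 1 := by
    rw [shiftT_pow, ZMod.natCast_self]
    refine Equiv.ext fun v => ?_
    rcases v with v | v <;> simp
  have h2 : sign (shiftT p) ^ p = 1 := by rw [← map_pow, h1, map_one]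
  obtain ⟨l, hl⟩ := (Fact.out : p.Prime).odd_of_ne_two hp
  have h3 := congrArg (fun k => sign (shiftT p) ^ k) hl
  simp only [h2, pow_succ, pow_mul, Int.units_sq, one_pow, one_mul] at h3
  exact h3.symm

theorem exists_mul (hp : p ≠ 2) (r : (ZMod p)ˣ) :
    ∃ β : Equiv.Perm Bool, sign (mulT r β) = 1 ∧ (β = 1 ∨ β = Equiv.swap false true) := by
  rcases Int.units_eq_one_or (sign (mulT r 1)) with h | h
  · exact ⟨1, h, Or.inl rfl⟩
  · refine ⟨Equiv.swap false true, ?_, Or.inr rfl⟩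
    rw [mulT, sign_sumCongr] at h ⊢
    rw [map_one, mul_one] at h
    rw [h, sign_swap (by decide)]
    decide

theorem aPerm_cyc (i : ZMod p) :
    aPerm ι * cyc (ptA ι) (ptB ι) (pt ι i) * (aPerm ι)⁻¹ = cyc (ptA ι) (ptB ι) (pt ι (i + 1)) := by
  rw [cyc_conj]
  simp [aPerm, ptA, ptB, pt, viaHom_apply, shiftT]

theorem bPerm_cyc (r : (ZMod p)ˣ) (β : Equiv.Perm Bool) (i : ZMod p) :
    bPerm ι r β * cyc (ptA ι) (ptB ι) (pt ι i) * (bPerm ι r β)⁻¹ =
      cyc (ι (Sum.inr (β false))) (ι (Sum.inr (β true))) (pt ι (r * i)) := by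
  rw [cyc_conj]
  simp [bPerm, ptA, ptB, pt, viaHom_apply, mulT]

theorem bPerm_aPerm (r : (ZMod p)ˣ) (β : Equiv.Perm Bool) :
    bPerm ι r β * aPerm ι * (bPerm ι r β)⁻¹ = aPerm ι ^ (r : ZMod p).val := by
  simp only [bPerm, aPerm, ← map_inv, ← map_mul, ← map_pow]
  congr 1
  rw [shiftT_pow, mul_inv_eq_iff_eq_mul]
  refine Equiv.ext fun v => ?_
  rcases v with v | v <;> simp [shiftT, mulT, mul_add]

/-- the frame group inside `G` -/
theorem exists_frame_hom (hp : p ≠ 2) {r : (ZMod p)ˣ} (hr : ∀ x : (ZMod p)ˣ, x ∈ Subgroup.zpowers r)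
    {β : Equiv.Perm Bool} (hβ : sign (mulT r β) = 1) (hβ2 : β = 1 ∨ β = Equiv.swap false true)
    {G : Type*} [Group G] {a g W : G} {s : ℕ} (hs : (s : ZMod p) * ((r : ZMod p) - 1) = 1)
    (r1 : a ^ p = g ^ 6) (r2 : W * a ^ s * W⁻¹ = a ^ (s + 1))
    (hW : W ∈ Subgroup.closure (Set.range fun i : ℕ => a ^ i * g ^ 4 * (a ^ i)⁻¹))
    (hWφ : ∀ φ : Equiv.Perm (Fin n) → G, IsHomOn (altOn (frameSet ι)) φ →
      (∀ i : ℕ, φ (cyc (ptA ι) (ptB ι) (pt ι i)) = a ^ i * g ^ 4 * (a ^ i)⁻¹) → φ (bPerm ι r β) = W)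
    (r3 : W * g ^ 4 * W⁻¹ = if β = 1 then g ^ 4 else (g ^ 4)⁻¹)
    (r4 : g ^ 4 * (a * g ^ 4 * a⁻¹) * (g ^ 4 * (a * g ^ 4 * a⁻¹)) = 1) :
    g ^ 6 = 1 ∧ ∃ φ : Equiv.Perm (Fin n) → G, IsHomOn (altOn (frameSet ι)) φ ∧
      (∀ i : ℕ, φ (cyc (ptA ι) (ptB ι) (pt ι i)) = a ^ i * g ^ 4 * (a ^ i)⁻¹) ∧ φ (aPerm ι) = a := by
  -- orders
  have hz : Commute (a ^ p) (g ^ 4) := by rw [r1]; exact Commute.pow_pow_self g 6 4
  have hap : a ^ p = 1 := by
    have hcl : ∀ w ∈ Subgroup.closure (Set.range fun i : ℕ => a ^ i * g ^ 4 * (a ^ i)⁻¹), Commute (a ^ p) w := by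
      intro w hw
      induction hw using Subgroup.closure_induction with
      | mem x hx =>
        obtain ⟨i, rfl⟩ := hx
        exact ((Commute.pow_pow_self a p i).mul_right hz).mul_right (Commute.pow_pow_self a p i).inv_right
      | one => exact Commute.one_right _
      | mul u v _ _ hu hv => exact hu.mul_right hv
      | inv u _ hu => exact hu.inv_right
    have h1 : W * (a ^ p) ^ s * W⁻¹ = (a ^ p) ^ (s + 1) := by
      rw [← pow_mul, ← pow_mul, mul_comm p, pow_mul, ← conj_pow, r2, ← pow_mul, mul_comm]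
    rw [← ((hcl W hW).pow_left s).eq, mul_inv_cancel_right, pow_succ] at h1
    exact left_eq_mul.1 h1
  have hg6 : g ^ 6 = 1 := r1 ▸ hap
  have hz3 : g ^ 4 * g ^ 4 * g ^ 4 = 1 := by
    rw [← pow_add, ← pow_add, show 4 + 4 + 4 = 6 * 2 from rfl, pow_mul, hg6, one_pow]
  obtain ⟨z, hzd⟩ : ∃ z, z = g ^ 4 := ⟨_, rfl⟩
  rw [← hzd] at hz3 r3 r4 hW hWφ ⊢
  refine ⟨hg6, ?_⟩
  -- powers indexed by residues
  obtain ⟨A', hA'⟩ : ∃ A' : ZMod p → G, A' = fun i => a ^ i.val := ⟨_, rfl⟩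
  have hmod : ∀ k : ℕ, a ^ k = a ^ (k % p) := fun k => by
    conv_lhs => rw [← Nat.mod_add_div k p, pow_add, pow_mul, hap, one_pow, mul_one]
  have Anat : ∀ k : ℕ, A' k = a ^ k := fun k => by
    rw [hA']; dsimp only; rw [ZMod.val_natCast, ← hmod]
  have Aadd : ∀ i j, A' (i + j) = A' i * A' j := fun i j => by
    rw [← ZMod.natCast_zmod_val i, ← ZMod.natCast_zmod_val j, ← Nat.cast_add, Anat, Anat, Anat, pow_add]
  have WA : ∀ i, W * A' i * W⁻¹ = A' ((r : ZMod p) * i) := fun i => by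
    obtain ⟨k, hk⟩ : ∃ k : ℕ, k = (i * ((r : ZMod p) - 1)).val := ⟨_, rfl⟩
    have hk' : (k : ZMod p) = i * ((r : ZMod p) - 1) := hk ▸ ZMod.natCast_zmod_val _
    have e1 : i = ((s * k : ℕ) : ZMod p) := by
      rw [Nat.cast_mul, hk', mul_left_comm, hs, mul_one]
    have e2 : (r : ZMod p) * i = (((s + 1) * k : ℕ) : ZMod p) := by
      rw [Nat.cast_mul, Nat.cast_add, Nat.cast_one, hk']
      linear_combination (-i) * hs
    rw [e2, Anat, pow_mul, ← r2, conj_pow, ← pow_mul, ← Anat, ← e1]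
  obtain ⟨x, hx⟩ : ∃ x : ZMod p → G, x = fun i => A' i * z * (A' i)⁻¹ := ⟨_, rfl⟩
  have xnat : ∀ k : ℕ, x k = a ^ k * z * (a ^ k)⁻¹ := fun k => by rw [hx]; dsimp only; rw [Anat]
  have x3 : ∀ i, x i * x i * x i = 1 := fun i => by
    rw [hx]; dsimp only
    rw [show A' i * z * (A' i)⁻¹ * (A' i * z * (A' i)⁻¹) * (A' i * z * (A' i)⁻¹) = A' i * (z * z * z) * (A' i)⁻¹ by group,
      hz3, mul_one, mul_inv_cancel]
  have xshift : ∀ i j, A' i * x j * (A' i)⁻¹ = x (i + j) := fun i j => by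
    rw [hx]; dsimp only; rw [Aadd]; group
  have Wx : ∀ i, W * x i * W⁻¹ = if β = 1 then x (r * i) else (x (r * i))⁻¹ := fun i => by
    rw [hx]; dsimp only
    rw [show W * (A' i * z * (A' i)⁻¹) * W⁻¹ = (W * A' i * W⁻¹) * (W * z * W⁻¹) * (W * A' i * W⁻¹)⁻¹ by group,
      r3, WA]
    split_ifs <;> group
  have x01 : x 0 * x 1 * (x 0 * x 1) = 1 := by
    have e0 := xnat 0
    have e1 := xnat 1
    simp only [Nat.cast_zero, Nat.cast_one, pow_zero, pow_one, one_mul, inv_one, mul_one] at e0 e1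
    rw [e0, e1]; exact r4
  have x0d : ∀ k : ℕ, x 0 * x ((r : ZMod p) ^ k) * (x 0 * x ((r : ZMod p) ^ k)) = 1 := fun k => by
    induction k with
    | zero => rw [pow_zero]; exact x01
    | succ k ih =>
      have e := congrArg (fun v => W * v * W⁻¹) ih
      simp only [show ∀ u v : G, W * (u * v * (u * v)) * W⁻¹ =
        (W * u * W⁻¹) * (W * v * W⁻¹) * ((W * u * W⁻¹) * (W * v * W⁻¹)) from fun u v => by group, Wx, mul_one,
        mul_inv_cancel, mul_zero, ← pow_succ'] at e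
      split_ifs at e
      · exact e
      · calc x 0 * x ((r : ZMod p) ^ (k + 1)) * (x 0 * x ((r : ZMod p) ^ (k + 1)))
            = x 0 * ((x 0)⁻¹ * (x ((r : ZMod p) ^ (k + 1)))⁻¹ * ((x 0)⁻¹ * (x ((r : ZMod p) ^ (k + 1)))⁻¹))⁻¹ * (x 0)⁻¹ := by
              group
          _ = 1 := by rw [e, inv_one, mul_one, mul_inv_cancel]
  have xp : ∀ i j, i ≠ j → x i * x j * (x i * x j) = 1 := fun i j hij => by
    obtain ⟨u, hu⟩ : ∃ u : (ZMod p)ˣ, (u : ZMod p) = j - i := ⟨Units.mk0 _ (sub_ne_zero.2 hij.symm), rfl⟩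
    obtain ⟨k, hk⟩ : ∃ k : ℕ, r ^ k = u := mem_powers_iff_mem_zpowers.2 (hr u)
    have e := congrArg (fun v => A' i * v * (A' i)⁻¹) (x0d k)
    simp only [show ∀ u v : G, A' i * (u * v * (u * v)) * (A' i)⁻¹ =
      (A' i * u * (A' i)⁻¹) * (A' i * v * (A' i)⁻¹) * ((A' i * u * (A' i)⁻¹) * (A' i * v * (A' i)⁻¹))
        from fun u v => by group, xshift, add_zero, mul_one, mul_inv_cancel] at e
    rwa [← Units.val_pow_eq_pow_val, hk, hu, add_sub_cancel] at e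
  -- the homomorphism
  let y : Fin n → G := Function.extend (pt ι) x (fun _ => 1)
  have ypt : ∀ i, y (pt ι i) = x i := fun i =>
    Function.Injective.extend_apply (fun a b h => pt_inj ι h) x (fun _ => 1) i
  have hres : ∀ v ∈ frameSet ι, v ≠ ptA ι → v ≠ ptB ι → ∃ i, v = pt ι i := fun v hv h1 h2 => by
    rcases (mem_frameSet ι).1 hv with h | h | h
    exacts [absurd h h1, absurd h h2, h]
  obtain ⟨φ, hφ, hφy⟩ := exists_homOn (frameSet ι) ((mem_frameSet ι).2 (Or.inl rfl))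
    ((mem_frameSet ι).2 (Or.inr (Or.inl rfl))) (ptA_ne_ptB ι) y
    (fun v hv h1 h2 => by obtain ⟨i, rfl⟩ := hres v hv h1 h2; rw [ypt]; exact x3 i)
    (fun v hv w hw h1 h2 k1 k2 hvw => by
      obtain ⟨i, rfl⟩ := hres v hv h1 h2
      obtain ⟨j, rfl⟩ := hres w hw k1 k2
      rw [ypt, ypt]
      exact xp i j fun h => hvw (by rw [h]))
  have hφx : ∀ i, φ (cyc (ptA ι) (ptB ι) (pt ι i)) = x i := fun i => by
    rw [hφy _ ((mem_frameSet ι).2 (Or.inr (Or.inr ⟨i, rfl⟩))) (pt_ne_ptA ι i) (pt_ne_ptB ι i), ypt]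
  have hφnat : ∀ i : ℕ, φ (cyc (ptA ι) (ptB ι) (pt ι i)) = a ^ i * z * (a ^ i)⁻¹ := fun i => by
    rw [hφx, xnat]
  have hWb := hWφ φ hφ hφnat
  refine ⟨φ, hφ, hφnat, ?_⟩
  have haP : aPerm ι ∈ altOn (frameSet ι) := via_mem ι (sign_shiftT hp)
  have hbP : bPerm ι r β ∈ altOn (frameSet ι) := via_mem ι hβ
  obtain ⟨c, hc⟩ : ∃ c, c = (φ (aPerm ι))⁻¹ * a := ⟨_, rfl⟩
  have hcx : ∀ i, Commute c (x i) := fun i => by
    have e1 : φ (aPerm ι) * x i * (φ (aPerm ι))⁻¹ = x (i + 1) := by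
      rw [← hφx, ← hφ.conj haP (cyc_mem_frame ι i), aPerm_cyc, hφx]
    have e2 : a * x i * a⁻¹ = x (i + 1) := by
      have h := xshift 1 i
      have h1 := Anat 1
      rw [Nat.cast_one, pow_one] at h1
      rwa [h1, add_comm] at h
    rw [commute_iff_eq, ← mul_inv_eq_iff_eq_mul, hc]
    calc (φ (aPerm ι))⁻¹ * a * x i * ((φ (aPerm ι))⁻¹ * a)⁻¹
        = (φ (aPerm ι))⁻¹ * (a * x i * a⁻¹) * φ (aPerm ι) := by group
      _ = x i := by rw [e2, ← e1]; group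
  have hcall : ∀ π ∈ altOn (frameSet ι), Commute c (φ π) := fun π hπ =>
    hφ.commute_closure (S := {g | ∃ i ∈ frameSet ι, i ≠ ptA ι ∧ i ≠ ptB ι ∧ g = cyc (ptA ι) (ptB ι) i}) (by
      rintro _ ⟨v, hv, h1, h2, rfl⟩
      exact cyc_mem (ptA_ne_ptB ι) h1.symm h2.symm ((mem_frameSet ι).2 (Or.inl rfl))
        ((mem_frameSet ι).2 (Or.inr (Or.inl rfl))) hv) (by
      rintro _ ⟨v, hv, h1, h2, rfl⟩
      obtain ⟨i, rfl⟩ := hres v hv h1 h2
      rw [hφx]; exact hcx i) π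
      ((closure_base (frameSet ι) ((mem_frameSet ι).2 (Or.inl rfl)) ((mem_frameSet ι).2 (Or.inr (Or.inl rfl)))
        (ptA_ne_ptB ι)).symm ▸ hπ)
  have ha' : a = φ (aPerm ι) * c := by rw [hc, mul_inv_cancel_left]
  obtain ⟨k, hk⟩ : ∃ k : ℕ, k = (r : ZMod p).val := ⟨_, rfl⟩
  have eW : W * a * W⁻¹ = a ^ k := by
    have := WA 1
    rw [mul_one, ← Nat.cast_one, Anat, pow_one] at this
    rw [this, hk, hA']
  have eW' : W * φ (aPerm ι) * W⁻¹ = φ (aPerm ι) ^ k := by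
    rw [← hWb, ← hφ.conj hbP haP, bPerm_aPerm, hφ.pow haP, hk]
  have hcW : W * c * W⁻¹ = c := by
    rw [← hWb, ← (hcall _ hbP).eq, mul_inv_cancel_right]
  have hck : c = c ^ k := by
    have h1 := eW
    rw [ha', show W * (φ (aPerm ι) * c) * W⁻¹ = (W * φ (aPerm ι) * W⁻¹) * (W * c * W⁻¹) by group, eW', hcW,
      (hcall _ haP).symm.mul_pow] at h1
    exact mul_left_cancel h1
  have hcp : c ^ p = 1 := by
    have h1 : a ^ p = φ (aPerm ι) ^ p * c ^ p := by rw [ha', (hcall _ haP).symm.mul_pow]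
    have h2 : aPerm ι ^ p = 1 := by
      rw [aPerm, ← map_pow, shiftT_pow, ZMod.natCast_self]
      rw [show Equiv.sumCongr (Equiv.addRight (0 : ZMod p)) (Equiv.refl Bool) = 1 from
        Equiv.ext fun v => by rcases v with v | v <;> simp, map_one]
    rw [hap, ← hφ.pow haP, h2, hφ.one, one_mul] at h1
    exact h1.symm
  have hc1 : c = 1 := by
    by_contra hne
    have hord : orderOf c = p := (Fact.out : p.Prime).eq_one_or_self_of_dvd _ (orderOf_dvd_of_pow_eq_one hcp)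
      |>.resolve_left (fun h => hne (orderOf_eq_one_iff.1 h))
    have h1 : c ^ k = c ^ 1 := by rw [pow_one, ← hck]
    rw [pow_eq_pow_iff_modEq, hord] at h1
    have h2 : ((k : ℕ) : ZMod p) = ((1 : ℕ) : ZMod p) := (ZMod.natCast_eq_natCast_iff _ _ _).2 h1
    rw [hk, ZMod.natCast_zmod_val, Nat.cast_one] at h2
    rw [h2, sub_self, mul_zero] at hs
    exact zero_ne_one hs
  rw [ha', hc1, mul_one]

end frame

end CfsgLib.Perm.AltBounded
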