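import Cfsg.Agent.Lib.Perm.AltBounded.Core

/-!
# The explicit permutations used by the presentations in degree `p + 2 + m`
-/

set_option autoImplicit false

open Equiv Equiv.Perm

namespace CfsgLib.Perm.AltBounded

section rotAux

variable {n L : ℕ} [NeZero L]

/-- an injective listing from its values -/
def mkEmb (fn : ℕ → ℕ) (hlt : ∀ i, i < L → fn i < n) (hinj : ∀ i j, i < L → j < L → fn i = fn j → i = j) :
    Fin L ↪ Fin n :=
  ⟨fun i => ⟨fn i.val, hlt i.val i.2⟩, fun i j h => Fin.ext (hinj _ _ i.2 j.2 (Fin.ext_iff.1 h))⟩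

theorem mkEmb_val (fn : ℕ → ℕ) (hlt : ∀ i, i < L → fn i < n)
    (hinj : ∀ i j, i < L → j < L → fn i = fn j → i = j) (i : Fin L) : (mkEmb fn hlt hinj i).val = fn i.val := rfl

theorem rot_val (f : Fin L ↪ Fin n) (fn F : ℕ → ℕ) (hf : ∀ i : Fin L, (f i).val = fn i.val)
    (h1 : ∀ i, i + 1 < L → F (fn i) = fn (i + 1)) (h2 : F (fn (L - 1)) = fn 0)
    (h3 : ∀ b, b < n → (∀ i, i < L → fn i ≠ b) → F b = b) (v : Fin n) : (rot f v).val = F v.val := by
  by_cases h : ∃ i, f i = v
  · obtain ⟨i, rfl⟩ := h
    rw [rot_apply, hf, hf, Fin.val_add]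
    rcases Nat.lt_or_ge (i.val + 1) L with hi | hi
    · rw [h1 _ hi]
      congr 1
      rw [Fin.val_one', Nat.add_mod_mod, Nat.mod_eq_of_lt hi]
    · have hi' : i.val = L - 1 := by have := i.2; omega
      rw [hi', h2]
      congr 1
      rw [Fin.val_one', Nat.add_mod_mod, show L - 1 + 1 = L by have := i.2; omega, Nat.mod_self]
  · simp only [not_exists] at h
    rw [rot_fix f h, h3 _ v.2 fun i hi e => h ⟨i, hi⟩ (Fin.ext (by rw [hf]; exact e))]

theorem rot_conj {α : Type*} [Fintype α] [DecidableEq α] (g : Equiv.Perm α) (f f' : Fin L ↪ α)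
    (h : ∀ i, g (f i) = f' i) : g * rot f * g⁻¹ = rot f' := by
  refine viaHom_ext f' (fun i => ?_) (fun b hb => ?_)
  · rw [Perm.mul_apply, Perm.mul_apply, ← h i, Perm.inv_def, Equiv.symm_apply_apply, rot, viaHom_apply, h]
  · rw [Perm.mul_apply, Perm.mul_apply, rot_fix f, ← Perm.mul_apply, mul_inv_cancel, Perm.one_apply]
    intro i e
    apply hb i
    rw [← h, e, ← Perm.mul_apply, mul_inv_cancel, Perm.one_apply]

end rotAux

/-- insert one point -/
theorem altOn_insert_le {α : Type*} [Fintype α] [DecidableEq α] {H : Subgroup (Equiv.Perm α)}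
    {T S : Finset α} {a b i : α} (hT : altOn T ≤ H) (ha : a ∈ T) (hb : b ∈ T) (hab : a ≠ b)
    (hi : cyc a b i ∈ H) (hTS : T ⊆ S) (hS : ∀ v ∈ S, v ∈ T ∨ v = i) : altOn S ≤ H :=
  altOn_le_of_base (hTS ha) (hTS hb) hab fun v hv h1 h2 => by
    rcases hS v hv with h | rfl
    · exact hT (cyc_mem hab h1.symm h2.symm ha hb h)
    · exact hi

/-- the parameters -/
structure Par where
  p : ℕ
  m : ℕ
  tau : ℕ
  hp : p.Prime
  hm : m + 3 ≤ p

namespace Par

variable (P : Par)

/-- the degree -/
abbrev N : ℕ := P.p + 2 + P.m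

instance : NeZero P.N := ⟨by unfold Par.N; omega⟩
instance : NeZero (P.p + 2 + P.m) := ⟨by omega⟩
instance : Fact P.p.Prime := ⟨P.hp⟩
instance : NeZero P.p := ⟨P.hp.ne_zero⟩

theorem p_odd : P.p % 2 = 1 := by
  rcases P.hp.eq_two_or_odd with h | h
  · have := P.hm; omega
  · exact h

theorem five_le (h : 0 < P.m) : 5 ≤ P.p := by
  have := P.hm; have := P.p_odd; omega

/-- the number of common residues -/
abbrev c : ℕ := P.p - P.m

/-- the frame -/
def ι : ZMod P.p ⊕ Bool ↪ Fin P.N :=
  ⟨fun x => Sum.elim (fun i : ZMod P.p => (⟨i.val, by have := i.val_lt; unfold Par.N; omega⟩ : Fin P.N))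
      (fun b : Bool => if b then (⟨P.p + 1, by unfold Par.N; omega⟩ : Fin P.N)
        else ⟨P.p, by unfold Par.N; omega⟩) x, by
    rintro (i | a) (j | b) h
    · simp only [Sum.elim_inl, Fin.ext_iff] at h
      rw [ZMod.val_injective _ h]
    · exfalso; cases b <;> simp [Fin.ext_iff] at h <;> (have := i.val_lt; omega)
    · exfalso; cases a <;> simp [Fin.ext_iff] at h <;> (have := j.val_lt; omega)
    · cases a <;> cases b <;> simp [Fin.ext_iff] at h <;> rfl⟩

theorem pt_val (i : ZMod P.p) : (pt P.ι i).val = i.val := rfl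
theorem ptA_val : (ptA P.ι).val = P.p := rfl
theorem ptB_val : (ptB P.ι).val = P.p + 1 := rfl
theorem ptA_eq : ptA P.ι = V P.p := eq_V P.ptA_val
theorem ptB_eq : ptB P.ι = V (P.p + 1) := eq_V P.ptB_val

theorem mem_frame (v : Fin P.N) : v ∈ frameSet P.ι ↔ v.val < P.p + 2 := by
  rw [mem_frameSet]
  constructor
  · rintro (rfl | rfl | ⟨i, rfl⟩)
    · rw [ptA_val]; omega
    · rw [ptB_val]; omega
    · rw [pt_val]; have := i.val_lt; omega
  · intro h
    rcases Nat.lt_or_ge v.val P.p with h1 | h1
    · refine Or.inr (Or.inr ⟨(v.val : ZMod P.p), Fin.ext ?_⟩)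
      rw [pt_val, ZMod.val_natCast, Nat.mod_eq_of_lt h1]
    · rcases Nat.lt_or_ge v.val (P.p + 1) with h2 | h2
      · exact Or.inl (Fin.ext (by rw [ptA_val]; omega))
      · exact Or.inr (Or.inl (Fin.ext (by rw [ptB_val]; omega)))

/-- the three-cycle -/
def z : Equiv.Perm (Fin P.N) := cyc (ptA P.ι) (ptB P.ι) (pt P.ι 0)

/-- the gluing involution -/
def σ : Equiv.Perm (Fin P.N) :=
  swp P.c (P.p + 2) P.m * if P.tau = 1 then Equiv.swap (V 1) (V 2) else 1

theorem σ_val (v : Fin P.N) : (P.σ v).val =
    if P.c ≤ v.val ∧ v.val < P.p then v.val + (P.m + 2)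
    else if P.p + 2 ≤ v.val then v.val - (P.m + 2)
    else if P.tau = 1 ∧ v.val = 1 then 2
    else if P.tau = 1 ∧ v.val = 2 then 1 else v.val := by
  have := P.hm
  have := v.2
  have h1 : ((V 1 : Fin P.N)).val = 1 := V_val (by unfold Par.N; omega)
  have h2 : ((V 2 : Fin P.N)).val = 2 := V_val (by unfold Par.N; omega)
  unfold σ
  simp only [Par.N, Par.c] at *
  by_cases ht : P.tau = 1
  swap
  · rw [if_neg ht, mul_one]
    rw [swp_val (by omega) (by omega)]
    split_ifs <;> first | omega | tauto | simp_all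
  · rw [if_pos ht, Perm.mul_apply]
    rw [swp_val (by omega) (by omega), swap_val, h1, h2]
    split_ifs <;> first | omega | tauto | simp_all

theorem σσ : P.σ * P.σ = 1 := by
  refine Equiv.ext fun v => Fin.ext ?_
  have := P.hm
  have := v.2
  rw [Perm.mul_apply, Perm.one_apply, σ_val, σ_val]
  simp only [Par.N, Par.c] at *
  split_ifs <;> first | omega | tauto | simp_all

theorem σ_sign : sign P.σ = (-1) ^ P.m * if P.tau = 1 then -1 else 1 := by
  have := P.hm
  unfold σ
  rw [map_mul, swp_sign (by simp only [Par.c]; omega) (by simp only [Par.N]; omega)]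
  by_cases ht : P.tau = 1
  swap
  · simp [ht]
  · rw [if_pos ht, if_pos ht, sign_swap (V_ne (by simp only [Par.N]; omega) (by simp only [Par.N]; omega) (by omega))]

theorem σA : P.σ (ptA P.ι) = ptA P.ι := Fin.ext (by
  have := P.hm
  rw [σ_val, ptA_val]; simp only [Par.c]; split_ifs <;> first | omega | tauto | simp_all)

theorem σB : P.σ (ptB P.ι) = ptB P.ι := Fin.ext (by
  have := P.hm
  rw [σ_val, ptB_val]; simp only [Par.c]; split_ifs <;> first | omega | tauto | simp_all)

theorem σ0 : P.σ (pt P.ι 0) = pt P.ι 0 := Fin.ext (by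
  have := P.hm
  rw [σ_val, pt_val, ZMod.val_zero]; simp only [Par.c]; split_ifs <;> first | omega | tauto | simp_all)

theorem σ_z : Commute P.σ P.z := by
  rw [commute_iff_eq, ← mul_inv_eq_iff_eq_mul, z, cyc_conj, σA, σB, σ0]

theorem σ_cover (v : Fin P.N) : v ∈ frameSet P.ι ∨ P.σ v ∈ frameSet P.ι := by
  rw [mem_frame, mem_frame, σ_val]
  have := P.hm
  have := v.2
  simp only [Par.N, Par.c] at *
  split_ifs <;> first | omega | tauto | simp_all

/-- the common points -/
def cmS : Finset (Fin P.N) := Finset.univ.filter fun v => v.val < P.c ∨ v.val = P.p ∨ v.val = P.p + 1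

theorem mem_cmS (v : Fin P.N) : v ∈ P.cmS ↔ v.val < P.c ∨ v.val = P.p ∨ v.val = P.p + 1 := by simp [cmS]

theorem cm_eq : ((frameSet P.ι).filter fun v => P.σ v ∈ frameSet P.ι) = P.cmS := by
  ext v
  rw [Finset.mem_filter, mem_frame, mem_frame, mem_cmS, σ_val]
  have := P.hm
  have := v.2
  simp only [Par.N, Par.c] at *
  split_ifs <;> first | omega | tauto | simp_all

theorem cmS_le : P.cmS ⊆ frameSet P.ι := fun v hv => by
  rw [← cm_eq] at hv; exact (Finset.mem_filter.1 hv).1

/-! ### the rotation of the common points -/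

/-- the listing -/
def fu : Fin (P.c + P.c % 2 + 1) ↪ Fin P.N :=
  mkEmb (fun i => if i < P.c then i else P.p + (i - P.c))
    (fun i hi => by have := P.hm; simp only [Par.N, Par.c] at *; split_ifs <;> first | omega | tauto | simp_all)
    (fun i j hi hj => by have := P.hm; simp only [Par.c] at *; split_ifs <;> first | omega | tauto | simp_all)

/-- the rotation -/
def u : Equiv.Perm (Fin P.N) := rot P.fu

theorem u_val (v : Fin P.N) : (P.u v).val =
    if v.val < P.c then (if v.val + 1 < P.c then v.val + 1 else P.p)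
    else if v.val = P.p then (if P.c % 2 = 1 then P.p + 1 else 0)
    else if v.val = P.p + 1 ∧ P.c % 2 = 1 then 0 else v.val := by
  have := P.hm
  refine rot_val P.fu (fun i => if i < P.c then i else P.p + (i - P.c)) (fun v =>
    if v < P.c then (if v + 1 < P.c then v + 1 else P.p)
    else if v = P.p then (if P.c % 2 = 1 then P.p + 1 else 0)
    else if v = P.p + 1 ∧ P.c % 2 = 1 then 0 else v) (fun i => rfl) ?_ ?_ ?_ v
  · intro i hi; simp only [Par.c] at *; split_ifs <;> first | omega | tauto | simp_all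
  · simp only [Par.c] at *; split_ifs <;> first | omega | tauto | simp_all
  · intro b hb h
    have e1 := h b
    have e2 := h (b - P.p + P.c)
    simp only [Par.N, Par.c] at *
    split_ifs at e1 e2 ⊢ <;> first | omega | tauto | simp_all

theorem u_mem : P.u ∈ altOn P.cmS := by
  refine ⟨rot_sign _ (by rw [Nat.odd_iff]; omega), fun v hv => Fin.ext ?_⟩
  rw [mem_cmS] at hv
  rw [u_val]
  have := P.hm
  simp only [Par.c] at *
  split_ifs <;> first | omega | tauto | simp_all

theorem altOn_cmS_le {H : Subgroup (Equiv.Perm (Fin P.N))} (hz : P.z ∈ H) (hu : P.u ∈ H) : altOn P.cmS ≤ H := by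
  have hm := P.hm
  have key : ∀ j, j < P.c → ((P.u ^ j) (pt P.ι 0)).val = j ∧
      ((P.u ^ j) (ptA P.ι)).val = (if j = 0 then P.p else if j = 1 ∧ P.c % 2 = 1 then P.p + 1 else j - 1 - P.c % 2) ∧
      ((P.u ^ j) (ptB P.ι)).val = (if P.c % 2 = 0 then P.p + 1 else if j = 0 then P.p + 1 else j - 1) := by
    intro j
    induction j with
    | zero =>
      intro _
      refine ⟨by simp [pt_val, ZMod.val_zero], by simp [ptA_val], ?_⟩
      simp only [pow_zero, Perm.one_apply, ptB_val]
      split_ifs <;> rfl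
    | succ j ih =>
      intro hj
      obtain ⟨i1, i2, i3⟩ := ih (by omega)
      simp only [pow_succ', Perm.mul_apply, u_val, i1, i2, i3]
      simp only [Par.c] at *
      refine ⟨?_, ?_, ?_⟩ <;> split_ifs <;> first | omega | tauto | simp_all
  have cj : ∀ j : ℕ, cyc ((P.u ^ j) (ptA P.ι)) ((P.u ^ j) (ptB P.ι)) ((P.u ^ j) (pt P.ι 0)) ∈ H := fun j => by
    rw [← cyc_conj]; exact mul_mem (mul_mem (pow_mem hu j) hz) (inv_mem (pow_mem hu j))
  have main : ∀ k, k < P.c →
      altOn (Finset.univ.filter fun v : Fin P.N => v.val = P.p ∨ v.val = P.p + 1 ∨ v.val ≤ k) ≤ H := by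
    intro k
    induction k with
    | zero =>
      intro _
      refine altOn_le_of_base (A := ptA P.ι) (B := ptB P.ι) (by simp [ptA_val]) (by simp [ptB_val])
        (ptA_ne_ptB _) fun v hv h1 h2 => ?_
      simp only [Finset.mem_filter, Finset.mem_univ, true_and] at hv
      have : v = pt P.ι 0 := Fin.ext (by
        rw [pt_val, ZMod.val_zero]
        rcases hv with h | h | h
        · exact absurd (Fin.ext (h.trans P.ptA_val.symm)) h1
        · exact absurd (Fin.ext (h.trans P.ptB_val.symm)) h2
        · omega)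
      subst this
      exact hz
    | succ k ih =>
      intro hk
      obtain ⟨e1, e2, e3⟩ := key (k + 1) hk
      simp only [Par.c] at *
      refine altOn_insert_le (ih (by omega)) ?_ ?_ ?_ (cj (k + 1)) ?_ ?_
      · simp only [Finset.mem_filter, Finset.mem_univ, true_and, e2]; split_ifs <;> first | omega | tauto | simp_all
      · simp only [Finset.mem_filter, Finset.mem_univ, true_and, e3]; split_ifs <;> first | omega | tauto | simp_all
      · intro h
        have h' := congrArg Fin.val h
        rw [e2, e3] at h'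
        split_ifs at h' <;> first | omega | tauto | simp_all
      · intro v hv
        simp only [Finset.mem_filter, Finset.mem_univ, true_and] at hv ⊢
        omega
      · intro v hv
        simp only [Finset.mem_filter, Finset.mem_univ, true_and] at hv ⊢
        rcases hv with h | h | h
        · omega
        · omega
        · rcases Nat.lt_or_ge v.val (k + 1) with h' | h'
          · omega
          · exact Or.inr (Fin.ext (by omega))
  refine le_trans (altOn_mono fun v hv => ?_) (main (P.c - 1) (by simp only [Par.c]; omega))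
  rw [mem_cmS] at hv
  simp only [Finset.mem_filter, Finset.mem_univ, true_and, Par.c] at hv ⊢
  omega

/-! ### the cycles through the moved points -/

/-- the listing -/
def fe : Fin (P.m + P.m % 2 + 1) ↪ Fin P.N :=
  mkEmb (fun i => if i = 0 then 1 else if i ≤ P.m then P.c + i - 1 else 2)
    (fun i hi => by have := P.hm; simp only [Par.N, Par.c] at *; split_ifs <;> first | omega | tauto | simp_all)
    (fun i j hi hj => by have := P.hm; simp only [Par.c] at *; split_ifs <;> first | omega | tauto | simp_all)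

/-- the cycle -/
def e : Equiv.Perm (Fin P.N) := rot P.fe

theorem e_val (v : Fin P.N) : (P.e v).val =
    if v.val = 1 ∧ 0 < P.m then P.c
    else if P.c ≤ v.val ∧ v.val + 1 < P.p then v.val + 1
    else if P.c ≤ v.val ∧ v.val + 1 = P.p then (if P.m % 2 = 1 then 2 else 1)
    else if v.val = 2 ∧ P.m % 2 = 1 then 1 else v.val := by
  have := P.hm
  refine rot_val P.fe (fun i => if i = 0 then 1 else if i ≤ P.m then P.c + i - 1 else 2) (fun v =>
    if v = 1 ∧ 0 < P.m then P.c
    else if P.c ≤ v ∧ v + 1 < P.p then v + 1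
    else if P.c ≤ v ∧ v + 1 = P.p then (if P.m % 2 = 1 then 2 else 1)
    else if v = 2 ∧ P.m % 2 = 1 then 1 else v) (fun i => rfl) ?_ ?_ ?_ v
  · intro i hi; simp only [Par.c] at *; split_ifs <;> first | omega | tauto | simp_all
  · simp only [Par.c] at *; split_ifs <;> first | omega | tauto | simp_all
  · intro b hb h
    have e1 := h (b - P.c + 1)
    have e2 := h 0
    have e3 := h (P.m + 1)
    simp only [Par.N, Par.c] at *
    split_ifs at e1 e2 e3 ⊢ <;> first | omega | tauto | simp_all

theorem e_pow (j : ℕ) (hj : j ≤ P.m) : ((P.e ^ j) (V 1)).val = if j = 0 then 1 else P.c + j - 1 := by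
  have := P.hm
  induction j with
  | zero => simp [V_val (show 1 < P.N by simp only [Par.N]; omega)]
  | succ j ih =>
    rw [pow_succ', Perm.mul_apply, e_val, ih (by omega)]
    simp only [Par.c] at *
    split_ifs <;> first | omega | tauto | simp_all

theorem e_sign : sign P.e = 1 := rot_sign _ (by rw [Nat.odd_iff]; omega)

/-- the point of the second cycle among the residues -/
abbrev x : ℕ := 2 + P.m % 2

/-- the listing -/
def ff : Fin (P.m + P.m % 2 + 1) ↪ Fin P.N :=
  mkEmb (fun i => if i = 0 then P.x else if i ≤ P.m then P.p + 1 + i else P.p)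
    (fun i hi => by have := P.hm; simp only [Par.N, Par.x] at *; split_ifs <;> first | omega | tauto | simp_all)
    (fun i j hi hj => by have := P.hm; simp only [Par.x] at *; split_ifs <;> first | omega | tauto | simp_all)

/-- the second cycle -/
def f' : Equiv.Perm (Fin P.N) := rot P.ff

theorem f'_val (v : Fin P.N) : (P.f' v).val =
    if v.val = P.x ∧ 0 < P.m then P.p + 2
    else if P.p + 2 ≤ v.val ∧ v.val + 1 < P.p + 2 + P.m then v.val + 1
    else if P.p + 2 ≤ v.val then (if P.m % 2 = 1 then P.p else P.x)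
    else if v.val = P.p ∧ P.m % 2 = 1 then P.x else v.val := by
  have := P.hm
  refine rot_val P.ff (fun i => if i = 0 then P.x else if i ≤ P.m then P.p + 1 + i else P.p) (fun v =>
    if v = P.x ∧ 0 < P.m then P.p + 2
    else if P.p + 2 ≤ v ∧ v + 1 < P.p + 2 + P.m then v + 1
    else if P.p + 2 ≤ v then (if P.m % 2 = 1 then P.p else P.x)
    else if v = P.p ∧ P.m % 2 = 1 then P.x else v) (fun i => rfl) ?_ ?_ ?_ v
  · intro i hi; simp only [Par.x] at *; split_ifs <;> first | omega | tauto | simp_all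
  · simp only [Par.x] at *; split_ifs <;> first | omega | tauto | simp_all
  · intro b hb h
    have e1 := h (b - P.p - 1)
    have e2 := h 0
    have e3 := h (P.m + 1)
    simp only [Par.N, Par.x] at *
    split_ifs at e1 e2 e3 ⊢ <;> first | omega | tauto | simp_all

theorem f'_pow (j : ℕ) (hj : j ≤ P.m) : ((P.f' ^ j) (V P.x)).val = if j = 0 then P.x else P.p + 1 + j := by
  have := P.hm
  induction j with
  | zero => simp [V_val (show P.x < P.N by simp only [Par.N, Par.x]; omega)]
  | succ j ih =>
    rw [pow_succ', Perm.mul_apply, f'_val, ih (by omega)]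
    simp only [Par.x] at *
    split_ifs <;> first | omega | tauto | simp_all

theorem f'_sign : sign P.f' = 1 := rot_sign _ (by rw [Nat.odd_iff]; omega)

/-- the first double transposition -/
def π₀ : Equiv.Perm (Fin P.N) :=
  if P.m % 2 = 0 then Equiv.swap (V 1) (V 2) * Equiv.swap (V P.p) (V (P.p + 1))
  else Equiv.swap (V 1) (V 3) * Equiv.swap (V 2) (V P.p)

/-- the conjugator between the two cycles -/
def ρ : Equiv.Perm (Fin P.N) := if P.m % 2 = 0 ∧ P.tau = 1 then 1 else P.π₀

/-- the second conjugator -/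
def π : Equiv.Perm (Fin P.N) :=
  if P.m % 2 = 1 ∧ P.tau = 1 then P.π₀ * (Equiv.swap (V 3) (V P.p) * Equiv.swap (V 0) (V (P.p + 1)))
  else P.ρ

theorem π₀_val (v : Fin P.N) : (P.π₀ v).val =
    if P.m % 2 = 0 then
      (if v.val = 1 then 2 else if v.val = 2 then 1 else if v.val = P.p then P.p + 1
        else if v.val = P.p + 1 then P.p else v.val)
    else (if v.val = 1 then 3 else if v.val = 3 then 1 else if v.val = 2 then P.p
        else if v.val = P.p then 2 else v.val) := by
  have := P.hm
  have := P.p_odd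
  have := v.2
  have hN : P.N = P.p + 2 + P.m := rfl
  unfold π₀
  by_cases h : P.m % 2 = 0
  · simp only [if_pos h, Perm.mul_apply, swap_val,
      V_val (show 1 < P.N by omega), V_val (show 2 < P.N by omega), V_val (show P.p < P.N by omega),
      V_val (show P.p + 1 < P.N by omega)]
    split_ifs <;> first | omega | tauto | simp_all
  · simp only [if_neg h, Perm.mul_apply, swap_val,
      V_val (show 1 < P.N by omega), V_val (show 2 < P.N by omega), V_val (show P.p < P.N by omega),
      V_val (show 3 < P.N by omega)]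
    split_ifs <;> first | omega | tauto | simp_all

theorem π₀_sign : sign P.π₀ = 1 := by
  have := P.hm
  have := P.p_odd
  have hN : P.N = P.p + 2 + P.m := rfl
  unfold π₀
  split_ifs with h <;>
  rw [map_mul, sign_swap (V_ne (by omega) (by omega) (by omega)),
    sign_swap (V_ne (by omega) (by omega) (by omega))] <;> rfl

theorem π₀_mem : P.π₀ ∈ altOn P.cmS := by
  refine ⟨P.π₀_sign, fun v hv => Fin.ext ?_⟩
  rw [mem_cmS] at hv
  rw [π₀_val]
  have := P.hm
  have := P.p_odd
  simp only [Par.c] at *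
  split_ifs <;> first | omega | tauto | simp_all

theorem ρ_mem : P.ρ ∈ altOn P.cmS := by
  unfold ρ
  split_ifs
  exacts [one_mem _, P.π₀_mem]

theorem π_mem : P.π ∈ altOn P.cmS := by
  have := P.hm
  have := P.p_odd
  have hN : P.N = P.p + 2 + P.m := rfl
  unfold π
  split_ifs with h
  · refine mul_mem P.π₀_mem ⟨?_, fun v hv => Fin.ext ?_⟩
    · rw [map_mul, sign_swap (V_ne (by omega) (by omega) (by omega)),
        sign_swap (V_ne (by omega) (by omega) (by omega))]; rfl
    · rw [mem_cmS] at hv
      rw [Perm.mul_apply, swap_val, swap_val, V_val (show 3 < P.N by omega), V_val (show P.p < P.N by omega),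
        V_val (show 0 < P.N by omega), V_val (show P.p + 1 < P.N by omega)]
      simp only [Par.c] at *
      split_ifs <;> first | omega | tauto | simp_all
  · exact P.ρ_mem

theorem ρ_e : P.ρ * P.e * P.ρ⁻¹ = P.σ * P.f' * P.σ := by
  rw [show P.σ * P.f' * P.σ = P.σ * P.f' * P.σ⁻¹ by rw [inv_eq_of_mul_eq_one_right P.σσ]]
  rw [e, f', rot_conj P.ρ P.fe (P.fe.trans P.ρ.toEmbedding) (fun _ => rfl),
    rot_conj P.σ P.ff (P.ff.trans P.σ.toEmbedding) (fun _ => rfl)]
  congr 1
  refine Function.Embedding.ext fun i => Fin.ext ?_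
  show (P.ρ (P.fe i)).val = (P.σ (P.ff i)).val
  have := P.hm
  have := P.p_odd
  have := i.2
  unfold ρ
  by_cases hc : P.m % 2 = 0 ∧ P.tau = 1
  · rw [if_pos hc, Perm.one_apply, σ_val, fe, ff, mkEmb_val, mkEmb_val]
    simp only [Par.c, Par.x]
    split_ifs <;> first | omega | tauto | simp_all
  · rw [if_neg hc, π₀_val, σ_val, fe, ff, mkEmb_val, mkEmb_val]
    simp only [Par.c, Par.x]
    split_ifs <;> first | omega | tauto | simp_all

theorem fe_ff_cases (i : Fin (P.m + P.m % 2 + 1)) :
    ((P.fe i).val = 1 ∧ (P.ff i).val = P.x) ∨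
      (∃ j, j < P.m ∧ (P.fe i).val = P.c + j ∧ (P.ff i).val = P.p + 2 + j) ∨
      (P.m % 2 = 1 ∧ (P.fe i).val = 2 ∧ (P.ff i).val = P.p) := by
  have := P.hm
  have := i.2
  rw [fe, ff, mkEmb_val, mkEmb_val]
  rcases Nat.eq_zero_or_pos i.val with h | h
  · exact Or.inl ⟨if_pos h, if_pos h⟩
  · rcases Nat.lt_or_ge P.m i.val with h' | h'
    · refine Or.inr (Or.inr ⟨by omega, ?_, ?_⟩) <;> rw [if_neg (by omega), if_neg (by omega)]
    · refine Or.inr (Or.inl ⟨i.val - 1, by omega, ?_, ?_⟩) <;> rw [if_neg (by omega), if_pos h'] <;>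
        (try simp only [Par.c] at *) <;> omega

theorem π_e : P.π * P.e * P.π⁻¹ = P.ρ * P.e * P.ρ⁻¹ := by
  have := P.hm
  have := P.p_odd
  have hN : P.N = P.p + 2 + P.m := rfl
  rw [e, rot_conj P.π P.fe (P.fe.trans P.π.toEmbedding) (fun _ => rfl),
    rot_conj P.ρ P.fe (P.fe.trans P.ρ.toEmbedding) (fun _ => rfl)]
  congr 1
  refine Function.Embedding.ext fun i => Fin.ext ?_
  show (P.π (P.fe i)).val = (P.ρ (P.fe i)).val
  have := i.2
  unfold π
  split_ifs with h
  · unfold ρ
    rw [if_neg (by omega), Perm.mul_apply, Perm.mul_apply, π₀_val, π₀_val, swap_val, swap_val,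
      V_val (show 3 < P.N by omega), V_val (show P.p < P.N by omega),
      V_val (show 0 < P.N by omega), V_val (show P.p + 1 < P.N by omega)]
    rcases P.fe_ff_cases i with ⟨e1, -⟩ | ⟨j, hj, e1, -⟩ | ⟨hodd, e1, -⟩ <;> rw [e1] <;>
      simp only [Par.c] <;> split_ifs <;> first | omega | tauto | simp_all
  · rfl

theorem π_f' : P.π * P.f' * P.π⁻¹ = P.σ * P.e * P.σ := by
  have := P.hm
  have := P.p_odd
  have hN : P.N = P.p + 2 + P.m := rfl
  rw [show P.σ * P.e * P.σ = P.σ * P.e * P.σ⁻¹ by rw [inv_eq_of_mul_eq_one_right P.σσ]]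
  rw [e, f', rot_conj P.π P.ff (P.ff.trans P.π.toEmbedding) (fun _ => rfl),
    rot_conj P.σ P.fe (P.fe.trans P.σ.toEmbedding) (fun _ => rfl)]
  congr 1
  refine Function.Embedding.ext fun i => Fin.ext ?_
  show (P.π (P.ff i)).val = (P.σ (P.fe i)).val
  unfold π
  by_cases h : P.m % 2 = 1 ∧ P.tau = 1
  · rw [if_pos h, Perm.mul_apply, Perm.mul_apply, π₀_val, swap_val, swap_val, σ_val,
      V_val (show 3 < P.N by omega), V_val (show P.p < P.N by omega),
      V_val (show 0 < P.N by omega), V_val (show P.p + 1 < P.N by omega)]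
    rcases P.fe_ff_cases i with ⟨e1, e2⟩ | ⟨j, hj, e1, e2⟩ | ⟨hodd, e1, e2⟩ <;> rw [e1, e2] <;>
      simp only [Par.c, Par.x] <;> split_ifs <;> first | omega | tauto | simp_all
  · rw [if_neg h]
    unfold ρ
    by_cases hc : P.m % 2 = 0 ∧ P.tau = 1
    · rw [if_pos hc, Perm.one_apply, σ_val]
      rcases P.fe_ff_cases i with ⟨e1, e2⟩ | ⟨j, hj, e1, e2⟩ | ⟨hodd, e1, e2⟩ <;> rw [e1, e2] <;>
        simp only [Par.c, Par.x] <;> split_ifs <;> first | omega | tauto | simp_all
    · rw [if_neg hc, π₀_val, σ_val]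
      rcases P.fe_ff_cases i with ⟨e1, e2⟩ | ⟨j, hj, e1, e2⟩ | ⟨hodd, e1, e2⟩ <;> rw [e1, e2] <;>
        simp only [Par.c, Par.x] <;> split_ifs <;> first | omega | tauto | simp_all

/-- the listing of `σ e` -/
def fk : Fin (2 * P.m + 1) ↪ Fin P.N :=
  mkEmb (fun i => if i = 0 then 1 else if i % 2 = 1 then P.p + 2 + i / 2 else P.c + i / 2 - 1)
    (fun i hi => by have := P.hm; simp only [Par.N, Par.c] at *; split_ifs <;> first | omega | tauto | simp_all)
    (fun i j hi hj => by have := P.hm; simp only [Par.c] at *; split_ifs <;> first | omega | tauto | simp_all)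

/-- the values of the cycle -/
def eF (v : ℕ) : ℕ :=
  if v = 1 ∧ 0 < P.m then P.c
  else if P.c ≤ v ∧ v + 1 < P.p then v + 1
  else if P.c ≤ v ∧ v + 1 = P.p then (if P.m % 2 = 1 then 2 else 1)
  else if v = 2 ∧ P.m % 2 = 1 then 1 else v

/-- the values of the involution -/
def σF (v : ℕ) : ℕ :=
  if P.c ≤ v ∧ v < P.p then v + (P.m + 2)
  else if P.p + 2 ≤ v then v - (P.m + 2)
  else if P.tau = 1 ∧ v = 1 then 2
  else if P.tau = 1 ∧ v = 2 then 1 else v

theorem σe_pow (htau : P.tau = 1 ↔ P.m % 2 = 1) : (P.σ * P.e) ^ (2 * P.m + 1) = 1 := by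
  have := P.hm
  have hk : P.σ * P.e = rot P.fk := by
    refine Equiv.ext fun v => Fin.ext ?_
    rw [Perm.mul_apply, σ_val, e_val]
    symm
    refine rot_val P.fk (fun i => if i = 0 then 1 else if i % 2 = 1 then P.p + 2 + i / 2 else P.c + i / 2 - 1)
      (fun v => P.σF (P.eF v)) (fun i => rfl) ?_ ?_ ?_ v
    · intro i hi
      (try dsimp only)
      have hw : P.eF (if i = 0 then 1 else if i % 2 = 1 then P.p + 2 + i / 2 else P.c + i / 2 - 1) =
          if i = 0 then P.c else if i % 2 = 1 then P.p + 2 + i / 2 else P.c + i / 2 := by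
        rcases Nat.eq_zero_or_pos i with h0 | h0
        · rw [if_pos h0, if_pos h0, eF, if_pos ⟨rfl, by omega⟩]
        · rw [if_neg h0.ne', if_neg h0.ne']
          by_cases h1 : i % 2 = 1
          · rw [if_pos h1]; simp only [eF, Par.c]; split_ifs <;> first | omega | tauto | simp_all
          · rw [if_neg h1, if_neg h1]; simp only [eF, Par.c]; split_ifs <;> first | omega | tauto | simp_all
      rw [hw]
      rcases Nat.eq_zero_or_pos i with h0 | h0
      · rw [if_pos h0, if_neg (by omega : ¬ i + 1 = 0), if_pos (by omega : (i + 1) % 2 = 1)]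
        simp only [σF, Par.c]; split_ifs <;> first | omega | tauto | simp_all
      · rw [if_neg h0.ne', if_neg (by omega : ¬ i + 1 = 0)]
        by_cases h1 : i % 2 = 1
        · rw [if_pos h1, if_neg (by omega : ¬ (i + 1) % 2 = 1)]
          simp only [σF, Par.c]; split_ifs <;> first | omega | tauto | simp_all
        · rw [if_neg h1, if_pos (by omega : (i + 1) % 2 = 1)]
          simp only [σF, Par.c]; split_ifs <;> first | omega | tauto | simp_all
    · (try dsimp only)
      rcases Nat.eq_zero_or_pos P.m with h0 | h0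
      · simp only [h0, Nat.mul_zero, Nat.zero_add, Nat.sub_self, if_true]
        simp only [eF, σF, Par.c, h0]; split_ifs <;> first | omega | tauto | simp_all
      · rw [if_neg (by omega : ¬ 2 * P.m + 1 - 1 = 0), if_neg (by omega : ¬ (2 * P.m + 1 - 1) % 2 = 1), if_pos rfl]
        have hw : P.eF (P.c + (2 * P.m + 1 - 1) / 2 - 1) = if P.m % 2 = 1 then 2 else 1 := by
          simp only [eF, Par.c]; split_ifs <;> first | omega | tauto | simp_all
        rw [hw]
        simp only [σF, Par.c]; split_ifs <;> first | omega | tauto | simp_all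
    · intro b hb h
      (try dsimp only)
      simp only [Par.N, Par.c] at hb h
      have hw : b ≠ 1 ∧ (b < P.c ∨ b = P.p ∨ b = P.p + 1) := by
        refine ⟨fun hb1 => h 0 (by omega) (by rw [if_pos rfl]; omega), ?_⟩
        simp only [Par.c]
        by_contra hh
        rcases Nat.lt_or_ge b P.p with h' | h'
        · exact h (2 * (b - (P.p - P.m)) + 2) (by omega) (by rw [if_neg (by omega), if_neg (by omega)]; omega)
        · exact h (2 * (b - P.p - 2) + 1) (by omega) (by rw [if_neg (by omega), if_pos (by omega)]; omega)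
      obtain ⟨hb1, hb2⟩ := hw
      clear h
      simp only [Par.c] at hb2
      have hw : P.eF b = if b = 2 ∧ P.m % 2 = 1 then 1 else b := by
        simp only [eF, Par.c]
        rw [if_neg (by omega), if_neg (by omega), if_neg (by omega)]
      rw [hw]
      simp only [σF, Par.c]
      split_ifs <;> omega
  rw [hk, rot_pow_card]

end Par

end CfsgLib.Perm.AltBounded
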