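import Cfsg.Agent.Lib.Perm.AltBounded.Carmichael

/-!
# Gluing two alternating groups along an involution
-/

set_option autoImplicit false

open Equiv Equiv.Perm

namespace CfsgLib.Perm.AltBounded

variable {α : Type*} [Fintype α] [DecidableEq α] {G : Type*} [Group G]

/-- an alternating group on `Om` inside `G` and an involution moving it -/
structure Glue (α : Type*) [Fintype α] [DecidableEq α] (G : Type*) [Group G] where
  Om : Finset α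
  A : α
  B : α
  hA : A ∈ Om
  hB : B ∈ Om
  hAB : A ≠ B
  σ : Equiv.Perm α
  σσ : σ * σ = 1
  σA : σ A = A
  σB : σ B = B
  cover : ∀ v, v ∈ Om ∨ σ v ∈ Om
  φ : Equiv.Perm α → G
  hφ : IsHomOn (altOn Om) φ
  t : G
  tt : t * t = 1
  agree : ∀ π ∈ altOn (Om.filter fun v => σ v ∈ Om), t * φ π * t = φ (σ * π * σ)

namespace Glue

variable (D : Glue α G)

/-- the common points -/
def cm : Finset α := D.Om.filter fun v => D.σ v ∈ D.Om

/-- the moved set -/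
def Om' : Finset α := Finset.univ.filter fun v => D.σ v ∈ D.Om

/-- the second copy -/
def ψ (π : Equiv.Perm α) : G := D.t * D.φ (D.σ * π * D.σ) * D.t

theorem σσ_apply (v : α) : D.σ (D.σ v) = v := by rw [← Perm.mul_apply, D.σσ, Perm.one_apply]

theorem σ_inv : D.σ⁻¹ = D.σ := inv_eq_of_mul_eq_one_right D.σσ

theorem mem_cm {v : α} : v ∈ D.cm ↔ v ∈ D.Om ∧ D.σ v ∈ D.Om := Finset.mem_filter

theorem mem_Om' {v : α} : v ∈ D.Om' ↔ D.σ v ∈ D.Om := by simp [Om']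

theorem cm_le : D.cm ⊆ D.Om := Finset.filter_subset _ _

theorem cm_le' : D.cm ⊆ D.Om' := fun _ h => D.mem_Om'.2 (D.mem_cm.1 h).2

theorem A_cm : D.A ∈ D.cm := D.mem_cm.2 ⟨D.hA, by rw [D.σA]; exact D.hA⟩

theorem B_cm : D.B ∈ D.cm := D.mem_cm.2 ⟨D.hB, by rw [D.σB]; exact D.hB⟩

theorem conj_σ_mem {S T : Finset α} (h : ∀ v, D.σ v ∈ S → v ∈ T) {π : Equiv.Perm α} (hπ : π ∈ altOn S) :
    D.σ * π * D.σ ∈ altOn T := by
  refine ⟨?_, fun v hv => ?_⟩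
  · have h1 : sign D.σ * sign D.σ = 1 := by rw [← map_mul, D.σσ, map_one]
    rw [map_mul, map_mul, hπ.1, mul_one, h1]
  · rw [Perm.mul_apply, Perm.mul_apply, hπ.2 _ fun e => hv (h v e), D.σσ_apply]

theorem conj_Om {π : Equiv.Perm α} (hπ : π ∈ altOn D.Om) : D.σ * π * D.σ ∈ altOn D.Om' :=
  D.conj_σ_mem (fun _ h => D.mem_Om'.2 h) hπ

theorem conj_Om' {π : Equiv.Perm α} (hπ : π ∈ altOn D.Om') : D.σ * π * D.σ ∈ altOn D.Om :=
  D.conj_σ_mem (fun v h => by rw [mem_Om', D.σσ_apply] at h; exact h) hπ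

theorem conj_cm {π : Equiv.Perm α} (hπ : π ∈ altOn D.cm) : D.σ * π * D.σ ∈ altOn D.cm :=
  D.conj_σ_mem (fun v h => by
    rw [mem_cm, D.σσ_apply] at h; exact D.mem_cm.2 ⟨h.2, h.1⟩) hπ

theorem conj_conj (π : Equiv.Perm α) : D.σ * (D.σ * π * D.σ) * D.σ = π := by
  rw [show D.σ * (D.σ * π * D.σ) * D.σ = (D.σ * D.σ) * π * (D.σ * D.σ) by group, D.σσ, one_mul, mul_one]

theorem ψ_hom : IsHomOn (altOn D.Om') D.ψ := by
  intro x hx y hy
  simp only [ψ]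
  rw [show D.σ * (x * y) * D.σ = D.σ * x * D.σ * (D.σ * y * D.σ) by
    rw [show D.σ * x * D.σ * (D.σ * y * D.σ) = D.σ * x * (D.σ * D.σ) * y * D.σ by group, D.σσ, mul_one]
    group, D.hφ _ (D.conj_Om' hx) _ (D.conj_Om' hy)]
  rw [show D.t * D.φ (D.σ * x * D.σ) * D.t * (D.t * D.φ (D.σ * y * D.σ) * D.t) =
    D.t * D.φ (D.σ * x * D.σ) * (D.t * D.t) * D.φ (D.σ * y * D.σ) * D.t by group, D.tt, mul_one]
  group

theorem ψ_eq {π : Equiv.Perm α} (hπ : π ∈ altOn D.cm) : D.ψ π = D.φ π := by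
  rw [ψ, D.agree _ (D.conj_cm hπ), D.conj_conj]

theorem φ_conj_ψ {π x : Equiv.Perm α} (hπ : π ∈ altOn D.cm) (hx : x ∈ altOn D.Om') :
    D.φ π * D.ψ x * (D.φ π)⁻¹ = D.ψ (π * x * π⁻¹) := by
  rw [D.ψ_hom.conj (altOn_mono D.cm_le' hπ) hx, D.ψ_eq hπ]

theorem ψ_conj_σ (π : Equiv.Perm α) : D.ψ (D.σ * π * D.σ) = D.t * D.φ π * D.t := by rw [ψ, D.conj_conj]

/-- commutation spreads to conjugates -/
theorem commute_spread {e f : Equiv.Perm α} (he : e ∈ altOn D.Om) (hf : f ∈ altOn D.Om')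
    (hef : Commute (D.φ e) (D.ψ f)) {R1 R2 T1 T2 W : Finset α} (hR1 : R1 ⊆ D.cm) (hR2 : R2 ⊆ D.cm)
    (heR : ∀ π ∈ altOn R2, Commute π e) (hW : W ⊆ T2) (hWR : Disjoint R1 W)
    (h1 : altOn T1 ≤ Subgroup.closure {g | ∃ π ∈ altOn R1, g = π * e * π⁻¹})
    (h2 : altOn T2 ≤ Subgroup.closure {g | ∃ π ∈ altOn R2, g = π * f * π⁻¹})
    {x w : Equiv.Perm α} (hx : x ∈ altOn T1) (hw : w ∈ altOn W) : Commute (D.φ x) (D.ψ w) := by
  have hS2 : {g | ∃ π ∈ altOn R2, g = π * f * π⁻¹} ⊆ (altOn D.Om' : Set (Equiv.Perm α)) := by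
    rintro _ ⟨π, hπ, rfl⟩
    have hπ' := altOn_mono (hR2.trans D.cm_le') hπ
    exact mul_mem (mul_mem hπ' hf) (inv_mem hπ')
  have step : ∀ y ∈ altOn T2, Commute (D.φ e) (D.ψ y) := fun y hy =>
    D.ψ_hom.commute_closure hS2 (by
      rintro _ ⟨π, hπ, rfl⟩
      rw [← D.φ_conj_ψ (altOn_mono hR2 hπ) hf]
      have h' : Commute (D.φ π) (D.φ e) :=
        D.hφ.map_commute (altOn_mono (hR2.trans D.cm_le) hπ) he (heR π hπ)
      exact (h'.symm.mul_right hef).mul_right h'.symm.inv_right) y (h2 hy)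
  have hwT : w ∈ altOn T2 := altOn_mono hW hw
  have hT2 : altOn T2 ≤ altOn D.Om' := h2.trans ((Subgroup.closure_le _).2 hS2)
  refine (D.hφ.commute_closure (S := {g | ∃ π ∈ altOn R1, g = π * e * π⁻¹}) ?_ ?_ x (h1 hx)).symm
  · rintro _ ⟨π, hπ, rfl⟩
    have hπ' := altOn_mono (hR1.trans D.cm_le) hπ
    exact mul_mem (mul_mem hπ' he) (inv_mem hπ')
  · rintro _ ⟨π, hπ, rfl⟩
    have hπO := altOn_mono (hR1.trans D.cm_le) hπ
    have h' : Commute (D.φ π) (D.ψ w) := by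
      rw [← D.ψ_eq (altOn_mono hR1 hπ)]
      exact D.ψ_hom.map_commute (altOn_mono (hR1.trans D.cm_le') hπ) (hT2 hwT) (commute_of_disjoint hWR hπ hw)
    rw [D.hφ.conj hπO he]
    exact (h'.symm.mul_right (step w hwT).symm).mul_right h'.symm.inv_right

/-- the gluing theorem -/
theorem exists_extension (mixed : ∀ i ∈ D.Om, D.σ i ∉ D.Om → ∀ j, j ∉ D.Om →
      ∃ c ∈ D.cm, c ≠ D.A ∧ c ≠ D.B ∧ ∃ w ∈ altOn D.Om', w c = j ∧ w D.A = D.A ∧ w D.B = D.B ∧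
        Commute (D.φ (cyc D.A D.B i)) (D.ψ w)) :
    ∃ Φ : Equiv.Perm α → G, IsHomOn (altOn (Finset.univ : Finset α)) Φ ∧
      (∀ π ∈ altOn D.Om, Φ π = D.φ π) ∧
      ∀ π ∈ altOn (Finset.univ : Finset α), D.t * Φ π * D.t = Φ (D.σ * π * D.σ) := by
  classical
  let y : α → G := fun i => if i ∈ D.Om then D.φ (cyc D.A D.B i) else D.ψ (cyc D.A D.B i)
  have hA' : D.A ∈ D.Om' := D.cm_le' D.A_cm
  have hB' : D.B ∈ D.Om' := D.cm_le' D.B_cm
  have yO : ∀ i ∈ D.Om, y i = D.φ (cyc D.A D.B i) := fun i hi => if_pos hi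
  have yO' : ∀ i ∈ D.Om', i ≠ D.A → i ≠ D.B → y i = D.ψ (cyc D.A D.B i) := fun i hi h1 h2 => by
    by_cases h : i ∈ D.Om
    · rw [yO i h, D.ψ_eq (cyc_mem D.hAB h1.symm h2.symm D.A_cm D.B_cm (D.mem_cm.2 ⟨h, D.mem_Om'.1 hi⟩))]
    · exact if_neg h
  have hc3 : ∀ i, i ≠ D.A → i ≠ D.B → cyc D.A D.B i * cyc D.A D.B i * cyc D.A D.B i = 1 := fun i h1 h2 => by
    rw [← pow_orderOf_eq_one (cyc D.A D.B i), (cyc_isThreeCycle D.hAB h1.symm h2.symm).orderOf, pow_succ, pow_two]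
  have hpair : ∀ i j, i ≠ D.A → i ≠ D.B → j ≠ D.A → j ≠ D.B → i ≠ j →
      cyc D.A D.B i * cyc D.A D.B j * (cyc D.A D.B i * cyc D.A D.B j) = 1 := fun i j h1 h2 k1 k2 hij => by
    refine Equiv.ext fun v => ?_
    simp only [Perm.mul_apply, Perm.one_apply]
    rcases eq_or_ne v D.A with rfl | v1
    · rw [cyc_apply_A D.hAB k1.symm k2.symm, cyc_apply_B h1.symm h2.symm, cyc_apply_of_ne h1 h2 hij,
        cyc_apply_i]
    rcases eq_or_ne v D.B with rfl | v2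
    · rw [cyc_apply_B k1.symm k2.symm, cyc_apply_of_ne k1 k2 hij.symm, cyc_apply_i,
        cyc_apply_A D.hAB h1.symm h2.symm]
    rcases eq_or_ne v j with rfl | v3
    · rw [cyc_apply_i, cyc_apply_A D.hAB h1.symm h2.symm, cyc_apply_B k1.symm k2.symm,
        cyc_apply_of_ne k1 k2 hij.symm]
    rcases eq_or_ne v i with rfl | v4
    · rw [cyc_apply_of_ne h1 h2 hij, cyc_apply_i, cyc_apply_A D.hAB k1.symm k2.symm,
        cyc_apply_B h1.symm h2.symm]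
    rw [cyc_apply_of_ne v1 v2 v3, cyc_apply_of_ne v1 v2 v4, cyc_apply_of_ne v1 v2 v3, cyc_apply_of_ne v1 v2 v4]
  have y3 : ∀ i, i ≠ D.A → i ≠ D.B → y i * y i * y i = 1 := fun i h1 h2 => by
    rcases D.cover i with h | h
    · have hm := cyc_mem D.hAB h1.symm h2.symm D.hA D.hB h
      rw [yO i h, ← D.hφ _ hm _ hm, ← D.hφ _ (mul_mem hm hm) _ hm, hc3 i h1 h2, D.hφ.one]
    · have hm := cyc_mem D.hAB h1.symm h2.symm hA' hB' (D.mem_Om'.2 h)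
      rw [yO' i (D.mem_Om'.2 h) h1 h2, ← D.ψ_hom _ hm _ hm, ← D.ψ_hom _ (mul_mem hm hm) _ hm, hc3 i h1 h2,
        D.ψ_hom.one]
  have sameO : ∀ i j, i ∈ D.Om → j ∈ D.Om → i ≠ D.A → i ≠ D.B → j ≠ D.A → j ≠ D.B → i ≠ j →
      y i * y j * (y i * y j) = 1 := fun i j hi hj h1 h2 k1 k2 hij => by
    have hmi := cyc_mem D.hAB h1.symm h2.symm D.hA D.hB hi
    have hmj := cyc_mem D.hAB k1.symm k2.symm D.hA D.hB hj
    rw [yO i hi, yO j hj, ← D.hφ _ hmi _ hmj, ← D.hφ _ (mul_mem hmi hmj) _ (mul_mem hmi hmj),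
      hpair i j h1 h2 k1 k2 hij, D.hφ.one]
  have sameO' : ∀ i j, i ∈ D.Om' → j ∈ D.Om' → i ≠ D.A → i ≠ D.B → j ≠ D.A → j ≠ D.B → i ≠ j →
      y i * y j * (y i * y j) = 1 := fun i j hi hj h1 h2 k1 k2 hij => by
    have hmi := cyc_mem D.hAB h1.symm h2.symm hA' hB' hi
    have hmj := cyc_mem D.hAB k1.symm k2.symm hA' hB' hj
    rw [yO' i hi h1 h2, yO' j hj k1 k2, ← D.ψ_hom _ hmi _ hmj,
      ← D.ψ_hom _ (mul_mem hmi hmj) _ (mul_mem hmi hmj), hpair i j h1 h2 k1 k2 hij, D.ψ_hom.one]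
  have across : ∀ i j, i ∈ D.Om → D.σ i ∉ D.Om → j ∉ D.Om → i ≠ D.A → i ≠ D.B → j ≠ D.A → j ≠ D.B →
      y i * y j * (y i * y j) = 1 := fun i j hi hσi hj h1 h2 k1 k2 => by
    obtain ⟨c, hc, c1, c2, w, hw, hwc, hwA, hwB, hcom⟩ := mixed i hi hσi j hj
    have hcO' := D.cm_le' hc
    have hjO' : j ∈ D.Om' := D.mem_Om'.2 ((D.cover j).resolve_left hj)
    have e : cyc D.A D.B j = w * cyc D.A D.B c * w⁻¹ := by rw [cyc_conj, hwA, hwB, hwc]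
    have hic : i ≠ c := fun e => hσi (e ▸ (D.mem_cm.1 hc).2)
    rw [yO' j hjO' k1 k2, e, D.ψ_hom.conj hw (cyc_mem D.hAB c1.symm c2.symm hA' hB' hcO'),
      ← yO' c hcO' c1 c2]
    have hcom' : Commute (y i) (D.ψ w) := yO i hi ▸ hcom
    calc y i * (D.ψ w * y c * (D.ψ w)⁻¹) * (y i * (D.ψ w * y c * (D.ψ w)⁻¹))
        = (y i * D.ψ w) * y c * (D.ψ w)⁻¹ * ((y i * D.ψ w) * y c * (D.ψ w)⁻¹) := by group
      _ = D.ψ w * (y i * y c * (y i * y c)) * (D.ψ w)⁻¹ := by rw [hcom'.eq]; group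
      _ = 1 := by rw [sameO i c hi (D.cm_le hc) h1 h2 c1 c2 hic, mul_one, mul_inv_cancel]
  have flip : ∀ a b : G, a * b * (a * b) = 1 → b * a * (b * a) = 1 := fun a b e => by
    calc b * a * (b * a) = a⁻¹ * (a * b * (a * b)) * a := by group
      _ = 1 := by rw [e, mul_one, inv_mul_cancel]
  have yp : ∀ i ∈ (Finset.univ : Finset α), ∀ j ∈ (Finset.univ : Finset α), i ≠ D.A → i ≠ D.B → j ≠ D.A →
      j ≠ D.B → i ≠ j → y i * y j * (y i * y j) = 1 := by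
    intro i _ j _ h1 h2 k1 k2 hij
    by_cases hi : i ∈ D.Om <;> by_cases hj : j ∈ D.Om
    · exact sameO i j hi hj h1 h2 k1 k2 hij
    · by_cases hσ : D.σ i ∈ D.Om
      · exact sameO' i j (D.mem_Om'.2 hσ) (D.mem_Om'.2 ((D.cover j).resolve_left hj)) h1 h2 k1 k2 hij
      · exact across i j hi hσ hj h1 h2 k1 k2
    · by_cases hσ : D.σ j ∈ D.Om
      · exact sameO' i j (D.mem_Om'.2 ((D.cover i).resolve_left hi)) (D.mem_Om'.2 hσ) h1 h2 k1 k2 hij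
      · exact flip _ _ (across j i hj hσ hi k1 k2 h1 h2)
    · exact sameO' i j (D.mem_Om'.2 ((D.cover i).resolve_left hi)) (D.mem_Om'.2 ((D.cover j).resolve_left hj))
        h1 h2 k1 k2 hij
  obtain ⟨Φ, hΦ, hΦy⟩ := exists_homOn (Finset.univ : Finset α) (Finset.mem_univ D.A) (Finset.mem_univ D.B)
    D.hAB y (fun i _ h1 h2 => y3 i h1 h2) yp
  have le_univ : ∀ S : Finset α, altOn S ≤ altOn (Finset.univ : Finset α) := fun S =>
    altOn_mono (Finset.subset_univ S)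
  have hOm : ∀ π ∈ altOn D.Om, Φ π = D.φ π := by
    intro π hπ
    refine (hΦ.mono (le_univ D.Om)).eq_closure D.hφ ?_ ?_ π ((closure_base D.Om D.hA D.hB D.hAB).symm ▸ hπ)
    · rintro _ ⟨i, hi, h1, h2, rfl⟩; exact cyc_mem D.hAB h1.symm h2.symm D.hA D.hB hi
    · rintro _ ⟨i, hi, h1, h2, rfl⟩; rw [hΦy i (Finset.mem_univ i) h1 h2, yO i hi]
  have hOm' : ∀ π ∈ altOn D.Om', Φ π = D.ψ π := by
    intro π hπ
    refine (hΦ.mono (le_univ D.Om')).eq_closure D.ψ_hom ?_ ?_ π ((closure_base D.Om' hA' hB' D.hAB).symm ▸ hπ)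
    · rintro _ ⟨i, hi, h1, h2, rfl⟩; exact cyc_mem D.hAB h1.symm h2.symm hA' hB' hi
    · rintro _ ⟨i, hi, h1, h2, rfl⟩; rw [hΦy i (Finset.mem_univ i) h1 h2, yO' i hi h1 h2]
  refine ⟨Φ, hΦ, hOm, fun π hπ => ?_⟩
  have hu : ∀ π, π ∈ altOn (Finset.univ : Finset α) → D.σ * π * D.σ ∈ altOn (Finset.univ : Finset α) :=
    fun π h => D.conj_σ_mem (fun v _ => Finset.mem_univ v) h
  have h' : IsHomOn (altOn (Finset.univ : Finset α)) (fun π => D.t * Φ (D.σ * π * D.σ) * D.t) := by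
    intro a ha b hb
    dsimp only
    rw [show D.σ * (a * b) * D.σ = D.σ * a * (D.σ * D.σ) * b * D.σ by rw [D.σσ]; group,
      show D.σ * a * (D.σ * D.σ) * b * D.σ = (D.σ * a * D.σ) * (D.σ * b * D.σ) by group,
      hΦ _ (hu a ha) _ (hu b hb)]
    calc D.t * (Φ (D.σ * a * D.σ) * Φ (D.σ * b * D.σ)) * D.t
        = D.t * Φ (D.σ * a * D.σ) * (D.t * D.t) * Φ (D.σ * b * D.σ) * D.t := by rw [D.tt]; group
      _ = _ := by group
  have e := hΦ.eq_closure h' (S := {g | ∃ i ∈ (Finset.univ : Finset α), i ≠ D.A ∧ i ≠ D.B ∧ g = cyc D.A D.B i})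
    ?_ ?_ (D.σ * π * D.σ) ((closure_base _ (Finset.mem_univ _) (Finset.mem_univ _) D.hAB).symm ▸ hu π hπ)
  · rw [e, D.conj_conj]
  · rintro _ ⟨i, hi, h1, h2, rfl⟩
    exact cyc_mem D.hAB h1.symm h2.symm (Finset.mem_univ _) (Finset.mem_univ _) hi
  · rintro _ ⟨i, -, h1, h2, rfl⟩
    rcases D.cover i with h | h
    · have hm := cyc_mem D.hAB h1.symm h2.symm D.hA D.hB h
      rw [hOm _ hm, hOm' _ (D.conj_Om hm), D.ψ_conj_σ]
      rw [show D.t * (D.t * D.φ (cyc D.A D.B i) * D.t) * D.t =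
        (D.t * D.t) * D.φ (cyc D.A D.B i) * (D.t * D.t) by group, D.tt, one_mul, mul_one]
    · have hm := cyc_mem D.hAB h1.symm h2.symm hA' hB' (D.mem_Om'.2 h)
      rw [hOm' _ hm, hOm _ (D.conj_Om' hm)]
      rfl

theorem q_eq_one {e π₀ π : Equiv.Perm α} {ℓ L : ℕ} (he : e ∈ altOn D.Om) (hℓ : Odd ℓ) (heℓ : e ^ ℓ = 1)
    {R R' : Finset α} (hR : R ⊆ D.cm) (hRe : ∀ x ∈ altOn R, Commute x e)
    (hRσ : ∀ x ∈ altOn R, D.σ * x * D.σ = x) (hRR : ∀ x ∈ altOn R', π⁻¹ * x * π ∈ altOn R)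
    (hgenC : altOn D.cm ≤ Subgroup.closure ((altOn R : Set (Equiv.Perm α)) ∪ (altOn R' : Set (Equiv.Perm α))))
    (hR' : R' ⊆ D.cm)
    (hgen : altOn D.Om ≤ Subgroup.closure ((altOn D.cm : Set (Equiv.Perm α)) ∪ {e}))
    (hπ₀ : π₀ ∈ altOn D.cm) (hπ : π ∈ altOn D.cm)
    (hπe : π * e * π⁻¹ = π₀ * e * π₀⁻¹)
    (hπf : π * (D.σ * (π₀ * e * π₀⁻¹) * D.σ) * π⁻¹ = D.σ * e * D.σ)
    (hq : D.φ e * (D.t * D.φ (π₀ * e * π₀⁻¹) * D.t) * (D.φ e)⁻¹ * (D.t * D.φ (π₀ * e * π₀⁻¹) * D.t)⁻¹ =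
      (D.t * D.φ e) ^ L) :
    (D.t * D.φ e) ^ L = 1 := by
  obtain ⟨q, hqd⟩ : ∃ q, q = (D.t * D.φ e) ^ L := ⟨_, rfl⟩
  obtain ⟨E, hE⟩ : ∃ E, E = D.φ e := ⟨_, rfl⟩
  obtain ⟨E0, hE0⟩ : ∃ E0, E0 = D.φ (π₀ * e * π₀⁻¹) := ⟨_, rfl⟩
  rw [← hqd, ← hE, ← hE0] at hq
  rw [← hqd]
  rw [← hE] at hqd
  have hcO : ∀ {x}, x ∈ altOn D.cm → x ∈ altOn D.Om := fun h => altOn_mono D.cm_le h
  have he0 : π₀ * e * π₀⁻¹ ∈ altOn D.Om := mul_mem (mul_mem (hcO hπ₀) he) (inv_mem (hcO hπ₀))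
  have tinv : D.t⁻¹ = D.t := inv_eq_of_mul_eq_one_right D.tt
  have htqt : D.t * q * D.t = E * q * E⁻¹ := by
    rw [hqd]
    conv_lhs => rw [show D.t * (D.t * E) ^ L * D.t = D.t * (D.t * E) ^ L * D.t⁻¹ by rw [tinv], ← conj_pow, tinv,
      show D.t * (D.t * E) * D.t = (D.t * D.t) * (E * D.t) by group, D.tt, one_mul]
    conv_rhs => rw [← conj_pow, show E * (D.t * E) * E⁻¹ = E * D.t by group]
  have qR : ∀ x ∈ altOn R, Commute q (D.φ x) := fun x hx => by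
    rw [hqd]
    refine Commute.pow_left ?_ L
    have h1 : Commute (D.φ x) E := hE ▸ D.hφ.map_commute (hcO (altOn_mono hR hx)) he (hRe x hx)
    have h2 : Commute (D.φ x) D.t := by
      have := D.agree x (altOn_mono hR hx)
      rw [hRσ x hx, mul_assoc, ← eq_inv_mul_iff_mul_eq, tinv] at this
      exact this
    exact (h2.mul_right h1).symm
  have key : D.φ π * q * (D.φ π)⁻¹ = E * q⁻¹ * E⁻¹ := by
    have c1 : D.φ π * E * (D.φ π)⁻¹ = E0 := by rw [hE, hE0, ← D.hφ.conj (hcO hπ) he, hπe]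
    have c2 : D.φ π * (D.t * E0 * D.t) * (D.φ π)⁻¹ = D.t * E * D.t := by
      rw [hE, hE0, ← D.ψ_conj_σ, ← D.ψ_conj_σ, D.φ_conj_ψ hπ (D.conj_Om he0), hπf]
    have lhs : D.φ π * q * (D.φ π)⁻¹ = E0 * (D.t * E * D.t) * E0⁻¹ * (D.t * E * D.t)⁻¹ := by
      rw [← hq,
        show D.φ π * (E * (D.t * E0 * D.t) * E⁻¹ * (D.t * E0 * D.t)⁻¹) * (D.φ π)⁻¹ =
          (D.φ π * E * (D.φ π)⁻¹) * (D.φ π * (D.t * E0 * D.t) * (D.φ π)⁻¹) * (D.φ π * E * (D.φ π)⁻¹)⁻¹ *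
            (D.φ π * (D.t * E0 * D.t) * (D.φ π)⁻¹)⁻¹ by group, c1, c2]
    have rhs : E * q⁻¹ * E⁻¹ = E0 * (D.t * E * D.t) * E0⁻¹ * (D.t * E * D.t)⁻¹ := by
      rw [show E * q⁻¹ * E⁻¹ = (E * q * E⁻¹)⁻¹ by group, ← htqt, ← hq]
      simp only [mul_inv_rev, inv_inv, tinv, mul_assoc]
      simp only [← mul_assoc D.t D.t, D.tt, one_mul, mul_one]
    rw [lhs, rhs]
  have qC : ∀ x ∈ altOn D.cm, Commute (D.φ π * q * (D.φ π)⁻¹) (D.φ x) := fun x hx =>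
    D.hφ.commute_closure (by
      rintro y (hy | hy)
      exacts [hcO (altOn_mono hR hy), hcO (altOn_mono hR' hy)]) (by
      rintro y (hy | hy)
      · rw [key]
        have h1 : Commute (D.φ y) E := hE ▸ D.hφ.map_commute (hcO (altOn_mono hR hy)) he (hRe y hy)
        exact ((h1.mul_right (qR y hy).symm.inv_right).mul_right h1.inv_right).symm
      · have hy' := hRR y hy
        have h1 := (qR _ hy').map (MulAut.conj (D.φ π)).toMonoidHom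
        simp only [MulEquiv.coe_toMonoidHom, MulAut.conj_apply] at h1
        rwa [← D.hφ.conj (hcO hπ) (hcO (altOn_mono hR hy')),
          show π * (π⁻¹ * y * π) * π⁻¹ = y by group] at h1) x (hgenC hx)
  have hπq : D.φ π * q * (D.φ π)⁻¹ = q := by
    have h1 := qC π hπ
    rw [commute_iff_eq, inv_mul_cancel_right] at h1
    have := mul_right_cancel (b := D.φ π) (a := D.φ π * q * (D.φ π)⁻¹) (c := q) ?_
    · exact this
    · rw [inv_mul_cancel_right]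
      exact (mul_left_cancel (a := D.φ π) (by rw [← mul_assoc, ← mul_assoc, h1]; group))
  have qC' : ∀ x ∈ altOn D.cm, Commute q (D.φ x) := fun x hx => hπq ▸ qC x hx
  have hinvq : E * q * E⁻¹ = q⁻¹ := by
    rw [hπq] at key
    calc E * q * E⁻¹ = (E * q⁻¹ * E⁻¹)⁻¹ := by group
      _ = q⁻¹ := by rw [← key]
  have h2 : Commute (E * E) q := by
    rw [commute_iff_eq, ← mul_inv_eq_iff_eq_mul]
    calc E * E * q * (E * E)⁻¹ = E * (E * q * E⁻¹) * E⁻¹ := by group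
      _ = (E * q * E⁻¹)⁻¹ := by rw [hinvq, inv_inv, ← key, hπq]
      _ = q := by rw [hinvq, inv_inv]
  have hEq : Commute E q := by
    obtain ⟨l, rfl⟩ := hℓ
    have hE1 : E ^ (2 * l + 1) = 1 := by rw [hE, ← D.hφ.pow he, heℓ, D.hφ.one]
    have : E = (E * E) ^ (l + 1) := by
      rw [← pow_two, ← pow_mul, show 2 * (l + 1) = 2 * l + 1 + 1 by ring, pow_succ, hE1, one_mul]
    rw [this]; exact h2.pow_left _
  have hq2 : q = q⁻¹ := by rw [← hinvq, hEq.eq, mul_inv_cancel_right]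
  have qOm : ∀ x ∈ altOn D.Om, Commute q (D.φ x) := fun x hx =>
    D.hφ.commute_closure (by
      rintro y (hy | rfl)
      exacts [hcO hy, he]) (by
      rintro y (hy | rfl)
      exacts [qC' y hy, hE ▸ hEq.symm]) x (hgen hx)
  have hqt : Commute q D.t := by
    have : D.t * q * D.t = q := by rw [htqt, hinvq, ← hq2]
    rw [mul_assoc, ← eq_inv_mul_iff_mul_eq, tinv] at this
    exact this
  have hqF : Commute q (D.t * E0 * D.t) := (hqt.mul_right (hE0 ▸ qOm _ he0)).mul_right hqt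
  obtain ⟨F, hF⟩ : ∃ F, F = D.t * E0 * D.t := ⟨_, rfl⟩
  rw [← hF] at hq hqF
  have step : ∀ n : ℕ, E ^ n * F * (E ^ n)⁻¹ = q ^ n * F := by
    intro n
    induction n with
    | zero => simp
    | succ n ih =>
      rw [show E ^ (n + 1) * F * (E ^ (n + 1))⁻¹ = E * (E ^ n * F * (E ^ n)⁻¹) * E⁻¹ by rw [pow_succ']; group, ih,
        show E * (q ^ n * F) * E⁻¹ = (E * q ^ n) * F * E⁻¹ by group, (hEq.pow_right n).eq,
        show q ^ n * E * F * E⁻¹ = q ^ n * (E * F * E⁻¹) by group, mul_inv_eq_iff_eq_mul.1 hq, pow_succ, mul_assoc]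
  have hℓq := step ℓ
  rw [show E ^ ℓ = 1 by rw [hE, ← D.hφ.pow he, heℓ, D.hφ.one], inv_one, one_mul, mul_one] at hℓq
  have h1 : q ^ ℓ = 1 := mul_eq_right.1 hℓq.symm
  obtain ⟨l, rfl⟩ := hℓ
  have hqq : q * q = 1 := by nth_rw 2 [hq2]; rw [mul_inv_cancel]
  rwa [pow_succ, pow_mul, pow_two, hqq, one_pow, one_mul] at h1

end Glue

end CfsgLib.Perm.AltBounded
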