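import Cfsg.Agent.Lib.Perm.AltBounded.Present

/-!
# The six relations define the groups
-/

set_option autoImplicit false

open Equiv Equiv.Perm

namespace CfsgLib.Perm.AltBounded

namespace Par

variable (P : Par)

/-- the points of the second spreading set -/
def T2s : Finset (Fin P.N) := Finset.univ.filter fun v => v ∈ P.Rs ∨ P.p + 2 ≤ v.val

/-- the points kept fixed by the spreading cycle -/
def R1s : Finset (Fin P.N) := P.cmS.filter fun v => v.val ≠ 0 ∧ v.val ≠ P.x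

/-- the points of the first spreading set -/
def T1s : Finset (Fin P.N) := Finset.univ.filter fun v => v.val < P.p + 2 ∧ v.val ≠ 0 ∧ v.val ≠ P.x

/-- the support of the spreading cycle -/
def Ws : Finset (Fin P.N) := Finset.univ.filter fun v => v.val = 0 ∨ v.val = P.x ∨ P.p + 2 ≤ v.val

theorem hm_pos {i : Fin P.N} (h1 : i ∈ frameSet P.ι) (h2 : P.σ i ∉ frameSet P.ι) :
    0 < P.m ∧ P.c ≤ i.val ∧ i.val < P.p := by
  rw [mem_frame] at h1 h2
  rw [σ_val] at h2
  have := P.hm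
  simp only [Par.c] at *
  split_ifs at h2 <;> omega

theorem x_Rs : (V P.x : Fin P.N) ∈ P.Rs := by
  have := P.hm
  have := P.p_odd
  rw [mem_Rs, V_val (show P.x < P.N by simp only [Par.x, Par.N]; omega)]
  exact ⟨Or.inl (by simp only [Par.x, Par.c]; omega), by simp only [Par.x]; omega,
    fun h => by simp only [Par.x]; omega⟩

theorem spread1 (hm : 0 < P.m) :
    altOn P.T1s ≤ Subgroup.closure {g | ∃ π ∈ altOn P.R1s, g = π * P.e * π⁻¹} := by
  have := P.hm
  have := P.p_odd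
  have := P.five_le hm
  have hN : P.N = P.p + 2 + P.m := rfl
  have hV : ∀ k, k < P.N → ((V k : Fin P.N)).val = k := fun k hk => V_val hk
  have hR1 : ∀ v : Fin P.N, v ∈ P.R1s ↔ (v.val < P.c ∨ v.val = P.p ∨ v.val = P.p + 1) ∧ v.val ≠ 0 ∧ v.val ≠ P.x :=
    fun v => by simp [R1s, mem_cmS]
  have hT1 : ∀ v : Fin P.N, v ∈ P.T1s ↔ v.val < P.p + 2 ∧ v.val ≠ 0 ∧ v.val ≠ P.x := fun v => by simp [T1s]
  refine altOn_le_conjugates (γ := V 1) (f := ptA P.ι) (f' := ptB P.ι) ?_ ?_ ?_ (ptA_ne_ptB _) ?_ ?_ ?_ ?_ ?_ ?_ ?_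
    ?_ ?_
  · rw [hR1, hV 1 (by omega)]; simp only [Par.c, Par.x]; omega
  · rw [hR1, ptA_val]; exact ⟨Or.inr (Or.inl rfl), by omega, by simp only [Par.x]; omega⟩
  · rw [hR1, ptB_val]; exact ⟨Or.inr (Or.inr rfl), by omega, by simp only [Par.x]; omega⟩
  · intro h; have := congrArg Fin.val h; rw [hV 1 (by omega), ptA_val] at this; omega
  · intro h; have := congrArg Fin.val h; rw [hV 1 (by omega), ptB_val] at this; omega
  · refine Fin.ext ?_
    rw [e_val, ptA_val]; simp only [Par.c]; split_ifs <;> omega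
  · refine Fin.ext ?_
    rw [e_val, ptB_val]; simp only [Par.c]; split_ifs <;> omega
  · intro h
    have h' := congrArg Fin.val h
    rw [e_val, hV 1 (by omega), if_pos ⟨rfl, hm⟩] at h'
    simp only [Par.c] at h'
    omega
  · intro i hi
    rw [hT1] at hi
    by_cases hc : P.c ≤ i.val ∧ i.val < P.p
    · refine Or.inr ⟨i.val - P.c + 1, Fin.ext ?_⟩
      simp only [Par.c] at hc
      rw [e_pow _ _ (by simp only [Par.c]; omega), if_neg (by omega)]
      simp only [Par.c]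
      omega
    · refine Or.inl ?_
      rw [hR1]
      simp only [Par.c] at *
      omega
  · intro v hv
    rw [hR1] at hv
    rw [hT1]
    simp only [Par.c] at *
    omega
  · intro v hv
    rw [hT1] at hv
    refine Fin.ext ?_
    rw [e_val]
    simp only [Par.c, Par.x] at *
    split_ifs <;> omega
  · have hsub : ({V 1, V (5 - P.x), V 4, ptA P.ι, ptB P.ι} : Finset (Fin P.N)) ⊆ P.T1s := by
      intro v hv
      simp only [Finset.mem_insert, Finset.mem_singleton] at hv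
      rw [hT1]
      rcases hv with rfl | rfl | rfl | rfl | rfl
      · rw [hV 1 (by omega)]; simp only [Par.x]; omega
      · rw [hV _ (by omega)]; simp only [Par.x]; omega
      · rw [hV 4 (by omega)]; simp only [Par.x]; omega
      · rw [ptA_val]; simp only [Par.x]; omega
      · rw [ptB_val]; simp only [Par.x]; omega
    refine le_trans (le_of_eq ?_) (Finset.card_le_card hsub)
    have hx : P.x = 2 + P.m % 2 := rfl
    have a1 : ∀ a b, a < P.N → b < P.N → a ≠ b → (V a : Fin P.N) ≠ V b := fun a b ha hb h => V_ne ha hb h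
    rw [ptA_eq, ptB_eq]
    symm
    rw [Finset.card_insert_of_notMem, Finset.card_insert_of_notMem, Finset.card_insert_of_notMem,
      Finset.card_insert_of_notMem, Finset.card_singleton] <;>
      simp only [Finset.mem_insert, Finset.mem_singleton, not_or]
    · exact a1 _ _ (by omega) (by omega) (by omega)
    · exact ⟨a1 _ _ (by omega) (by omega) (by omega), a1 _ _ (by omega) (by omega) (by omega)⟩
    · exact ⟨a1 _ _ (by omega) (by omega) (by omega), a1 _ _ (by omega) (by omega) (by omega),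
        a1 _ _ (by omega) (by omega) (by omega)⟩
    · exact ⟨a1 _ _ (by omega) (by omega) (by omega), a1 _ _ (by omega) (by omega) (by omega),
        a1 _ _ (by omega) (by omega) (by omega), a1 _ _ (by omega) (by omega) (by omega)⟩

theorem spread2 (hm : 0 < P.m) :
    altOn P.T2s ≤ Subgroup.closure {g | ∃ π ∈ altOn P.Rs, g = π * P.f' * π⁻¹} := by
  have := P.hm
  have := P.p_odd
  have := P.five_le hm
  have hN : P.N = P.p + 2 + P.m := rfl
  have hx : P.x = 2 + P.m % 2 := rfl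
  have e0 : (pt P.ι 0).val = 0 := by rw [pt_val, ZMod.val_zero]
  have hVx : ((V P.x : Fin P.N)).val = P.x := V_val (by omega)
  have hR0 : pt P.ι 0 ∈ P.Rs := by
    rw [mem_Rs, e0]; exact ⟨Or.inl (by simp only [Par.c]; omega), by omega, fun h => by omega⟩
  have hRA : ptA P.ι ∈ P.Rs := by
    rw [mem_Rs, ptA_val]; exact ⟨Or.inr (Or.inl rfl), by omega, fun h => by omega⟩
  have hRB : ptB P.ι ∈ P.Rs := by
    rw [mem_Rs, ptB_val]; exact ⟨Or.inr (Or.inr rfl), by omega, fun h => by omega⟩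
  have hT2 : ∀ v : Fin P.N, v ∈ P.T2s ↔ v ∈ P.Rs ∨ P.p + 2 ≤ v.val := fun v => by simp [T2s]
  refine altOn_le_conjugates (γ := V P.x) (f := pt P.ι 0) (f' := ptB P.ι) P.x_Rs hR0 hRB (pt_ne_ptB _ _)
    ?_ ?_ ?_ ?_ ?_ ?_ ?_ ?_ ?_
  · intro h; have := congrArg Fin.val h; rw [hVx, e0] at this; omega
  · intro h; have := congrArg Fin.val h; rw [hVx, ptB_val] at this; omega
  · refine Fin.ext ?_
    rw [f'_val, e0]; simp only [Par.x] at *; split_ifs <;> omega
  · refine Fin.ext ?_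
    rw [f'_val, ptB_val]; simp only [Par.x] at *; split_ifs <;> omega
  · intro h
    have h' := congrArg Fin.val h
    rw [f'_val, hVx, if_pos ⟨rfl, hm⟩] at h'
    omega
  · intro i hi
    rcases (hT2 i).1 hi with h | h
    · exact Or.inl h
    · refine Or.inr ⟨i.val - P.p - 1, Fin.ext ?_⟩
      have := i.2
      rw [f'_pow _ _ (by omega), if_neg (by omega)]
      omega
  · exact fun v hv => (hT2 v).2 (Or.inl hv)
  · intro v hv
    rw [hT2, mem_Rs] at hv
    refine Fin.ext ?_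
    rw [f'_val]
    have h1 : ¬ P.p + 2 ≤ v.val := fun h => hv (Or.inr h)
    have h2 : v.val ≠ P.x := fun h => hv (Or.inl ⟨Or.inl (by simp only [Par.c]; omega), by omega, fun h' => by omega⟩)
    have h3 : v.val ≠ P.p := fun h => hv (Or.inl ⟨Or.inr (Or.inl h), by omega, fun h' => by omega⟩)
    rw [if_neg (fun h => h2 h.1), if_neg (fun h => h1 h.1), if_neg h1, if_neg (fun h => h3 h.1)]
  · have hsub : ({pt P.ι 0, V P.x, ptA P.ι, ptB P.ι, V (P.p + 2)} : Finset (Fin P.N)) ⊆ P.T2s := by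
      intro v hv
      simp only [Finset.mem_insert, Finset.mem_singleton] at hv
      rw [hT2]
      rcases hv with rfl | rfl | rfl | rfl | rfl
      exacts [Or.inl hR0, Or.inl P.x_Rs, Or.inl hRA, Or.inl hRB, Or.inr (by rw [V_val (by omega)])]
    refine le_trans (le_of_eq ?_) (Finset.card_le_card hsub)
    have h0 : pt P.ι 0 = V 0 := eq_V e0
    have a1 : ∀ a b, a < P.N → b < P.N → a ≠ b → (V a : Fin P.N) ≠ V b := fun a b ha hb h => V_ne ha hb h
    rw [ptA_eq, ptB_eq, h0]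
    symm
    rw [Finset.card_insert_of_notMem, Finset.card_insert_of_notMem, Finset.card_insert_of_notMem,
      Finset.card_insert_of_notMem, Finset.card_singleton] <;>
      simp only [Finset.mem_insert, Finset.mem_singleton, not_or]
    · exact a1 _ _ (by omega) (by omega) (by omega)
    · exact ⟨a1 _ _ (by omega) (by omega) (by omega), a1 _ _ (by omega) (by omega) (by omega)⟩
    · exact ⟨a1 _ _ (by omega) (by omega) (by omega), a1 _ _ (by omega) (by omega) (by omega),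
        a1 _ _ (by omega) (by omega) (by omega)⟩
    · exact ⟨a1 _ _ (by omega) (by omega) (by omega), a1 _ _ (by omega) (by omega) (by omega),
        a1 _ _ (by omega) (by omega) (by omega), a1 _ _ (by omega) (by omega) (by omega)⟩

/-- the gluing data hold in any group with the six relations -/
theorem exists_Phi {G : Type*} [Group G] (ω : FreeGroup (Fin 2) →* G) (hω : ∀ w ∈ P.relList, ω w = 1) :
    ∃ Φ : Equiv.Perm (Fin P.N) → G, IsHomOn (altOn (Finset.univ : Finset (Fin P.N))) Φ ∧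
      Φ (aPerm P.ι) = ω (FreeGroup.of 0) ∧ Φ P.z = ω (FreeGroup.of 1) ^ 4 ∧ ω (FreeGroup.of 1) ^ 6 = 1 ∧
      (∀ π ∈ altOn (Finset.univ : Finset (Fin P.N)),
        ω (FreeGroup.of 1) ^ 3 * Φ π * ω (FreeGroup.of 1) ^ 3 = Φ (P.σ * π * P.σ)) ∧
      ((P.tau = 1 ↔ P.m % 2 = 1) → Φ P.σ = ω (FreeGroup.of 1) ^ 3) := by
  classical
  simp only [relList, List.mem_cons, List.not_mem_nil, or_false, forall_eq_or_imp, forall_eq, map_mul, map_inv,
    map_pow, mul_inv_eq_one] at hω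
  obtain ⟨h1, h2, h3, h4, h5, h6⟩ := hω
  obtain ⟨a, ha⟩ : ∃ a, a = ω (FreeGroup.of 0) := ⟨_, rfl⟩
  obtain ⟨g, hg⟩ : ∃ g, g = ω (FreeGroup.of 1) := ⟨_, rfl⟩
  simp only [← ha, ← hg] at h1 h2 h3 h4 h5 h6 ⊢
  have hWd : ∀ w ∈ Wd, ω w ∈ Subgroup.closure (Set.range fun i : ℕ => a ^ i * g ^ 4 * (a ^ i)⁻¹) := by
    intro w hw
    induction hw using Subgroup.closure_induction with
    | mem x hx =>
      obtain ⟨i, rfl⟩ := hx
      refine Subgroup.subset_closure ⟨i, ?_⟩
      simp only [map_mul, map_inv, map_pow, ← ha, ← hg]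
    | one => rw [map_one]; exact one_mem _
    | mul u v _ _ hu hv => rw [map_mul]; exact mul_mem hu hv
    | inv u _ hu => rw [map_inv]; exact inv_mem hu
  have hwb := P.lft_spec P.bPerm_frame
  have h3' : ω P.wb * g ^ 4 * (ω P.wb)⁻¹ = if P.β = 1 then g ^ 4 else (g ^ 4)⁻¹ := by
    rw [h3, zz, apply_ite (ω : FreeGroup (Fin 2) → G), map_inv, map_pow, ← hg]
  obtain ⟨hg6, φ, hφ, hφnat, hφa⟩ := exists_frame_hom P.ι P.p_ne_two P.exists_root.choose_spec P.β_spec.1
    P.β_spec.2 P.s_spec h1 h2 (hWd _ hwb.1) (fun φ hφ h => by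
      have e := P.eval_Wd ω hφ (by rw [← ha, ← hg]; exact h) hwb.1
      rw [hwb.2] at e
      exact e.symm) h3' h4
  have hlift : ∀ π ∈ altOn (frameSet P.ι), ω (P.lft π) = φ π := fun π hπ => by
    rw [P.eval_Wd ω hφ (by rw [← ha, ← hg]; exact hφnat) (P.lft_spec hπ).1, (P.lft_spec hπ).2]
  have hφz : φ P.z = g ^ 4 := by
    have e := hφnat 0
    rw [Nat.cast_zero, pow_zero, one_mul, inv_one, mul_one] at e
    exact e
  obtain ⟨t, ht⟩ : ∃ t, t = g ^ 3 := ⟨_, rfl⟩
  have tt : t * t = 1 := by rw [ht, ← pow_add, hg6]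
  have ti : t⁻¹ = t := inv_eq_of_mul_eq_one_right tt
  rw [← ht] at h5 h6 ⊢
  rw [hlift _ P.u_frame, hlift _ (altOn_mono P.cmS_le P.σuσ_cm), ti] at h5
  rw [hlift _ P.e_mem, hlift _ P.f_frame] at h6
  have hσcm : ∀ π ∈ altOn P.cmS, P.σ * π * P.σ ∈ altOn P.cmS := by
    intro π hπ
    refine ⟨?_, fun v hv => ?_⟩
    · rw [map_mul, map_mul, hπ.1, mul_one, Int.units_mul_self]
    · rw [Perm.mul_apply, Perm.mul_apply, hπ.2 (P.σ v), ← Perm.mul_apply, P.σσ, Perm.one_apply]
      intro h'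
      apply hv
      rw [← cm_eq, Finset.mem_filter] at h' ⊢
      have e : P.σ (P.σ v) = v := by rw [← Perm.mul_apply, P.σσ, Perm.one_apply]
      rw [e] at h'
      exact ⟨h'.2, h'.1⟩
  have homC : IsHomOn (altOn P.cmS) φ := hφ.mono (altOn_mono P.cmS_le)
  have hom1 : IsHomOn (altOn P.cmS) (fun π => t * φ π * t) := by
    intro x hx y hy
    dsimp only
    rw [homC x hx y hy, show t * φ x * t * (t * φ y * t) = t * φ x * (t * t) * φ y * t by group, tt, mul_one]
    group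
  have hom2 : IsHomOn (altOn P.cmS) (fun π => φ (P.σ * π * P.σ)) := by
    intro x hx y hy
    dsimp only
    rw [← homC _ (hσcm x hx) _ (hσcm y hy),
      show P.σ * x * P.σ * (P.σ * y * P.σ) = P.σ * x * (P.σ * P.σ) * y * P.σ by group, P.σσ, mul_one]
    simp only [mul_assoc]
  have agree : ∀ π ∈ altOn P.cmS, t * φ π * t = φ (P.σ * π * P.σ) := by
    intro π hπ
    have hS : ({P.z, P.u} : Set (Equiv.Perm (Fin P.N))) ⊆ altOn P.cmS := by
      rintro _ (rfl | rfl)
      exacts [P.z_mem, P.u_mem]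
    refine hom1.eq_closure hom2 hS ?_ π
      (P.altOn_cmS_le (Subgroup.subset_closure (Or.inl rfl)) (Subgroup.subset_closure (Or.inr rfl)) hπ)
    rintro _ (rfl | rfl)
    · show t * φ P.z * t = φ (P.σ * P.z * P.σ)
      rw [P.σ_z.eq, mul_assoc P.z, P.σσ, mul_one, hφz, ht, ← pow_add, ← pow_add, show 3 + 4 + 3 = 4 + 6 from rfl,
        pow_add, hg6, mul_one]
    · exact h5
  let D : Glue (Fin P.N) G := ⟨frameSet P.ι, ptA P.ι, ptB P.ι, (mem_frameSet _).2 (Or.inl rfl),
    (mem_frameSet _).2 (Or.inr (Or.inl rfl)), ptA_ne_ptB _, P.σ, P.σσ, P.σA, P.σB, P.σ_cover,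
    φ, hφ, t, tt, fun π hπ => agree π (P.cm_eq ▸ hπ)⟩
  have hcm : D.cm = P.cmS := P.cm_eq
  have hψf : D.ψ P.f' = t * φ (P.ρ * P.e * P.ρ⁻¹) * t := by
    show t * φ (P.σ * P.f' * P.σ) * t = _
    rw [← P.ρ_e]
  have hf' : P.f' ∈ altOn D.Om' := by
    have h := D.conj_Om (show P.ρ * P.e * P.ρ⁻¹ ∈ altOn D.Om from P.f_frame)
    rw [show D.σ = P.σ from rfl, P.ρ_e] at h
    rwa [show P.σ * (P.σ * P.f' * P.σ) * P.σ = (P.σ * P.σ) * P.f' * (P.σ * P.σ) by group, P.σσ, one_mul,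
      mul_one] at h
  have halt : (P.tau = 1 ↔ P.m % 2 = 1) → (t * φ P.e) ^ P.L = 1 := by
    intro htau
    refine D.q_eq_one (e := P.e) (π₀ := P.ρ) (π := P.π) (ℓ := P.m + P.m % 2 + 1) P.e_mem
      (by rw [Nat.odd_iff]; omega) (rot_pow_card _) (R := P.Rs) (R' := P.Rs')
      (by rw [hcm]; exact Finset.filter_subset _ _) (fun x hx => P.commute_Rs_e hx)
      (fun x hx => P.commute_Rs_σ htau.1 hx) (fun x hx => P.π_conj_Rs htau hx) ?_
      (by rw [hcm]; exact Finset.filter_subset _ _) ?_ (by rw [hcm]; exact P.ρ_mem) (by rw [hcm]; exact P.π_mem)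
      P.π_e ?_ h6
    · rw [hcm]
      exact P.gen_cm (fun x hx => Subgroup.subset_closure (Or.inl hx)) (fun x hx => Subgroup.subset_closure (Or.inr hx))
    · refine P.gen_frame (fun x hx => Subgroup.subset_closure (Or.inl ?_)) (Subgroup.subset_closure (Or.inr rfl))
      rw [hcm]; exact hx
    · show P.π * (P.σ * (P.ρ * P.e * P.ρ⁻¹) * P.σ) * P.π⁻¹ = P.σ * P.e * P.σ
      rw [P.ρ_e, show P.σ * (P.σ * P.f' * P.σ) * P.σ = (P.σ * P.σ) * P.f' * (P.σ * P.σ) by group, P.σσ, one_mul,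
        mul_one, P.π_f']
  have hq : (t * φ P.e) ^ P.L = 1 := by
    by_cases htau : P.tau = 1 ↔ P.m % 2 = 1
    · exact halt htau
    · rw [L, if_neg htau, pow_zero]
  have hef : Commute (D.φ P.e) (D.ψ P.f') := by
    rw [hψf]
    show Commute (φ P.e) _
    rw [hq, mul_inv_eq_one, mul_inv_eq_iff_eq_mul] at h6
    exact h6
  obtain ⟨Φ, hΦ, hΦO, hΦt⟩ := D.exists_extension (by
    intro i hi hσi j hj
    obtain ⟨hm, hi1, hi2⟩ := P.hm_pos hi hσi
    have := P.hm
    have := P.p_odd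
    have hN : P.N = P.p + 2 + P.m := rfl
    have hxdef : P.x = 2 + P.m % 2 := rfl
    have hj' : P.p + 2 ≤ j.val := by
      by_contra h
      exact hj ((P.mem_frame j).2 (by omega))
    have e0 : (pt P.ι 0).val = 0 := by rw [pt_val, ZMod.val_zero]
    have ex : ((V P.x : Fin P.N)).val = P.x := V_val (by omega)
    have n1 : pt P.ι 0 ≠ j := fun h => by have := congrArg Fin.val h; rw [e0] at this; omega
    have n2 : pt P.ι 0 ≠ V P.x := fun h => by have := congrArg Fin.val h; rw [e0, ex] at this; omega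
    have n3 : j ≠ V P.x := fun h => by
      have := congrArg Fin.val h; rw [ex] at this; simp only [Par.x, Par.c] at *; omega
    have nA : ∀ v : Fin P.N, v = ptA P.ι → v ≠ pt P.ι 0 ∧ v ≠ j ∧ v ≠ V P.x := fun v hv => by
      refine ⟨?_, ?_, ?_⟩ <;> intro h <;> have h' := congrArg Fin.val h <;> rw [hv, ptA_val] at h' <;>
        first | (rw [e0] at h'; omega) | (rw [ex] at h'; simp only [Par.x] at h'; omega) | omega
    have nB : ∀ v : Fin P.N, v = ptB P.ι → v ≠ pt P.ι 0 ∧ v ≠ j ∧ v ≠ V P.x := fun v hv => by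
      refine ⟨?_, ?_, ?_⟩ <;> intro h <;> have h' := congrArg Fin.val h <;> rw [hv, ptB_val] at h' <;>
        first | (rw [e0] at h'; omega) | (rw [ex] at h'; simp only [Par.x] at h'; omega) | omega
    obtain ⟨a1, a2, a3⟩ := nA _ rfl
    obtain ⟨b1, b2, b3⟩ := nB _ rfl
    have hwW : cyc (pt P.ι 0) j (V P.x) ∈ altOn P.Ws := by
      refine cyc_mem n1 n2 n3 ?_ ?_ ?_ <;> simp only [Ws, Finset.mem_filter, Finset.mem_univ, true_and]
      exacts [Or.inl e0, Or.inr (Or.inr hj'), Or.inr (Or.inl ex)]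
    refine ⟨pt P.ι 0, ?_, pt_ne_ptA _ _, pt_ne_ptB _ _, cyc (pt P.ι 0) j (V P.x), ?_, ?_, ?_, ?_, ?_⟩
    · rw [hcm, mem_cmS, e0]; simp only [Par.c]; omega
    · refine altOn_mono ?_ hwW
      intro v hv
      simp only [Ws, Finset.mem_filter, Finset.mem_univ, true_and] at hv
      rw [Glue.mem_Om', show D.σ = P.σ from rfl, show D.Om = frameSet P.ι from rfl, mem_frame, σ_val]
      have := v.2
      simp only [Par.N, Par.c, Par.x] at *
      split_ifs <;> omega
    · exact cyc_apply_A n1 n2 n3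
    · exact cyc_apply_of_ne a1 a2 a3
    · exact cyc_apply_of_ne b1 b2 b3
    · refine D.commute_spread (show P.e ∈ altOn D.Om from P.e_mem) hf' hef (R1 := P.R1s) (R2 := P.Rs) (T1 := P.T1s)
        (T2 := P.T2s) (W := P.Ws) (by rw [hcm]; exact Finset.filter_subset _ _)
        (by rw [hcm]; exact Finset.filter_subset _ _) (fun π hπ => P.commute_Rs_e hπ) ?_ ?_ (P.spread1 hm)
        (P.spread2 hm) ?_ hwW
      · intro v hv
        simp only [Ws, Finset.mem_filter, Finset.mem_univ, true_and] at hv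
        simp only [T2s, Finset.mem_filter, Finset.mem_univ, true_and, mem_Rs]
        rcases hv with h | h | h
        · exact Or.inl ⟨Or.inl (by simp only [Par.c]; omega), by omega, fun _ => by omega⟩
        · exact Or.inl ⟨Or.inl (by simp only [Par.c]; omega), by omega, fun _ => by omega⟩
        · exact Or.inr h
      · rw [Finset.disjoint_left]
        intro v hv hw
        simp only [R1s, Finset.mem_filter, mem_cmS] at hv
        simp only [Ws, Finset.mem_filter, Finset.mem_univ, true_and] at hw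
        simp only [Par.c] at *
        omega
      · have k1 : ptA P.ι ≠ i := fun h => by have := congrArg Fin.val h; rw [ptA_val] at this; omega
        have k2 : ptB P.ι ≠ i := fun h => by have := congrArg Fin.val h; rw [ptB_val] at this; omega
        refine cyc_mem (ptA_ne_ptB _) k1 k2 ?_ ?_ ?_ <;>
          simp only [T1s, Finset.mem_filter, Finset.mem_univ, true_and]
        · rw [ptA_val]; omega
        · rw [ptB_val]; omega
        · simp only [Par.c] at hi1; omega)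
  refine ⟨Φ, hΦ, ?_, ?_, hg6, hΦt, fun htau => ?_⟩
  · exact (hΦO _ (via_mem P.ι (sign_shiftT P.p_ne_two))).trans hφa
  · exact (hΦO _ (altOn_mono P.cmS_le P.z_mem)).trans hφz
  · have hσe : P.σ ∈ altOn (Finset.univ : Finset (Fin P.N)) := by
      refine ⟨?_, fun v hv => absurd (Finset.mem_univ v) hv⟩
      rw [σ_sign]
      by_cases h : P.tau = 1
      · rw [if_pos h, Odd.neg_one_pow (Nat.odd_iff.2 (htau.1 h))]; rfl
      · rw [if_neg h, Even.neg_one_pow (Nat.even_iff.2 (by have := htau.2; omega))]; rfl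
    have heU : P.e ∈ altOn (Finset.univ : Finset (Fin P.N)) := altOn_mono (Finset.subset_univ _) P.e_mem
    obtain ⟨c0, hc0⟩ : ∃ c0, c0 = t * Φ P.σ := ⟨_, rfl⟩
    have hσt : t * Φ P.σ * t = Φ P.σ := by rw [hΦt _ hσe, mul_assoc, P.σσ, mul_one]
    have hσ2 : Φ P.σ * Φ P.σ = 1 := by rw [← hΦ _ hσe _ hσe, P.σσ, hΦ.one]
    have hc2 : c0 * c0 = 1 := by
      rw [hc0, show t * Φ P.σ * (t * Φ P.σ) = (t * Φ P.σ * t) * Φ P.σ by group, hσt, hσ2]
    have hconj : t * (Φ P.σ * Φ P.e * Φ P.σ) * t = Φ P.e := by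
      rw [← hΦ _ hσe _ heU, ← hΦ _ (mul_mem hσe heU) _ hσe, hΦt _ (mul_mem (mul_mem hσe heU) hσe)]
      rw [show P.σ * (P.σ * P.e * P.σ) * P.σ = (P.σ * P.σ) * P.e * (P.σ * P.σ) by group, P.σσ, one_mul, mul_one]
    have hcσ : Commute c0 (Φ P.σ) := by
      rw [commute_iff_eq, hc0]
      have hts : Φ P.σ * t = t * Φ P.σ := by
        conv_lhs => rw [← hσt]
        rw [mul_assoc, tt, mul_one]
      rw [← mul_assoc (Φ P.σ), hts]
    have hce : Commute c0 (Φ P.e) := by
      rw [commute_iff_eq, hc0]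
      calc t * Φ P.σ * Φ P.e = t * (Φ P.σ * Φ P.e * Φ P.σ) * t * (t * Φ P.σ) := by
            rw [show t * (Φ P.σ * Φ P.e * Φ P.σ) * t * (t * Φ P.σ) =
              t * (Φ P.σ * Φ P.e * Φ P.σ) * (t * t) * Φ P.σ by group, tt, mul_one,
              show t * (Φ P.σ * Φ P.e * Φ P.σ) * Φ P.σ = t * Φ P.σ * Φ P.e * (Φ P.σ * Φ P.σ) by group, hσ2,
              mul_one]
        _ = _ := by rw [hconj]
    have htc : t = c0 * Φ P.σ := by rw [hc0, mul_assoc, hσ2, mul_one]
    have hL : P.L = 2 * P.m + 1 := if_pos htau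
    have hpow : c0 ^ P.L = 1 := by
      have e1 := halt htau
      rw [htc, ← show Φ P.e = φ P.e from hΦO _ P.e_mem, mul_assoc, (hcσ.mul_right hce).mul_pow, ← hΦ _ hσe _ heU,
        ← hΦ.pow (mul_mem hσe heU), hL, P.σe_pow htau, hΦ.one, mul_one] at e1
      rw [hL]
      exact e1
    have hc1 : c0 = 1 := by
      rwa [hL, pow_succ, pow_mul, pow_two, hc2, one_pow, one_mul] at hpow
    rw [htc, hc1, one_mul]

theorem homOn_map {G : Type*} [Group G] {K : Subgroup (Equiv.Perm (Fin P.N))} {f : Equiv.Perm (Fin P.N) → G}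
    (hf : IsHomOn K f) (θ : G →* Equiv.Perm (Fin P.N)) : IsHomOn K (fun π => θ (f π)) := fun x hx y hy => by
  dsimp only
  rw [hf x hx y hy, map_mul]

/-- faithfulness -/
theorem injective_of_rels {G : Type*} [Group G] (ω : FreeGroup (Fin 2) →* G) (hsurj : Function.Surjective ω)
    (hω : ∀ w ∈ P.relList, ω w = 1) (θ : G →* Equiv.Perm (Fin P.N)) (hθ : θ.comp ω = P.ev) :
    Function.Injective θ ∧ altOn (Finset.univ : Finset (Fin P.N)) ≤ θ.range := by
  obtain ⟨Φ, hΦ, hΦa, hΦz, hg6, hΦt, hΦσ⟩ := P.exists_Phi ω hω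
  obtain ⟨a, ha⟩ : ∃ a, a = ω (FreeGroup.of 0) := ⟨_, rfl⟩
  obtain ⟨g, hg⟩ : ∃ g, g = ω (FreeGroup.of 1) := ⟨_, rfl⟩
  rw [← ha] at hΦa
  rw [← hg] at hΦz hg6 hΦt hΦσ
  have θa : θ a = aPerm P.ι := by rw [ha, ← MonoidHom.comp_apply, hθ, ev0]
  have θg : θ g = P.z * P.σ := by rw [hg, ← MonoidHom.comp_apply, hθ, ev1]
  obtain ⟨t, ht⟩ : ∃ t, t = g ^ 3 := ⟨_, rfl⟩
  rw [← ht] at hΦt hΦσ
  have θt : θ t = P.σ := by rw [ht, map_pow, θg, zσ_pow3]
  have tt : t * t = 1 := by rw [ht, ← pow_add, hg6]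
  have hcu : ∀ S : Finset (Fin P.N), altOn S ≤ altOn Finset.univ := fun S => altOn_mono (Finset.subset_univ S)
  have hAU : aPerm P.ι ∈ altOn (Finset.univ : Finset (Fin P.N)) := hcu _ (via_mem P.ι (sign_shiftT P.p_ne_two))
  have hzU : P.z ∈ altOn (Finset.univ : Finset (Fin P.N)) := hcu _ P.z_mem
  have homθ := P.homOn_map hΦ θ
  have hid : IsHomOn (altOn (Finset.univ : Finset (Fin P.N))) (fun π : Equiv.Perm (Fin P.N) => π) :=
    fun _ _ _ _ => rfl
  have hfr : ∀ v ∈ frameSet P.ι, v ≠ ptA P.ι → v ≠ ptB P.ι →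
      θ (Φ (cyc (ptA P.ι) (ptB P.ι) v)) = cyc (ptA P.ι) (ptB P.ι) v := by
    intro v hv h1 h2
    obtain h | h | ⟨i, rfl⟩ := (mem_frameSet _).1 hv
    · exact absurd h h1
    · exact absurd h h2
    · rw [← ZMod.natCast_zmod_val i, ← aPerm_pow_cyc, hΦ.conj (pow_mem hAU _) hzU, hΦ.pow hAU, hΦa, hΦz,
        map_mul, map_mul, map_inv, map_pow, map_pow, θa, θg, zσ_pow4]
  have hθΦ : ∀ π ∈ altOn (Finset.univ : Finset (Fin P.N)), θ (Φ π) = π := by
    intro π hπ
    refine homθ.eq_closure hid (S := {x : Equiv.Perm (Fin P.N) | ∃ i ∈ (Finset.univ : Finset (Fin P.N)), i ≠ ptA P.ι ∧ i ≠ ptB P.ι ∧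
      x = cyc (ptA P.ι) (ptB P.ι) i}) ?_ ?_ π ((closure_base (Finset.univ : Finset (Fin P.N)) (Finset.mem_univ _) (Finset.mem_univ _)
      (ptA_ne_ptB P.ι)).symm ▸ hπ)
    · rintro _ ⟨i, hi, h1, h2, rfl⟩
      exact cyc_mem (ptA_ne_ptB _) h1.symm h2.symm (Finset.mem_univ _) (Finset.mem_univ _) hi
    · rintro _ ⟨v, -, h1, h2, rfl⟩
      by_cases hv : v ∈ frameSet P.ι
      · exact hfr v hv h1 h2
      · have hσv := (P.σ_cover v).resolve_left hv
        have k1 : P.σ v ≠ ptA P.ι := fun h => h1 (P.σ.injective (h.trans P.σA.symm))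
        have k2 : P.σ v ≠ ptB P.ι := fun h => h2 (P.σ.injective (h.trans P.σB.symm))
        have e : P.σ * cyc (ptA P.ι) (ptB P.ι) (P.σ v) * P.σ = cyc (ptA P.ι) (ptB P.ι) v := by
          calc P.σ * cyc (ptA P.ι) (ptB P.ι) (P.σ v) * P.σ
              = P.σ * cyc (ptA P.ι) (ptB P.ι) (P.σ v) * P.σ⁻¹ := by rw [inv_eq_of_mul_eq_one_right P.σσ]
            _ = cyc (P.σ (ptA P.ι)) (P.σ (ptB P.ι)) (P.σ (P.σ v)) := cyc_conj _ _ _ _
            _ = _ := by rw [P.σA, P.σB, ← Perm.mul_apply, P.σσ, Perm.one_apply]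
        show θ (Φ (cyc (ptA P.ι) (ptB P.ι) v)) = _
        rw [← e, ← hΦt _ (hcu _ (cyc_mem (ptA_ne_ptB _) k1.symm k2.symm ((mem_frameSet _).2 (Or.inl rfl))
          ((mem_frameSet _).2 (Or.inr (Or.inl rfl))) hσv)), map_mul, map_mul, θt, hfr _ hσv k1 k2]
  refine ⟨?_, fun π hπ => ⟨Φ π, hθΦ π hπ⟩⟩
  have hσU : ∀ {π}, π ∈ altOn (Finset.univ : Finset (Fin P.N)) → P.σ * π * P.σ ∈ altOn (Finset.univ : Finset (Fin P.N)) :=
    fun {π} h => ⟨by rw [map_mul, map_mul, h.1, mul_one, Int.units_mul_self], fun v hv => absurd (Finset.mem_univ v) hv⟩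
  have hflip : ∀ π ∈ altOn (Finset.univ : Finset (Fin P.N)), t * Φ π = Φ (P.σ * π * P.σ) * t := fun π hπ => by
    rw [← hΦt π hπ, mul_assoc (t * Φ π), tt, mul_one]
  let K : Subgroup G :=
    { carrier := {x | ∃ π ∈ altOn (Finset.univ : Finset (Fin P.N)), x = Φ π ∨ x = Φ π * t}
      one_mem' := ⟨1, one_mem _, Or.inl hΦ.one.symm⟩
      mul_mem' := by
        rintro x y ⟨π, hπ, rfl | rfl⟩ ⟨π', hπ', rfl | rfl⟩
        · exact ⟨π * π', mul_mem hπ hπ', Or.inl (hΦ _ hπ _ hπ').symm⟩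
        · exact ⟨π * π', mul_mem hπ hπ', Or.inr (by rw [hΦ _ hπ _ hπ', mul_assoc])⟩
        · refine ⟨π * (P.σ * π' * P.σ), mul_mem hπ (hσU hπ'), Or.inr ?_⟩
          rw [hΦ _ hπ _ (hσU hπ'), mul_assoc (Φ π) t, hflip π' hπ', ← mul_assoc (Φ π)]
        · refine ⟨π * (P.σ * π' * P.σ), mul_mem hπ (hσU hπ'), Or.inl ?_⟩
          rw [hΦ _ hπ _ (hσU hπ'), show Φ π * t * (Φ π' * t) = Φ π * (t * Φ π') * t by group, hflip π' hπ',
            mul_assoc (Φ π), mul_assoc (Φ (P.σ * π' * P.σ)), tt, mul_one]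
      inv_mem' := by
        rintro x ⟨π, hπ, rfl | rfl⟩
        · exact ⟨π⁻¹, inv_mem hπ, Or.inl (hΦ.inv hπ).symm⟩
        · refine ⟨P.σ * π⁻¹ * P.σ, hσU (inv_mem hπ), Or.inr ?_⟩
          rw [mul_inv_rev, inv_eq_of_mul_eq_one_right tt, ← hΦ.inv hπ, hflip _ (inv_mem hπ)] }
  have hK : ∀ x, x ∈ K := by
    intro x
    obtain ⟨w, rfl⟩ := hsurj x
    have : ω w ∈ (K : Subgroup G) := by
      induction w using FreeGroup.induction_on with
      | C1 => rw [map_one]; exact one_mem _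
      | of i =>
        fin_cases i
        · exact ⟨aPerm P.ι, hAU, Or.inl (by rw [hΦa, ha]; rfl)⟩
        · refine ⟨P.z, hzU, Or.inr ?_⟩
          rw [hΦz, ht, ← pow_add, show 4 + 3 = 1 + 6 from rfl, pow_add, hg6, mul_one, pow_one, hg]
          rfl
      | inv_of i h => rw [map_inv]; exact inv_mem h
      | mul u v hu hv => rw [map_mul]; exact mul_mem hu hv
    exact this
  rw [injective_iff_map_eq_one]
  intro x hx
  obtain ⟨π, hπ, rfl | rfl⟩ := hK x
  · rw [hθΦ π hπ] at hx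
    rw [hx, hΦ.one]
  · rw [map_mul, hθΦ π hπ, θt] at hx
    have hsσ : sign P.σ = 1 := by
      have h := congrArg sign hx
      rwa [map_mul, hπ.1, one_mul, map_one] at h
    have htau : P.tau = 1 ↔ P.m % 2 = 1 := by
      rw [σ_sign] at hsσ
      by_cases h : P.tau = 1
      · rw [if_pos h] at hsσ
        refine iff_of_true h ?_
        by_contra h'
        rw [Even.neg_one_pow (Nat.even_iff.2 (by omega))] at hsσ
        exact absurd hsσ (by decide)
      · rw [if_neg h] at hsσ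
        refine iff_of_false h fun h' => ?_
        rw [Odd.neg_one_pow (Nat.odd_iff.2 h')] at hsσ
        exact absurd hsσ (by decide)
    have hσU' : P.σ ∈ altOn (Finset.univ : Finset (Fin P.N)) := ⟨hsσ, fun v hv => absurd (Finset.mem_univ v) hv⟩
    rw [← hΦσ htau, ← hΦ _ hπ _ hσU', hx, hΦ.one]

theorem mk_surj {α : Type*} (rels : Set (FreeGroup α)) : Function.Surjective (PresentedGroup.mk rels) :=
  fun x => QuotientGroup.induction_on x fun w => ⟨w, rfl⟩

theorem range_alt (htau : P.tau = 1 ↔ P.m % 2 = 1) : P.ev.range ≤ alternatingGroup (Fin P.N) := by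
  rintro _ ⟨w, rfl⟩
  rw [mem_alternatingGroup]
  induction w using FreeGroup.induction_on with
  | C1 => rw [map_one, map_one]
  | of i =>
    fin_cases i
    · show sign (P.ev (FreeGroup.of 0)) = 1
      rw [ev0]; exact (via_mem P.ι (sign_shiftT P.p_ne_two)).1
    · show sign (P.ev (FreeGroup.of 1)) = 1
      rw [ev1, map_mul, P.z_mem.1, one_mul, σ_sign]
      by_cases h : P.tau = 1
      · rw [if_pos h, Odd.neg_one_pow (Nat.odd_iff.2 (htau.1 h))]; rfl
      · rw [if_neg h, Even.neg_one_pow (Nat.even_iff.2 (by have := htau.2; omega))]; rfl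
  | inv_of i h => rw [map_inv, sign_inv, h]
  | mul u v hu hv => rw [map_mul, map_mul, hu, hv, one_mul]

theorem sign_σ_odd (htau : ¬ (P.tau = 1 ↔ P.m % 2 = 1)) : sign P.σ = -1 := by
  rw [σ_sign]
  by_cases h : P.tau = 1
  · rw [if_pos h, Even.neg_one_pow (Nat.even_iff.2 (by by_contra h'; exact htau (iff_of_true h (by omega))))]
    rfl
  · rw [if_neg h, Odd.neg_one_pow (Nat.odd_iff.2 (by by_contra h'; exact htau (iff_of_false h (by omega))))]
    rfl

theorem presented :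
    ∃ θ : PresentedGroup (↑P.rels : Set (FreeGroup (Fin 2))) →* Equiv.Perm (Fin P.N), Function.Injective θ ∧
      altOn (Finset.univ : Finset (Fin P.N)) ≤ θ.range ∧ θ.range = P.ev.range := by
  have hv : ∀ w ∈ (↑P.rels : Set (FreeGroup (Fin 2))), FreeGroup.lift ![aPerm P.ι, P.z * P.σ] w = 1 := P.rels_valid
  have hθ : (PresentedGroup.toGroup hv).comp (PresentedGroup.mk _) = P.ev :=
    FreeGroup.ext_hom _ _ fun i => by
      show PresentedGroup.toGroup hv (PresentedGroup.of i) = P.ev (FreeGroup.of i)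
      rw [PresentedGroup.toGroup.of, ev, FreeGroup.lift_apply_of]
  obtain ⟨h1, h2⟩ := P.injective_of_rels (PresentedGroup.mk _) (mk_surj _) (fun w hw =>
    PresentedGroup.one_of_mem (rels := (↑P.rels : Set (FreeGroup (Fin 2))))
      (Finset.mem_coe.2 (List.mem_toFinset.2 hw))) _ hθ
  refine ⟨_, h1, h2, ?_⟩
  rw [← hθ, MonoidHom.range_comp, MonoidHom.range_eq_top.2 (mk_surj _), ← MonoidHom.range_eq_map]

theorem alt_presentation (htau : P.tau = 1 ↔ P.m % 2 = 1) :
    Nonempty (PresentedGroup (↑P.rels : Set (FreeGroup (Fin 2))) ≃* alternatingGroup (Fin P.N)) := by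
  obtain ⟨θ, h1, h2, h3⟩ := P.presented
  have h : θ.range = alternatingGroup (Fin P.N) := le_antisymm (h3.le.trans (P.range_alt htau)) (altOn_univ.symm.le.trans h2)
  exact ⟨(MonoidHom.ofInjective h1).trans (MulEquiv.subgroupCongr h)⟩

theorem sym_presentation (htau : ¬ (P.tau = 1 ↔ P.m % 2 = 1)) :
    Nonempty (PresentedGroup (↑P.rels : Set (FreeGroup (Fin 2))) ≃* Equiv.Perm (Fin P.N)) := by
  obtain ⟨θ, h1, h2, h3⟩ := P.presented
  have hσ : P.σ ∈ θ.range := by
    rw [h3, ← P.zσ_pow3, ← ev1]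
    exact pow_mem (show P.ev (FreeGroup.of 1) ∈ P.ev.range from ⟨_, rfl⟩) 3
  have h : θ.range = ⊤ := by
    refine eq_top_iff.2 fun π _ => ?_
    rcases Int.units_eq_one_or (sign π) with hπ | hπ
    · exact h2 ⟨hπ, fun v hv => absurd (Finset.mem_univ v) hv⟩
    · have : π * P.σ ∈ θ.range := h2 ⟨by rw [map_mul, hπ, P.sign_σ_odd htau]; rfl,
        fun v hv => absurd (Finset.mem_univ v) hv⟩
      have := mul_mem this hσ
      rwa [mul_assoc, P.σσ, mul_one] at this
  exact ⟨(MonoidHom.ofInjective h1).trans ((MulEquiv.subgroupCongr h).trans Subgroup.topEquiv)⟩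

end Par

end CfsgLib.Perm.AltBounded
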