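import Cfsg.Agent.Lib.Perm.AltBounded.Frame
import Cfsg.Agent.Lib.Perm.AltBounded.Glue

/-!
# Six relations in two generators for symmetric and alternating groups
-/

set_option autoImplicit false

open Equiv Equiv.Perm

namespace CfsgLib.Perm.AltBounded

namespace Par

variable (P : Par)

/-! ### supports -/

/-- the points outside the first cycle -/
def Rs : Finset (Fin P.N) := P.cmS.filter fun v => v.val ≠ 1 ∧ (P.m % 2 = 1 → v.val ≠ 2)

/-- the image of `Rs` under the second conjugator -/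
def Rs' : Finset (Fin P.N) := P.cmS.filter fun v => v.val ≠ P.x ∧ (P.m % 2 = 1 → v.val ≠ P.p)

theorem mem_Rs (v : Fin P.N) : v ∈ P.Rs ↔
    (v.val < P.c ∨ v.val = P.p ∨ v.val = P.p + 1) ∧ v.val ≠ 1 ∧ (P.m % 2 = 1 → v.val ≠ 2) := by
  simp [Rs, mem_cmS]

theorem mem_Rs' (v : Fin P.N) : v ∈ P.Rs' ↔
    (v.val < P.c ∨ v.val = P.p ∨ v.val = P.p + 1) ∧ v.val ≠ P.x ∧ (P.m % 2 = 1 → v.val ≠ P.p) := by
  simp [Rs', mem_cmS]

theorem e_fix_Rs (v : Fin P.N) (hv : v ∈ P.Rs) : P.e v = v := by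
  rw [mem_Rs] at hv
  obtain ⟨h1, h2, h3⟩ := hv
  refine Fin.ext ?_
  rw [e_val]
  have := P.hm
  by_cases hm : P.m % 2 = 1
  · have := h3 hm
    simp only [Par.c] at *
    split_ifs <;> omega
  · simp only [Par.c] at *
    split_ifs <;> omega

theorem commute_Rs_e {π : Equiv.Perm (Fin P.N)} (hπ : π ∈ altOn P.Rs) : Commute π P.e := by
  refine Perm.Disjoint.commute fun v => ?_
  by_cases hv : v ∈ P.Rs
  · exact Or.inr (P.e_fix_Rs v hv)
  · exact Or.inl (hπ.2 v hv)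

theorem commute_Rs_σ (htau : P.tau = 1 → P.m % 2 = 1) {π : Equiv.Perm (Fin P.N)} (hπ : π ∈ altOn P.Rs) :
    P.σ * π * P.σ = π := by
  have h : Commute π P.σ := by
    refine Perm.Disjoint.commute fun v => ?_
    by_cases hv : v ∈ P.Rs
    · refine Or.inr (Fin.ext ?_)
      rw [mem_Rs] at hv
      obtain ⟨h1, h2, h3⟩ := hv
      rw [σ_val]
      have := P.hm
      by_cases ht : P.tau = 1
      · have := h3 (htau ht)
        simp only [Par.c] at *
        split_ifs <;> omega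
      · simp only [Par.c] at *
        split_ifs <;> omega
    · exact Or.inl (hπ.2 v hv)
  rw [← h.eq, mul_assoc, P.σσ, mul_one]

theorem π_Rs (htau : P.tau = 1 ↔ P.m % 2 = 1) (v : Fin P.N) (hv : P.π v ∈ P.Rs') : v ∈ P.Rs := by
  by_contra hR
  have := P.hm
  have := P.p_odd
  have hN : P.N = P.p + 2 + P.m := rfl
  by_cases hcm : v ∈ P.cmS
  · rw [mem_Rs] at hR
    rw [mem_cmS] at hcm
    rw [mem_Rs'] at hv
    simp only [hcm, true_and] at hR
    unfold π at hv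
    by_cases h : P.m % 2 = 1
    · rw [if_pos ⟨h, htau.2 h⟩, Perm.mul_apply, Perm.mul_apply, π₀_val, swap_val, swap_val,
        V_val (show 3 < P.N by omega), V_val (show P.p < P.N by omega),
        V_val (show 0 < P.N by omega), V_val (show P.p + 1 < P.N by omega)] at hv
      have hv1 : v.val = 1 ∨ v.val = 2 := by omega
      obtain ⟨-, a2, a3⟩ := hv
      have a3' := a3 h
      simp only [Par.x] at a2
      rcases hv1 with e | e
      · rw [e, if_neg (by omega : ¬ (1 : ℕ) = 0), if_neg (by omega : ¬ (1 : ℕ) = P.p + 1),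
          if_neg (by omega : ¬ (1 : ℕ) = 3), if_neg (by omega : ¬ (1 : ℕ) = P.p),
          if_neg (by omega : ¬ P.m % 2 = 0), if_pos rfl] at a2
        omega
      · rw [e, if_neg (by omega : ¬ (2 : ℕ) = 0), if_neg (by omega : ¬ (2 : ℕ) = P.p + 1),
          if_neg (by omega : ¬ (2 : ℕ) = 3), if_neg (by omega : ¬ (2 : ℕ) = P.p),
          if_neg (by omega : ¬ P.m % 2 = 0), if_neg (by omega : ¬ (2 : ℕ) = 1),
          if_neg (by omega : ¬ (2 : ℕ) = 3), if_pos rfl] at a3'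
        exact a3' rfl
    · rw [if_neg (fun hh => h hh.1)] at hv
      unfold ρ at hv
      rw [if_neg (fun hh => h (htau.1 hh.2)), π₀_val, if_pos (by omega)] at hv
      have hv1 : v.val = 1 := by omega
      obtain ⟨-, a2, -⟩ := hv
      rw [hv1, if_pos rfl] at a2
      simp only [Par.x] at a2
      omega
  · rw [P.π_mem.2 v hcm] at hv
    rw [mem_Rs'] at hv
    rw [mem_cmS] at hcm
    exact hcm hv.1

theorem π_conj_Rs (htau : P.tau = 1 ↔ P.m % 2 = 1) {x : Equiv.Perm (Fin P.N)} (hx : x ∈ altOn P.Rs') :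
    P.π⁻¹ * x * P.π ∈ altOn P.Rs := by
  refine ⟨?_, fun v hv => ?_⟩
  · rw [map_mul, map_mul, sign_inv, hx.1, mul_one, Int.units_mul_self]
  · rw [Perm.mul_apply, Perm.mul_apply, hx.2 _ (fun h => hv (P.π_Rs htau v h)), ← Perm.mul_apply,
      inv_mul_cancel, Perm.one_apply]

theorem gen_cm {H : Subgroup (Equiv.Perm (Fin P.N))} (h1 : altOn P.Rs ≤ H) (h2 : altOn P.Rs' ≤ H) :
    altOn P.cmS ≤ H := by
  have := P.hm
  have := P.p_odd
  have e0 : (pt P.ι 0).val = 0 := by rw [pt_val, ZMod.val_zero]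
  refine altOn_le_of_base (A := pt P.ι 0) (B := ptB P.ι) (by rw [mem_cmS, e0]; simp only [Par.c]; omega)
    (by rw [mem_cmS, ptB_val]; omega) (pt_ne_ptB _ _) fun v hv k1 k2 => ?_
  rw [mem_cmS] at hv
  by_cases hR : v ∈ P.Rs
  · refine h1 (cyc_mem (pt_ne_ptB _ _) k1.symm k2.symm ?_ ?_ hR)
    · rw [mem_Rs, e0]; simp only [Par.c]; exact ⟨by omega, by omega, fun h => by omega⟩
    · rw [mem_Rs, ptB_val]; exact ⟨by omega, by omega, fun h => by omega⟩
  · refine h2 (cyc_mem (pt_ne_ptB _ _) k1.symm k2.symm ?_ ?_ ?_)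
    · rw [mem_Rs', e0]; simp only [Par.c, Par.x]; exact ⟨by omega, by omega, fun h => by omega⟩
    · rw [mem_Rs', ptB_val]; exact ⟨Or.inr (Or.inr rfl), by simp only [Par.x]; omega, fun _ => Nat.succ_ne_self _⟩
    · rw [mem_Rs] at hR
      rw [mem_Rs']
      have := Fin.val_ne_of_ne k1
      have := Fin.val_ne_of_ne k2
      rw [e0] at *
      rw [ptB_val] at *
      simp only [Par.c, Par.x] at *
      by_cases h : P.m % 2 = 1
      · simp only [h, true_implies] at hR ⊢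
        omega
      · simp only [h, false_implies, and_true] at hR ⊢
        omega

theorem gen_frame {H : Subgroup (Equiv.Perm (Fin P.N))} (h1 : altOn P.cmS ≤ H) (h2 : P.e ∈ H) :
    altOn (frameSet P.ι) ≤ H := by
  have := P.hm
  have := P.p_odd
  have hN : P.N = P.p + 2 + P.m := rfl
  refine altOn_le_of_orbit h1 (e := P.e) (fun x hx => mul_mem (mul_mem h2 hx) (inv_mem h2))
    (γ := V 1) (f := ptA P.ι) (f' := ptB P.ι) ?_ ?_ ?_ (ptA_ne_ptB _) ?_ ?_ ?_ ?_ ?_
  · rw [mem_cmS, V_val (show 1 < P.N by omega)]; simp only [Par.c]; omega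
  · rw [mem_cmS, ptA_val]; omega
  · rw [mem_cmS, ptB_val]; omega
  · intro h; have := congrArg Fin.val h; rw [V_val (show 1 < P.N by omega), ptA_val] at this; omega
  · intro h; have := congrArg Fin.val h; rw [V_val (show 1 < P.N by omega), ptB_val] at this; omega
  · refine Fin.ext ?_
    rw [e_val, ptA_val]
    simp only [Par.c]
    split_ifs <;> omega
  · refine Fin.ext ?_
    rw [e_val, ptB_val]
    simp only [Par.c]
    split_ifs <;> omega
  · intro i hi
    rw [mem_frame] at hi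
    by_cases hc : P.c ≤ i.val ∧ i.val < P.p
    · refine Or.inr ⟨i.val - P.c + 1, Fin.ext ?_⟩
      simp only [Par.c] at hc
      rw [e_pow _ _ (by simp only [Par.c]; omega), if_neg (by omega)]
      simp only [Par.c]
      omega
    · refine Or.inl ?_
      rw [mem_cmS]
      simp only [Par.c] at *
      omega

theorem e_mem : P.e ∈ altOn (frameSet P.ι) := by
  refine ⟨P.e_sign, fun v hv => Fin.ext ?_⟩
  rw [mem_frame] at hv
  rw [e_val]
  have := P.hm
  simp only [Par.c]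
  split_ifs <;> omega

theorem e_f'_commute : Commute P.e P.f' := by
  refine Perm.Disjoint.commute fun v => ?_
  have := P.hm
  have := P.p_odd
  have := v.2
  by_cases hv : v.val = 1 ∨ (P.c ≤ v.val ∧ v.val < P.p) ∨ (v.val = 2 ∧ P.m % 2 = 1)
  · refine Or.inr (Fin.ext ?_)
    rw [f'_val]
    simp only [Par.c, Par.x, Par.N] at *
    split_ifs <;> omega
  · refine Or.inl (Fin.ext ?_)
    rw [e_val]
    simp only [Par.c, Par.x, Par.N] at *
    split_ifs <;> omega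

theorem z_mem : P.z ∈ altOn P.cmS := by
  have := P.hm
  refine cyc_mem (ptA_ne_ptB _) (pt_ne_ptA _ _).symm (pt_ne_ptB _ _).symm ?_ ?_ ?_
  · rw [mem_cmS, ptA_val]; omega
  · rw [mem_cmS, ptB_val]; omega
  · rw [mem_cmS, pt_val, ZMod.val_zero]; simp only [Par.c]; omega

theorem z_cube : P.z ^ 3 = 1 := by
  rw [← (cyc_isThreeCycle (ptA_ne_ptB P.ι) (pt_ne_ptA P.ι 0).symm (pt_ne_ptB P.ι 0).symm).orderOf, z,
    pow_orderOf_eq_one]

theorem zσ_pow3 : (P.z * P.σ) ^ 3 = P.σ := by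
  rw [P.σ_z.symm.mul_pow, z_cube, one_mul, pow_succ, pow_two, P.σσ, one_mul]

theorem zσ_pow4 : (P.z * P.σ) ^ 4 = P.z := by
  rw [pow_succ, zσ_pow3, ← mul_assoc, P.σ_z.eq, mul_assoc, P.σσ, mul_one]

theorem aPerm_pow_cyc : ∀ i : ℕ,
    aPerm P.ι ^ i * P.z * (aPerm P.ι ^ i)⁻¹ = cyc (ptA P.ι) (ptB P.ι) (pt P.ι i)
  | 0 => by simp [z]
  | i + 1 => by
    rw [show aPerm P.ι ^ (i + 1) * P.z * (aPerm P.ι ^ (i + 1))⁻¹ =
      aPerm P.ι * (aPerm P.ι ^ i * P.z * (aPerm P.ι ^ i)⁻¹) * (aPerm P.ι)⁻¹ by rw [pow_succ']; group,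
      aPerm_pow_cyc i, aPerm_cyc, Nat.cast_add, Nat.cast_one]

theorem shiftT_period : aPerm P.ι ^ P.p = 1 := by
  rw [aPerm, ← map_pow, shiftT_pow, ZMod.natCast_self]
  rw [show Equiv.sumCongr (Equiv.addRight (0 : ZMod P.p)) (Equiv.refl Bool) = 1 from
    Equiv.ext fun v => by rcases v with v | v <;> simp, map_one]

/-! ### the words -/

/-- evaluation of words -/
def ev : FreeGroup (Fin 2) →* Equiv.Perm (Fin P.N) := FreeGroup.lift ![aPerm P.ι, P.z * P.σ]

theorem ev0 : P.ev (FreeGroup.of 0) = aPerm P.ι := by simp [ev]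
theorem ev1 : P.ev (FreeGroup.of 1) = P.z * P.σ := by simp [ev]

/-- the group of words in the frame -/
def Wd : Subgroup (FreeGroup (Fin 2)) :=
  Subgroup.closure (Set.range fun i : ℕ => FreeGroup.of 0 ^ i * FreeGroup.of 1 ^ 4 * (FreeGroup.of 0 ^ i)⁻¹)

theorem ev_gen (i : ℕ) : P.ev (FreeGroup.of 0 ^ i * FreeGroup.of 1 ^ 4 * (FreeGroup.of 0 ^ i)⁻¹) =
    cyc (ptA P.ι) (ptB P.ι) (pt P.ι i) := by
  rw [map_mul, map_mul, map_inv, map_pow, map_pow, ev0, ev1, zσ_pow4, aPerm_pow_cyc]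

theorem exists_lift {π : Equiv.Perm (Fin P.N)} (hπ : π ∈ altOn (frameSet P.ι)) :
    ∃ w, w ∈ Wd ∧ P.ev w = π := by
  have h : altOn (frameSet P.ι) ≤ Wd.map P.ev :=
    altOn_le_of_base (A := ptA P.ι) (B := ptB P.ι) ((mem_frameSet _).2 (Or.inl rfl))
      ((mem_frameSet _).2 (Or.inr (Or.inl rfl))) (ptA_ne_ptB _) fun v hv h1 h2 => by
      obtain h | h | ⟨i, rfl⟩ := (mem_frameSet _).1 hv
      · exact absurd h h1
      · exact absurd h h2
      · refine Subgroup.mem_map.2 ⟨_, Subgroup.subset_closure ⟨i.val, rfl⟩, ?_⟩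
        rw [ev_gen, ZMod.natCast_zmod_val]
  obtain ⟨w, hw, rfl⟩ := Subgroup.mem_map.1 (h hπ)
  exact ⟨w, hw, rfl⟩

open Classical in
/-- a word for an element of the frame group -/
noncomputable def lft (π : Equiv.Perm (Fin P.N)) : FreeGroup (Fin 2) :=
  if h : π ∈ altOn (frameSet P.ι) then (P.exists_lift h).choose else 1

theorem lft_spec {π : Equiv.Perm (Fin P.N)} (hπ : π ∈ altOn (frameSet P.ι)) :
    P.lft π ∈ Wd ∧ P.ev (P.lft π) = π := by
  rw [lft, dif_pos hπ]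
  exact (P.exists_lift hπ).choose_spec

theorem ev_Wd {w : FreeGroup (Fin 2)} (hw : w ∈ Wd) : P.ev w ∈ altOn (frameSet P.ι) := by
  induction hw using Subgroup.closure_induction with
  | mem x hx => obtain ⟨i, rfl⟩ := hx; rw [ev_gen]; exact cyc_mem_frame _ _
  | one => rw [map_one]; exact one_mem _
  | mul u v _ _ hu hv => rw [map_mul]; exact mul_mem hu hv
  | inv u _ hu => rw [map_inv]; exact inv_mem hu

theorem eval_Wd {G : Type*} [Group G] (ω : FreeGroup (Fin 2) →* G) {φ : Equiv.Perm (Fin P.N) → G}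
    (hφ : IsHomOn (altOn (frameSet P.ι)) φ)
    (h : ∀ i : ℕ, φ (cyc (ptA P.ι) (ptB P.ι) (pt P.ι i)) =
      ω (FreeGroup.of 0) ^ i * ω (FreeGroup.of 1) ^ 4 * (ω (FreeGroup.of 0) ^ i)⁻¹)
    {w : FreeGroup (Fin 2)} (hw : w ∈ Wd) : ω w = φ (P.ev w) := by
  induction hw using Subgroup.closure_induction with
  | mem x hx => obtain ⟨i, rfl⟩ := hx; rw [ev_gen, h]; simp only [map_mul, map_inv, map_pow]
  | one => rw [map_one, map_one, hφ.one]
  | mul u v hu hv iu iv => rw [map_mul, map_mul, iu, iv, hφ _ (P.ev_Wd hu) _ (P.ev_Wd hv)]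
  | inv u hu iu => rw [map_inv, map_inv, iu, hφ.inv (P.ev_Wd hu)]

/-! ### the relators -/

theorem exists_root : ∃ r : (ZMod P.p)ˣ, ∀ x : (ZMod P.p)ˣ, x ∈ Subgroup.zpowers r :=
  IsCyclic.exists_generator

/-- a primitive root -/
noncomputable def root : (ZMod P.p)ˣ := P.exists_root.choose

theorem p_ne_two : P.p ≠ 2 := by have := P.hm; omega

/-- the action on the two extra points -/
noncomputable def β : Equiv.Perm Bool := (exists_mul P.p_ne_two P.root).choose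

theorem β_spec : sign (mulT P.root P.β) = 1 ∧ (P.β = 1 ∨ P.β = Equiv.swap false true) :=
  (exists_mul P.p_ne_two P.root).choose_spec

/-- the exponent -/
noncomputable def s : ℕ := (((P.root : ZMod P.p) - 1)⁻¹).val

theorem s_spec : (P.s : ZMod P.p) * ((P.root : ZMod P.p) - 1) = 1 := by
  rw [s, ZMod.natCast_zmod_val]
  refine inv_mul_cancel₀ fun h => ?_
  have h1 : P.root = 1 := Units.ext (sub_eq_zero.1 h)
  have h2 : ((-1 : (ZMod P.p)ˣ)) = 1 := by
    have := P.exists_root.choose_spec (-1 : (ZMod P.p)ˣ)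
    change (-1 : (ZMod P.p)ˣ) ∈ Subgroup.zpowers P.root at this
    rw [h1, Subgroup.zpowers_one_eq_bot, Subgroup.mem_bot] at this
    exact this
  have h3 : ((-1 : ZMod P.p)) = 1 := by simpa using congrArg Units.val h2
  have h4 : ((2 : ℕ) : ZMod P.p) = 0 := by
    push_cast
    linear_combination (-1 : ZMod P.p) * h3
  rw [ZMod.natCast_eq_zero_iff] at h4
  exact P.p_ne_two ((Nat.prime_dvd_prime_iff_eq P.hp Nat.prime_two).1 h4)

/-- the word for the multiplication -/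
noncomputable def wb : FreeGroup (Fin 2) := P.lft (bPerm P.ι P.root P.β)

/-- the exponent of the last relator -/
def L : ℕ := if P.tau = 1 ↔ P.m % 2 = 1 then 2 * P.m + 1 else 0

open Classical in
/-- the third relator's right hand side -/
noncomputable def zz : FreeGroup (Fin 2) := if P.β = 1 then FreeGroup.of 1 ^ 4 else (FreeGroup.of 1 ^ 4)⁻¹

/-- the six relators -/
noncomputable def relList : List (FreeGroup (Fin 2)) :=
  [FreeGroup.of 0 ^ P.p * (FreeGroup.of 1 ^ 6)⁻¹,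
   P.wb * FreeGroup.of 0 ^ P.s * P.wb⁻¹ * (FreeGroup.of 0 ^ (P.s + 1))⁻¹,
   P.wb * FreeGroup.of 1 ^ 4 * P.wb⁻¹ * P.zz⁻¹,
   FreeGroup.of 1 ^ 4 * (FreeGroup.of 0 * FreeGroup.of 1 ^ 4 * (FreeGroup.of 0)⁻¹) *
     (FreeGroup.of 1 ^ 4 * (FreeGroup.of 0 * FreeGroup.of 1 ^ 4 * (FreeGroup.of 0)⁻¹)),
   FreeGroup.of 1 ^ 3 * P.lft P.u * (FreeGroup.of 1 ^ 3)⁻¹ * (P.lft (P.σ * P.u * P.σ))⁻¹,
   P.lft P.e * (FreeGroup.of 1 ^ 3 * P.lft (P.ρ * P.e * P.ρ⁻¹) * FreeGroup.of 1 ^ 3) * (P.lft P.e)⁻¹ *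
     (FreeGroup.of 1 ^ 3 * P.lft (P.ρ * P.e * P.ρ⁻¹) * FreeGroup.of 1 ^ 3)⁻¹ *
     ((FreeGroup.of 1 ^ 3 * P.lft P.e) ^ P.L)⁻¹]

/-- the six relators -/
noncomputable def rels : Finset (FreeGroup (Fin 2)) := P.relList.toFinset

theorem card_rels : P.rels.card ≤ 6 := (List.toFinset_card_le _).trans (by simp [relList])

theorem u_frame : P.u ∈ altOn (frameSet P.ι) := altOn_mono P.cmS_le P.u_mem

theorem σuσ_cm : P.σ * P.u * P.σ ∈ altOn P.cmS := by
  have h := P.u_mem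
  refine ⟨?_, fun v hv => ?_⟩
  · rw [map_mul, map_mul, h.1, mul_one, Int.units_mul_self]
  · rw [Perm.mul_apply, Perm.mul_apply, h.2 (P.σ v), ← Perm.mul_apply, P.σσ, Perm.one_apply]
    intro h'
    apply hv
    rw [← cm_eq, Finset.mem_filter] at h' ⊢
    have e : P.σ (P.σ v) = v := by rw [← Perm.mul_apply, P.σσ, Perm.one_apply]
    rw [e] at h'
    exact ⟨h'.2, h'.1⟩

theorem f_frame : P.ρ * P.e * P.ρ⁻¹ ∈ altOn (frameSet P.ι) :=
  mul_mem (mul_mem (altOn_mono P.cmS_le P.ρ_mem) P.e_mem) (inv_mem (altOn_mono P.cmS_le P.ρ_mem))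

theorem bPerm_frame : bPerm P.ι P.root P.β ∈ altOn (frameSet P.ι) := via_mem _ P.β_spec.1

theorem rels_valid : ∀ w ∈ (↑P.rels : Set (FreeGroup (Fin 2))), P.ev w = 1 := by
  intro w hw
  have hb := (P.lft_spec P.bPerm_frame).2
  have hσ : P.σ⁻¹ = P.σ := inv_eq_of_mul_eq_one_right P.σσ
  simp only [rels, List.coe_toFinset, relList, Set.mem_setOf_eq, List.mem_cons, List.not_mem_nil, or_false] at hw
  rcases hw with rfl | rfl | rfl | rfl | rfl | rfl
  · rw [map_mul, map_inv, map_pow, map_pow, ev0, ev1, shiftT_period, show 6 = 3 * 2 from rfl, pow_mul, zσ_pow3,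
      pow_two, P.σσ, inv_one, mul_one]
  · simp only [map_mul, map_inv, map_pow, wb, hb, ev0]
    rw [← conj_pow, bPerm_aPerm, ← pow_mul, mul_inv_eq_one, pow_eq_pow_mod _ P.shiftT_period,
      pow_eq_pow_mod (P.s + 1) P.shiftT_period]
    congr 1
    have h : (((P.root : ZMod P.p).val * P.s : ℕ) : ZMod P.p) = ((P.s + 1 : ℕ) : ZMod P.p) := by
      push_cast
      rw [ZMod.natCast_zmod_val]
      linear_combination P.s_spec
    exact (ZMod.natCast_eq_natCast_iff _ _ _).1 h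
  · simp only [map_mul, map_inv, map_pow, wb, hb, ev1, zσ_pow4, zz]
    rw [z, bPerm_cyc, mul_zero, mul_inv_eq_one]
    rcases P.β_spec.2 with h | h
    · rw [if_pos h, map_pow, ev1, zσ_pow4, h]; rfl
    · rw [if_neg (by rw [h]; exact fun e => absurd (DFunLike.congr_fun e false) (by decide)), map_inv, map_pow,
        ev1, zσ_pow4, h, z, cyc_inv (ptA_ne_ptB _) (pt_ne_ptA _ _).symm (pt_ne_ptB _ _).symm]
      rfl
  · simp only [map_mul, map_inv, map_pow, ev0, ev1, zσ_pow4]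
    have h : aPerm P.ι * P.z * (aPerm P.ι)⁻¹ = cyc (ptA P.ι) (ptB P.ι) (pt P.ι 1) := by
      rw [z, aPerm_cyc, zero_add]
    rw [h, z]
    have n01 : pt P.ι 0 ≠ pt P.ι (1 : ZMod P.p) := fun e => zero_ne_one (pt_inj P.ι e)
    refine Equiv.ext fun v => ?_
    simp only [Perm.mul_apply, Perm.one_apply]
    have hAB := ptA_ne_ptB P.ι
    have a0 := (pt_ne_ptA P.ι 0).symm
    have b0 := (pt_ne_ptB P.ι 0).symm
    have a1 := (pt_ne_ptA P.ι (1 : ZMod P.p)).symm
    have b1 := (pt_ne_ptB P.ι (1 : ZMod P.p)).symm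
    rcases eq_or_ne v (ptA P.ι) with rfl | v1
    · rw [cyc_apply_A hAB a1 b1, cyc_apply_B a0 b0, cyc_apply_of_ne a0.symm b0.symm n01, cyc_apply_i]
    rcases eq_or_ne v (ptB P.ι) with rfl | v2
    · rw [cyc_apply_B a1 b1, cyc_apply_of_ne a1.symm b1.symm n01.symm, cyc_apply_i, cyc_apply_A hAB a0 b0]
    rcases eq_or_ne v (pt P.ι (1 : ZMod P.p)) with rfl | v3
    · rw [cyc_apply_i, cyc_apply_A hAB a0 b0, cyc_apply_B a1 b1, cyc_apply_of_ne a1.symm b1.symm n01.symm]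
    rcases eq_or_ne v (pt P.ι 0) with rfl | v4
    · rw [cyc_apply_of_ne v1 v2 v3, cyc_apply_i, cyc_apply_A hAB a1 b1, cyc_apply_B a0 b0]
    rw [cyc_apply_of_ne v1 v2 v3, cyc_apply_of_ne v1 v2 v4, cyc_apply_of_ne v1 v2 v3, cyc_apply_of_ne v1 v2 v4]
  · simp only [map_mul, map_inv, map_pow, ev1, zσ_pow3, (P.lft_spec P.u_frame).2,
      (P.lft_spec (altOn_mono P.cmS_le P.σuσ_cm)).2, hσ, mul_inv_cancel]
  · simp only [map_mul, map_inv, map_pow, ev1, zσ_pow3, (P.lft_spec P.e_mem).2, (P.lft_spec P.f_frame).2]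
    rw [P.ρ_e, show P.σ * (P.σ * P.f' * P.σ) * P.σ = (P.σ * P.σ) * P.f' * (P.σ * P.σ) by group, P.σσ, one_mul,
      mul_one, show P.e * P.f' * P.e⁻¹ * P.f'⁻¹ = 1 by rw [P.e_f'_commute.eq]; group, one_mul, inv_eq_one]
    unfold L
    split_ifs with h
    · exact P.σe_pow h
    · exact pow_zero _

end Par

end CfsgLib.Perm.AltBounded
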